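/-
Astill's 3-local characterisation of the extensions of `Ω₈⁺(2)` by a triality (helper35): definitions and the
interfaces between the parts.
-/
import Cfsg.Agent.Rec.S9F
import Cfsg.Agent.Spor.O8D

set_option autoImplicit false
set_option synthInstance.maxSize 4096

namespace CL.Ast

open Subgroup Cfsg CL.Grp CL.McL3 CL.McL3.C27 CL.S9R Equiv

universe u

variable {G : Type*} [Group G]

/-! ### The group `3 ^ 3` with monomial automizer -/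

/-- A quaternion group of order eight with centre generated by `t`. -/
structure Q8 (t : G) (P : Subgroup G) : Prop where
  card : Nat.card P = 8
  t2 : t * t = 1
  t1 : t ≠ 1
  mem : t ∈ P
  sq : ∀ p ∈ P, p = 1 ∨ p = t ∨ p * p = t

/-- An elementary abelian group of order 27 whose normalizer acts monomially. -/
structure Mn (X : Subgroup G) (e : Fin 3 → G) : Prop where
  card : Nat.card X = 27
  gen : X = closure (Set.range e)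
  cube : ∀ a ∈ X, a ^ 3 = 1
  comm : ∀ a ∈ X, ∀ b ∈ X, Commute a b
  cent3 : ∀ g ∈ centralizer (X : Set G), ∀ k : ℕ, g ^ 3 ^ k = 1 → g ∈ X
  mono : ∀ g ∈ normalizer (X : Set G), ∃ a, Act e g a

/-- The hypotheses of the normality lemma for `3 ^ 3`. -/
structure Sy (X : Subgroup G) (e : Fin 3 → G) (q : G) : Prop extends Mn X e where
  cent : centralizer (X : Set G) ≤ X
  diag : ∀ s, Re e (1, s)
  ar : Act e q mr
  q3 : q ^ 3 = 1
  nq : ∀ g, g * q * g⁻¹ ∉ X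
  cx : centralizer {mon e 1} ≤ normalizer (X : Set G)
  sig : ∀ K : Subgroup G, (Nat.card K).Coprime 3 → X ≤ normalizer (K : Set G) → K = ⊥

def dot (v w : V3) : Fin 3 := v 0 * w 0 + v 1 * w 1 + v 2 * w 2

/-- singular vectors -/
def Sg (w : V3) : Prop := ∀ i, w i ≠ 0

instance : DecidablePred Sg := fun _ => inferInstanceAs (Decidable (∀ _, _))

def Nq (v w : V3) : Prop := v ≠ w ∧ v ≠ -w

instance (v w : V3) : Decidable (Nq v w) := inferInstanceAs (Decidable (_ ∧ _))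

/-- representatives of the four singular points, in any order -/
def Qd (A B C D : V3) : Prop := Sg A ∧ Sg B ∧ Sg C ∧ Sg D ∧ Nq A B ∧ Nq A C ∧ Nq A D ∧ Nq B C ∧ Nq B D ∧ Nq C D

instance (A B C D : V3) : Decidable (Qd A B C D) := inferInstanceAs (Decidable (_ ∧ _))

def w1 : V3 := ![1, 1, 1]
def w2 : V3 := ![1, 1, 2]
def w3 : V3 := ![1, 2, 1]
def w4 : V3 := ![2, 1, 1]

/-! ### The centralizer of the involution `t` -/

/-- The part of the hypotheses on `H = C(t)` that does not mention the quaternion groups. -/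
structure HB (t : G) (X : Subgroup G) (e : Fin 3 → G) (q : G) : Prop extends Mn X e where
  t2 : t * t = 1
  t1 : t ≠ 1
  cen : ∀ g, g * t = t * g
  cent : ∀ g ∈ centralizer (X : Set G), g ∈ X ∨ g * t ∈ X
  diag : ∀ s, Re e (1, s)
  ar : Act e q mr
  q3 : q ^ 3 = 1
  nq : ∀ g, g * q * g⁻¹ ∉ X
  sq : ∀ n ∈ normalizer (X : Set G), n * n ≠ t
  nc : ∀ n ∈ normalizer (X : Set G), ∀ u ∈ normalizer (X : Set G), n * u * n⁻¹ ≠ u * t
  long : ∀ i, centralizer {e i} ≤ normalizer (X : Set G)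

/-- The hypotheses on `H` with one quaternion group. -/
structure HS0 (t : G) (X : Subgroup G) (e : Fin 3 → G) (q : G) (P : Subgroup G) : Prop extends HB t X e q where
  q8 : Q8 t P
  nz : ∀ g, g * mon e 1 * g⁻¹ ∈ zpowers (mon e 1) → g ∈ normalizer (P : Set G)
  cz : ∀ g, g * mon e 1 = mon e 1 * g → ∃ p ∈ P, ∃ n ∈ normalizer (X : Set G), g = p * n
  cP : ∀ v, dot v 1 = 0 → ∀ p ∈ P, mon e v * p = p * mon e v
  ncP : ∃ p ∈ P, e 0 * p ≠ p * e 0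

/-- The hypotheses on `H` with the four quaternion groups. -/
structure HS (t : G) (X : Subgroup G) (e : Fin 3 → G) (q : G) (P : V3 → Subgroup G) : Prop extends HB t X e q where
  q8 : ∀ w, Sg w → Q8 t (P w)
  negP : ∀ w, Sg w → P (-w) = P w
  cjP : ∀ {n a} (w), Act e n a → Sg w → ∀ p ∈ P w, n * p * n⁻¹ ∈ P (av a w)
  nz : ∀ w g, Sg w → g * mon e w * g⁻¹ ∈ zpowers (mon e w) → g ∈ normalizer (P w : Set G)
  cz : ∀ w g, Sg w → g * mon e w = mon e w * g → ∃ p ∈ P w, ∃ n ∈ normalizer (X : Set G), g = p * n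
  cP : ∀ v w, Sg w → dot v w = 0 → ∀ p ∈ P w, mon e v * p = p * mon e v
  fp : ∀ v w, Sg w → dot v w ≠ 0 → ∀ p ∈ P w, mon e v * p * (mon e v)⁻¹ * p⁻¹ ∈ zpowers t → p ∈ zpowers t

/-- An involution of `N(X)` that centralizes a long vector. -/
def Good (t : G) (X : Subgroup G) (e : Fin 3 → G) (u : G) : Prop :=
  u ∈ normalizer (X : Set G) ∧ u * u = 1 ∧ u ∉ zpowers t ∧ ∃ k, u * e k = e k * u

/-- `u` is conjugate to `u * t`. -/
def Cl (t u : G) : Prop := ∃ g, g * u * g⁻¹ = u * t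

/-- The product of the four quaternion groups. -/
def RR (P : V3 → Subgroup G) : Subgroup G := P w1 ⊔ P w2 ⊔ P w3 ⊔ P w4

structure HS1 (t : G) (X : Subgroup G) (e : Fin 3 → G) (q : G) (P : V3 → Subgroup G) : Prop
    extends HS t X e q P where
  fu : ∀ u u' g, Good t X e u → Good t X e u' → g * u * g⁻¹ = u' → ∃ n ∈ normalizer (X : Set G), n * u * n⁻¹ = u'
  genK : ∀ K M : Subgroup G, (Nat.card K).Coprime 3 → X ≤ normalizer (K : Set G) → t ∈ M →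
    (∀ w, Sg w → ∀ p ∈ K, p ∈ P w → p ∈ M) → K ≤ M
  x3 : ∀ g, g ^ 3 = 1 → (∃ k, k * g * k⁻¹ ∈ X) ∨ IsConj q g ∨ IsConj q⁻¹ g

structure HS2 (t : G) (X : Subgroup G) (e : Fin 3 → G) (q : G) (P : V3 → Subgroup G) : Prop
    extends HS1 t X e q P where
  cm : ∀ v w, Sg v → Sg w → Nq v w → ∀ a ∈ P v, ∀ b ∈ P w, a * b = b * a

structure HS3 (t : G) (X : Subgroup G) (e : Fin 3 → G) (q : G) (P : V3 → Subgroup G) : Prop
    extends HS2 t X e q P where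
  dec : ∀ {A B C D}, Qd A B C D → ∀ v ∈ RR P, ∃ a ∈ P A, ∃ b ∈ P B, ∃ c ∈ P C, ∃ d ∈ P D, v = a * b * c * d
  ind : ∀ {A B C D}, Qd A B C D → ∀ a ∈ P A, ∀ b ∈ P B, ∀ c ∈ P C, ∀ d ∈ P D, a * b * c * d ∈ zpowers t →
    a ∈ zpowers t ∧ b ∈ zpowers t ∧ c ∈ zpowers t ∧ d ∈ zpowers t
  PR : ∀ w, Sg w → P w ≤ RR P
  cardR : Nat.card (RR P) = 512
  extra : IsExtraspecial 2 (RR P)
  nR : normalizer (X : Set G) ≤ normalizer (RR P : Set G)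
  RN : ∀ v ∈ RR P, v ∈ normalizer (X : Set G) → v ∈ zpowers t
  sqR : ∀ v ∈ RR P, v * v ∈ zpowers t
  cmR : ∀ v ∈ RR P, ∀ w ∈ RR P, v * w * v⁻¹ * w⁻¹ ∈ zpowers t
  clR : ∀ v ∈ RR P, v ∉ zpowers t → ∃ w ∈ RR P, w * v * w⁻¹ = v * t

/-- `g` lies in `R N(X)` and induces the monomial matrix `a` on `X R / R`. -/
def Mu (X : Subgroup G) (e : Fin 3 → G) (P : V3 → Subgroup G) (g : G) (a : Mo) : Prop :=
  ∃ v ∈ RR P, ∃ n ∈ normalizer (X : Set G), Act e n a ∧ g = v * n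

structure HS4 (t : G) (X : Subgroup G) (e : Fin 3 → G) (q : G) (P : V3 → Subgroup G) : Prop
    extends HS3 t X e q P where
  nrm : ∀ g ∈ normalizer (RR P : Set G), ∃ a, Mu X e P g a

/-- The involutions of `R N(X)` modulo `t`. -/
def Cls (t : G) (X : Subgroup G) (e : Fin 3 → G) (P : V3 → Subgroup G) : Prop :=
  ∀ v ∈ RR P, ∀ n a, Act e n a → v * n * (v * n) ∈ zpowers t → n * n = 1 ∧
    (v * n ∈ zpowers t ∨ Cl t (v * n) ∨ Good t X e n ∧ ∃ w ∈ RR P, w * (v * n) * w⁻¹ = n ∨ w * (v * n) * w⁻¹ = n * t) ∧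
    (Good t X e n → a.1 = 1 → ∃ w ∈ RR P, w * (v * n) * w⁻¹ = n ∨ w * (v * n) * w⁻¹ = n * t)

structure HS5 (t : G) (X : Subgroup G) (e : Fin 3 → G) (q : G) (P : V3 → Subgroup G) : Prop
    extends HS4 t X e q P where
  cls : Cls t X e P
  odd : Odd (normalizer (RR P : Set G)).index

structure HS6 (t : G) (X : Subgroup G) (e : Fin 3 → G) (q : G) (P : V3 → Subgroup G) : Prop
    extends HS4 t X e q P where
  sc : ∀ v ∈ RR P, ∀ g ∈ normalizer (RR P : Set G), IsConj v g → g ∈ RR P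
  odd : Odd (normalizer (RR P : Set G)).index

structure HS7 (t : G) (X : Subgroup G) (e : Fin 3 → G) (q : G) (P : V3 → Subgroup G) : Prop
    extends HS3 t X e q P where
  all : ∀ g, ∃ a, Mu X e P g a

/-- What is exported from the analysis of `H`. -/
structure HX (t : G) (X : Subgroup G) (e : Fin 3 → G) (q : G) (R T D : Subgroup G) (μ : G → Mo)
    (r : G → CL.O8.X) : Prop where
  extra : IsExtraspecial 2 R
  cardR : Nat.card R = 512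
  tR : t ∈ R
  nR : ∀ g, g ∈ normalizer (R : Set G)
  cR : centralizer (R : Set G) ≤ R
  ncp : ∃ p ∈ R, e 0 * p ≠ p * e 0
  μmul : ∀ g h, μ (g * h) = mm (μ g) (μ h)
  μact : ∀ g a, Act e g a → μ g = a
  μR : ∀ v ∈ R, μ v = m1
  dec : ∀ g, ∃ v ∈ R, ∃ n ∈ normalizer (X : Set G), g = v * n ∧ Act e n (μ g)
  memD : ∀ g, g ∈ D ↔ (μ g).1 = 1
  rmul : ∀ g ∈ D, ∀ h ∈ D, r (g * h) = r g * r h
  rsurj : ∀ w, ∃ g ∈ D, r g = w
  rker : ∀ g ∈ D, r g = 1 ↔ g ∈ R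
  Rgen : ∀ K : Subgroup G, (∀ x ∈ X, ∀ p ∈ R, x * p * x⁻¹ * p⁻¹ ∈ K) → R ≤ K
  T2 : IsPGroup 2 T
  tT : t ∈ T
  Tτ : ∀ τ, τ * τ = 1 → Act e τ mτ → ∀ p ∈ T, τ * p = p * τ
  Tc : ∀ g, (∀ p ∈ T, g * p = p * g) → g * mon e ![1, 1, 0] = mon e ![1, 1, 0] * g
  Tp : ∃ p ∈ T, (mon e ![1, 1, 0] * p * (mon e ![1, 1, 0])⁻¹ * p⁻¹) ^ 2 = t
  x2 : ∀ x ∈ X, ∀ g h, (g * x * g⁻¹ * h * (g * x * g⁻¹)⁻¹ * h⁻¹) ^ 4 = 1 →
    (g * x * g⁻¹ * h * (g * x * g⁻¹)⁻¹ * h⁻¹) ^ 2 ∈ zpowers t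
  x3 : ∀ g, g ^ 3 = 1 → (∃ k, k * g * k⁻¹ ∈ X) ∨ IsConj q g ∨ IsConj q⁻¹ g

/-! ### Coordinates on `J = 3 ^ 4` -/

def e4 (i : Fin 4) : V := Pi.single i 1
def zv : V := ![0, 1, 1, 1]
def mv : V := ![0, 1, 2, 0]
def yv : V := ![1, 1, 2, 0]
def qf (v : V) : ZMod 3 := v 0 * v 0 + v 1 * v 1 + v 2 * v 2 + v 3 * v 3
def tM (v : V) : V := ![-v 0, v 1, v 2, v 3]
def qM (v : V) : V := ![v 0, v 3, v 1, v 2]
def nM (v : V) : V := ![v 0 - (v 1 + v 2 + v 3), v 1 + (v 0 + v 1 + v 2 + v 3), v 2 + (v 0 + v 1 + v 2 + v 3),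
  v 3 + (v 0 + v 1 + v 2 + v 3)]
def τM (v : V) : V := ![v 0, v 2, v 1, v 3]
def xM (v : V) : V := ![v 1, -v 2, -v 0, v 3]
def tl (v : V) : V3 := fun i => v i.succ
def up (v : V3) : V := ![0, v 0, v 1, v 2]
/-- the monomial matrix with entry `ε` at the first place -/
def ext (ε : ℤˣ) (a : Mo) (v : V) : V := up (av a (tl v)) + ((ε : ℤ) • v 0) • e4 0

/-- The hypotheses of the theorem. -/
structure Hyp (z t : G) (Q P : Subgroup G) : Prop where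
  oz : orderOf z = 3
  c3 : ¬ 3 ^ 7 ∣ Nat.card G
  cQ : Nat.card Q = 243
  Q3 : ∀ a ∈ Q, a ^ 3 = 1
  zQ : z ∈ Q
  Qz : ∀ a ∈ Q, a * z = z * a
  nQ : ∀ g, g * z * g⁻¹ ∈ zpowers z → g ∈ normalizer (Q : Set G)
  cmQ : ∀ a ∈ Q, ∀ b ∈ Q, a * b * a⁻¹ * b⁻¹ ∈ zpowers z
  ZQ : ∀ g, (∀ b ∈ Q, g * b = b * g) → g ∈ zpowers z
  q8 : Q8 t P
  Pz : ∀ p ∈ P, p * z = z * p
  tc : ∀ g, g * z = z * g → g * t * g⁻¹ * t⁻¹ ∈ Q
  c2 : Nat.card (Q ⊓ centralizer {t} : Subgroup G) = 27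
  PQ : ∀ p ∈ P, ∀ a ∈ Q, a * t = t * a → p * a = a * p
  s3 : ∀ s, s * z = z * s → s ^ 3 ∈ Q → s ∉ Q → ∀ p ∈ P, s * p * s⁻¹ * p⁻¹ ∈ Q → p ∈ zpowers t
  dec : (∀ s, s * z = z * s → s ^ 3 ∈ Q → s ∉ Q → ∀ g, g * z = z * g → ∃ a ∈ Q, ∃ p ∈ P, ∃ i : ℕ, g = a * p * s ^ i) ∨
    ∃ τ, τ * τ = 1 ∧ τ ∉ zpowers t ∧ τ * z = z * τ ∧ (∀ p ∈ P, τ * p = p * τ) ∧
      (∀ g, g * z = z * g → g * τ * g⁻¹ * τ⁻¹ ∈ Q) ∧ ∀ s, s * z = z * s → s ^ 3 ∈ Q → s ∉ Q → ∀ g, g * z = z * g →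
        ∃ a ∈ Q, ∃ p ∈ P, ∃ i : ℕ, g = a * p * s ^ i ∨ g = a * p * s ^ i * τ
  ex : ∃ g, g * z * g⁻¹ ∈ Q ∧ g * z * g⁻¹ ∉ zpowers z

/-- The configuration attached to a conjugate `g z g⁻¹ = m n` of `z` in `Q`. -/
structure Cj (z t : G) (Q : Subgroup G) (g s c i m n : G) : Prop where
  y : g * z * g⁻¹ = m * n
  zY : g⁻¹ * z * g ∈ Q
  sY : g⁻¹ * s * g ∈ Q
  sz : s * z = z * s
  sQ : s ∉ Q
  wY : g⁻¹ * (i * c) * g ∈ Q
  ws : i * c * s ≠ s * (i * c)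
  cQ : c ∈ Q
  ct : c * t = t * c
  iQ : i ∈ Q
  ti : t * i * t⁻¹ = i⁻¹
  mQ : m ∈ Q
  mt : m * t = t * m
  nQ : n ∈ Q
  tn : t * n * t⁻¹ = n⁻¹
  ni : i * n ≠ n * i
  mc : c * m ≠ m * c
  sn : s * n = n * s
  sm : s * m = m * s

structure Hyp1 (z t : G) (Q P : Subgroup G) : Prop extends Hyp z t Q P where
  split : ∀ a ∈ Q, ∃ c ∈ Q, ∃ i ∈ Q, c * t = t * c ∧ t * i * t⁻¹ = i⁻¹ ∧ a = c * i
  orth : ∀ c ∈ Q, ∀ i ∈ Q, c * t = t * c → t * i * t⁻¹ = i⁻¹ → c * i = i * c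
  pl2 : ∀ c ∈ Q, ∀ c' ∈ Q, c * t = t * c → c' * t = t * c' → c ∉ zpowers z → c * c' = c' * c →
    ∃ a b : ℕ, c' = c ^ a * z ^ b
  pl1 : ∀ i ∈ Q, ∀ i' ∈ Q, t * i * t⁻¹ = i⁻¹ → t * i' * t⁻¹ = i'⁻¹ → i ≠ 1 → i * i' = i' * i → i' ∈ zpowers i
  tr : ∀ i ∈ Q, ∀ i' ∈ Q, t * i * t⁻¹ = i⁻¹ → t * i' * t⁻¹ = i'⁻¹ → i ≠ 1 → i' ≠ 1 → ∃ p ∈ P, p * i * p⁻¹ = i'
  cj : ∀ g, g * z * g⁻¹ ∈ Q → g * z * g⁻¹ ∉ zpowers z → ∃ s c i m n, Cj z t Q g s c i m n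
  ab : ∀ a ∈ Q, a ∉ zpowers z → (∀ s, s * z = z * s → s * a = a * s → (∃ k : ℕ, s ^ 3 ^ k = 1) → s ∈ Q) →
    ∀ B : Subgroup G, IsPGroup 3 B → (∀ b ∈ B, b * a = a * b) → (∀ b ∈ B, ∀ b' ∈ B, b * b' = b' * b) →
      Nat.card B ≤ 27

/-- The facts on `C(z)` in coordinates. -/
structure Cz (ι : V → G) (J S P : Subgroup G) (t q n : G) : Prop extends Emb ι J where
  cJ : ∀ g, Lin ι g id → g ∈ J
  lt : Lin ι t tM
  lq : Lin ι q qM
  ln : Lin ι n nM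
  q3 : q ^ 3 = 1
  n3 : n ^ 3 = 1
  tq : t * q = q * t
  tn : t * n * t⁻¹ = n⁻¹
  syl : IsSylowIn 3 S ⊤
  JS : J ≤ S
  nS : n ∈ S
  qS : q ∈ S
  memS : ∀ g ∈ S, ∃ j ∈ J, ∃ a b : ℕ, g = j * n ^ a * q ^ b
  cz1 : ∀ g v, g * ι zv = ι zv * g → g * ι v = ι v * g → (∀ a b : ZMod 3, v ≠ a • zv + b • mv) →
    g ∈ normalizer (J : Set G)
  nq : ∀ g, g * q * g⁻¹ ∉ J
  q8 : Q8 t P
  Pz : ∀ p ∈ P, p * ι zv = ι zv * p
  Pm : ∀ p ∈ P, p * ι mv = ι mv * p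
  nP : ∀ g, g * t = t * g → g * ι zv * g⁻¹ ∈ zpowers (ι zv) → g ∈ normalizer (P : Set G)
  czP : ∀ g, g * t = t * g → g * ι zv = ι zv * g → ∃ p ∈ P, ∃ k ∈ normalizer (J : Set G), g = p * k
  ncP : ∃ p ∈ P, ι (e4 1) * p ≠ p * ι (e4 1)

structure Pre (ι : V → G) (J S P : Subgroup G) (t q n x : G) : Prop extends Cz ι J S P t q n where
  cy : ∀ g, g * ι zv = ι zv * g → g * ι yv = ι yv * g → g ∈ S
  xN : x ∈ normalizer (J : Set G)
  x3 : x ^ 3 = 1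
  xy : x * ι yv = ι yv * x
  xz : x * ι zv * x⁻¹ = ι (zv + yv)
  xs : x * ι (e4 3) * x⁻¹ * (ι (e4 3))⁻¹ ∈ zpowers (ι yv)
  xw : x * (n * q) * x⁻¹ * (n * q)⁻¹ ∈ J
  nc0 : ¬ IsConj (ι zv) (ι (e4 0))
  ncm : ¬ IsConj (ι zv) (ι mv)
  sg : ∀ K : Subgroup G, (Nat.card K).Coprime 3 → J ≤ normalizer (K : Set G) → K ≤ centralizer {ι zv} → K = ⊥
  dich : (∀ g ∈ normalizer (J : Set G), g * ι zv = ι zv * g → ∃ s ∈ S, g = s ∨ g = s * t) ∨
    ∃ τ, τ * τ = 1 ∧ τ * t = t * τ ∧ Lin ι τ τM ∧ ∀ g ∈ normalizer (J : Set G), g * ι zv = ι zv * g →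
      ∃ s ∈ S, g = s ∨ g = s * t ∨ g = s * τ ∨ g = s * t * τ

/-- The subgroup of `N(J)` generated by the elements of order three and `t`. -/
def N0 (J : Subgroup G) (t : G) : Subgroup G := closure ({h | h ∈ normalizer (J : Set G) ∧ h ^ 3 = 1} ∪ {t})

structure GF (ι : V → G) (J S P : Subgroup G) (t q n : G) : Prop extends Cz ι J S P t q n where
  wc : ∀ g, (∀ j ∈ J, g * j * g⁻¹ ∈ normalizer (J : Set G)) → g ∈ normalizer (J : Set G)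
  leN : ∀ B : Subgroup G, IsPGroup 3 B → J ≤ B → B ≤ normalizer (J : Set G)
  fus : ∀ v w, IsConj (ι v) (ι w) → qf v = qf w
  lx : ∃ x, Lin ι x xM
  diag : ∀ ε s, ∃ g, Lin ι g (ext ε (1, s))
  mon4 : ∀ g ∈ normalizer (J : Set G), g * ι (e4 0) * g⁻¹ ∈ zpowers (ι (e4 0)) → ∃ ε a, Lin ι g (ext ε a)
  sig : ∀ K : Subgroup G, (Nat.card K).Coprime 3 → J ≤ normalizer (K : Set G) → K = ⊥
  dich : normalizer (J : Set G) ≤ N0 J t ∨ ∃ τ, τ * τ = 1 ∧ τ * t = t * τ ∧ Lin ι τ τM ∧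
    ∀ g ∈ normalizer (J : Set G), g ∈ N0 J t ∨ g * τ ∈ N0 J t
  psi : ∃ ψ : G → Perm (Fin 3), (∀ g ∈ normalizer (J : Set G), ∀ h ∈ normalizer (J : Set G), ψ (g * h) = ψ g * ψ h) ∧
    ∀ g ε a, Lin ι g (ext ε a) → ψ g = a.1

structure GK (ι : V → G) (J S P : Subgroup G) (t q n : G) : Prop extends GF ι J S P t q n where
  long : ∀ i, centralizer {ι (e4 i)} ≤ normalizer (J : Set G)

/-- The passage to `H = C(t)`. -/
structure HI (ι : V → G) (J : Subgroup G) (t q : G) (t' : centralizer ({t} : Set G))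
    (X : Subgroup (centralizer ({t} : Set G))) (e : Fin 3 → centralizer ({t} : Set G))
    (q' : centralizer ({t} : Set G)) (P : Subgroup (centralizer ({t} : Set G))) : Prop extends HS0 t' X e q' P where
  ht : (t' : G) = t
  hq : (q' : G) = q
  he : ∀ v, ((mon e v : centralizer ({t} : Set G)) : G) = ι (up v)
  toJ : ∀ n ∈ normalizer (X : Set (centralizer ({t} : Set G))), ∃ ε a, Lin ι n (ext ε a) ∧ Act e n a
  ofJ : ∀ (n : centralizer ({t} : Set G)) ε a, Lin ι n (ext ε a) → Act e n a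
  lift : ∀ g ε a, Lin ι g (ext ε a) → ∃ n : centralizer ({t} : Set G), Lin ι n (ext ε a)

/-- The structure of `C(t)`, in `G`. -/
structure HC (ι : V → G) (J : Subgroup G) (t q : G) (R D : Subgroup G) (r : G → CL.O8.X) : Prop where
  extra : IsExtraspecial 2 R
  cardR : Nat.card R = 512
  tR : t ∈ R
  Rt : ∀ v ∈ R, v * t = t * v
  nR : ∀ g, g * t = t * g → g ∈ normalizer (R : Set G)
  cR : centralizer (R : Set G) ≤ R
  ncp : ∃ p ∈ R, ι (e4 1) * p ≠ p * ι (e4 1)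
  RD : R ≤ D
  Dt : ∀ d ∈ D, d * t = t * d
  rmul : ∀ g ∈ D, ∀ h ∈ D, r (g * h) = r g * r h
  rsurj : ∀ w, ∃ g ∈ D, r g = w
  rker : ∀ g ∈ D, r g = 1 ↔ g ∈ R
  Deps : ∀ ε : G →* ℤˣ, ∀ d ∈ D, ε d = 1
  Dgen : ∀ K : Subgroup G, (∀ d ∈ D, (∃ k : ℕ, d ^ 2 ^ k = 1) → d ∈ K) → D ≤ K
  Dx : ∀ s, ∃ d ∈ D, Lin ι d (ext 1 (1, s))
  dec : ∀ g, g * t = t * g → (∃ d ∈ D, ∃ i : ℕ, g = d * q ^ i) ∨
    ∃ d ∈ D, ∃ k ∈ normalizer (J : Set G), g = d * k ∧ k ∉ N0 J t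
  eps : ∀ τ, τ * τ = 1 → τ * t = t * τ → Lin ι τ τM → ∃ ε : G →* ℤˣ, ε τ = -1

/-- The conclusion. -/
def Concl (G : Type*) [Group G] : Prop :=
  ∃ N : Subgroup G, N.Normal ∧ Nonempty (N ≃* Omega (ZMod 2) (quadFormPlus 4 (ZMod 2))) ∧
    centralizer (N : Set G) = ⊥ ∧ (N.index = 3 ∨ N.index = 6)

/-! ### The parts -/

def M27Thm : Prop := ∀ {G : Type u} [Group G] [Finite G] {X : Subgroup G} {e : Fin 3 → G} {q : G},
  Sy X e q → X.Normal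

def H1Thm : Prop := ∀ {G : Type u} [Group G] [Finite G] {t : G} {X : Subgroup G} {e : Fin 3 → G} {q : G}
  {P : V3 → Subgroup G}, HS t X e q P → HS1 t X e q P

def H2Thm : Prop := ∀ {G : Type u} [Group G] [Finite G] {t : G} {X : Subgroup G} {e : Fin 3 → G} {q : G}
  {P : V3 → Subgroup G}, HS1 t X e q P → HS2 t X e q P

def H3Thm : Prop := ∀ {G : Type u} [Group G] [Finite G] {t : G} {X : Subgroup G} {e : Fin 3 → G} {q : G}
  {P : V3 → Subgroup G}, HS2 t X e q P → HS3 t X e q P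

def H4Thm : Prop := ∀ {G : Type u} [Group G] [Finite G] {t : G} {X : Subgroup G} {e : Fin 3 → G} {q : G}
  {P : V3 → Subgroup G}, HS3 t X e q P → HS4 t X e q P

def ClsThm : Prop := ∀ {G : Type u} [Group G] [Finite G] {t : G} {X : Subgroup G} {e : Fin 3 → G} {q : G}
  {P : V3 → Subgroup G}, HS3 t X e q P → Cls t X e P

def H5Thm : Prop := ∀ {G : Type u} [Group G] [Finite G] {t : G} {X : Subgroup G} {e : Fin 3 → G} {q : G}
  {P : V3 → Subgroup G}, HS4 t X e q P → Cls t X e P → HS5 t X e q P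

def H6Thm : Prop := ∀ {G : Type u} [Group G] [Finite G] {t : G} {X : Subgroup G} {e : Fin 3 → G} {q : G}
  {P : V3 → Subgroup G}, HS5 t X e q P → HS6 t X e q P

def H7Thm : Prop := ∀ {G : Type u} [Group G] [Finite G] {t : G} {X : Subgroup G} {e : Fin 3 → G} {q : G}
  {P : V3 → Subgroup G}, HS6 t X e q P → HS7 t X e q P

def HXThm : Prop := ∀ {G : Type u} [Group G] [Finite G] {t : G} {X : Subgroup G} {e : Fin 3 → G} {q : G}
  {P : V3 → Subgroup G}, HS7 t X e q P → ∃ R T D μ r, HX t X e q R T D μ r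

/-- All of the analysis of `H`. -/
def HAll : Prop := ∀ {G : Type u} [Group G] [Finite G] {t : G} {X : Subgroup G} {e : Fin 3 → G} {q : G}
  {P : Subgroup G}, HS0 t X e q P → ∃ R T D μ r, HX t X e q R T D μ r

def RedThm : Prop := ∀ {G : Type u} [Group G] [Finite G] (S : Sylow 3 G) (Z C Q K : Subgroup G),
  Z = (S : Subgroup G) ⊓ centralizer ((S : Subgroup G) : Set G) → C = centralizer (Z : Set G) →
  Q = (pCore 3 C).map C.subtype → IsExtraspecial 3 Q → Nat.card Q = 3 ^ 5 → (∀ a ∈ Q, a ^ 3 = 1) →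
  centralizer (Q : Set G) ≤ Q →
  (∃ x : G, Z.map (MulAut.conj x).toMonoidHom ≤ Q ∧ Z.map (MulAut.conj x).toMonoidHom ≠ Z) →
  K = ((pResidual 2 (C ⧸ pCore 3 C)).comap (QuotientGroup.mk' (pCore 3 C))).map C.subtype →
  ∀ (r : ℕ) (A : Fin (r + 1) → Subgroup G), A 0 = Z → A (Fin.last r) = Q → (∀ i : Fin r, A i.castSucc < A i.succ) →
  (∀ i : Fin (r + 1), ∀ k ∈ K, ∀ a ∈ A i, k * a * k⁻¹ ∈ A i) →
  (∀ i : Fin r, ∀ B : Subgroup G, A i.castSucc < B → B < A i.succ → ∃ k ∈ K, ∃ b ∈ B, k * b * k⁻¹ ∉ B) →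
  (Nonempty (C ⧸ pCore 3 C ≃* Matrix.SpecialLinearGroup (Fin 2) (ZMod 3)) ∨
    Nonempty (C ⧸ pCore 3 C ≃* Matrix.SpecialLinearGroup (Fin 2) (ZMod 3) × Multiplicative (ZMod 2))) →
  (∃! i : Fin r, ∃ k ∈ K, ∃ a ∈ A i.succ, k * a * k⁻¹ * a⁻¹ ∉ A i.castSucc) → ∃ (z t : G) (P : Subgroup G), Hyp z t Q P

def B1Thm : Prop := ∀ {G : Type u} [Group G] [Finite G] {z t : G} {Q P : Subgroup G}, Hyp z t Q P → Hyp1 z t Q P

def B2Thm : Prop := ∀ {G : Type u} [Group G] [Finite G] {z t : G} {Q P : Subgroup G}, Hyp1 z t Q P →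
  ∃ ι J S q n x, Pre ι J S P t q n x

def B3Thm : Prop := ∀ {G : Type u} [Group G] [Finite G] {ι : V → G} {J S P : Subgroup G} {t q n x : G},
  Pre ι J S P t q n x → ∃ ι', GF ι' J S P t q n

def LongThm : Prop := ∀ {G : Type u} [Group G] [Finite G] {ι : V → G} {J S P : Subgroup G} {t q n : G},
  GF ι J S P t q n → GK ι J S P t q n

def HIThm : Prop := ∀ {G : Type u} [Group G] [Finite G] {ι : V → G} {J S P : Subgroup G} {t q n : G},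
  GK ι J S P t q n → ∃ t' X e q' P', HI ι J t q t' X e q' P'

def HCThm : Prop := ∀ {G : Type u} [Group G] [Finite G] {ι : V → G} {J S P : Subgroup G} {t q n : G}
  {t' : centralizer ({t} : Set G)} {X : Subgroup (centralizer ({t} : Set G))} {e : Fin 3 → centralizer ({t} : Set G)}
  {q' : centralizer ({t} : Set G)} {P' R T D : Subgroup (centralizer ({t} : Set G))}
  {μ : centralizer ({t} : Set G) → Mo} {r : centralizer ({t} : Set G) → CL.O8.X},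
  GF ι J S P t q n → HI ι J t q t' X e q' P' → HX t' X e q' R T D μ r → ∃ R D r, HC ι J t q R D r

def FinThm : Prop := ∀ {G : Type u} [Group G] [Finite G] {ι : V → G} {J S P : Subgroup G} {t q n : G}
  {R D : Subgroup G} {r : G → CL.O8.X}, GF ι J S P t q n → HC ι J t q R D r → Concl G

end CL.Ast
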