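/-
Astill's theorem (helper35): facts on monomial matrices.
-/
import Cfsg.Agent.Ast.Defs

set_option autoImplicit false
set_option synthInstance.maxSize 4096

namespace CL.Ast

open CL.McL3 CL.McL3.C27 CL.S9R Equiv

def sw (w : V3) (i : Fin 3) : ℤˣ := if w i = 1 then 1 else -1

theorem c_sg : (∀ w, Sg w → av (1, sw w) 1 = w ∧ Sg (-w) ∧ w ≠ 0 ∧ ∀ a, Sg (av a w)) ∧
    (∀ (a : Mo) v, av (mi a) (av a v) = v ∧ av a (av (mi a) v) = v ∧ av a (-v) = -av a v ∧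
      ∀ w, dot (av a v) (av a w) = dot v w) ∧
    (∀ v, dot v 1 ≠ 0 → dot (v + -Pi.single 0 1) 1 = 0 ∨ dot (v + Pi.single 0 1) 1 = 0) ∧
    (∀ v, Sg v → ∃ w ∈ [w1, w2, w3, w4], v = w ∨ v = -w) ∧ Qd w1 w2 w3 w4 ∧
    ∀ (a : Mo) v w, Sg v → Sg w → Nq v w → Nq (av a v) (av a w) := by
  refine ⟨?_, ?_, ?_, ?_, ?_, ?_⟩ <;> decide +kernel

open Fin.CommRing in
theorem av_mm : ∀ (a b : Mo) (v : V3), av (mm a b) v = av a (av b v) := by
  have k : ∀ (a b : Mo) (i : Fin 3), mx (mm a b) i = av a (mx b i) := by decide +kernel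
  have l : ∀ (a : Mo) (x y : V3), av a (x + y) = av a x + av a y := fun a x y => funext fun j => by
    simp only [av, lin, Pi.add_apply]; ring
  have m : ∀ (a : Mo) (c : Fin 3) (x : V3), av a (fun j => c * x j) = fun j => c * av a x j := fun a c x => funext fun j => by
    simp only [av, lin]; ring
  intro a b v
  rw [show av b v = ((fun j => v 0 * mx b 0 j) + fun j => v 1 * mx b 1 j) + fun j => v 2 * mx b 2 j from rfl, l, l, m, m, m,
    ← k, ← k, ← k]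
  rfl

theorem Qd.av {A B C D : V3} (h : Qd A B C D) (a : Mo) : Qd (av a A) (av a B) (av a C) (av a D) := by
  obtain ⟨h1, h2, h3, h4, k1, k2, k3, k4, k5, k6⟩ := h
  have s := fun w h => (c_sg.1 w h).2.2.2 a
  have r := c_sg.2.2.2.2.2 a
  exact ⟨s _ h1, s _ h2, s _ h3, s _ h4, r _ _ h1 h2 k1, r _ _ h1 h3 k2, r _ _ h1 h4 k3, r _ _ h2 h3 k4, r _ _ h2 h4 k5,
    r _ _ h3 h4 k6⟩

end CL.Ast
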