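/-
Astill's theorem (helper35): elementary facts on the structures `Q8`, `Mn`, `HB`, `HS`.
-/
import Cfsg.Agent.Ast.Defs
import Cfsg.Agent.Inv.AutTwo
import Cfsg.Agent.Transfer.SL23

set_option autoImplicit false
set_option synthInstance.maxSize 4096

namespace CL.Ast

open Subgroup Cfsg CL.Grp CL.Rec CL.G23 CL.McL3 CL.McL3.C27 CL.S9R CL.Transfer Equiv
open scoped Pointwise

variable {G : Type*} [Group G]

theorem mem_zp2 {t g : G} (t2 : t * t = 1) : g ∈ zpowers t ↔ g = 1 ∨ g = t :=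
  ⟨eq_or_of_mem_zpowers t2, by rintro (rfl | rfl); exacts [one_mem _, mem_zpowers _]⟩

namespace Q8

variable {t : G} {P : Subgroup G} (h : Q8 t P) {a b u : G}
include h

theorem zp_le : zpowers t ≤ P := zpowers_le.2 h.mem

theorem tinv : t⁻¹ = t := inv_eq_of_mul_eq_one_right h.t2

theorem sq' (ha : a ∈ P) (h1 : a ∉ zpowers t) : a * a = t :=
  ((h.sq a ha).resolve_left fun e => h1 (e ▸ one_mem _)).resolve_left fun e => h1 (e ▸ mem_zpowers _)

theorem ct (ha : a ∈ P) : a * t = t * a := by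
  rcases h.sq a ha with rfl | rfl | e
  · simp
  · rfl
  · rw [← e, mul_assoc]

theorem inv_eq (ha : a ∈ P) (h1 : a ∉ zpowers t) : a⁻¹ = a * t := by
  rw [inv_eq_iff_mul_eq_one, ← mul_assoc, h.sq' ha h1, h.t2]

theorem sq_mem (ha : a ∈ P) : a * a ∈ zpowers t := by
  rcases h.sq a ha with rfl | rfl | e
  · simp
  · exact mul_mem (mem_zpowers _) (mem_zpowers _)
  · exact e ▸ mem_zpowers _

theorem four (ha : a ∈ P) : a ^ 4 = 1 := by
  rcases (mem_zp2 h.t2).1 (h.sq_mem ha) with e | e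
  · rw [show a ^ 4 = a * a * (a * a) by simp only [pow_succ, pow_zero, one_mul, mul_assoc], e, one_mul]
  · rw [show a ^ 4 = a * a * (a * a) by simp only [pow_succ, pow_zero, one_mul, mul_assoc], e, h.t2]

theorem two : IsPGroup 2 P := .of_card (n := 3) h.card

/-- two elements that are independent modulo `t` anticommute -/
theorem anti (ha : a ∈ P) (hb : b ∈ P) (h1 : a ∉ zpowers t) (h2 : b ∉ zpowers t) (h3 : a * b ∉ zpowers t) :
    a * b * a⁻¹ = b * t := by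
  have e := h.sq' (mul_mem ha hb) h3
  calc _ = a * b * (a * b) * b⁻¹ * (a * a)⁻¹ := by group
    _ = _ := by rw [e, h.sq' ha h1, h.inv_eq hb h2, h.tinv, mul_assoc, mul_assoc, h.t2, mul_one, h.ct hb]

theorem conj_cases (ha : a ∈ P) (hb : b ∈ P) : a * b * a⁻¹ = b ∨ a * b * a⁻¹ = b * t := by
  by_cases h1 : a ∈ zpowers t
  · exact .inl (by rw [← cm_of_mem h1 (h.ct hb), mul_inv_cancel_right])
  by_cases h2 : b ∈ zpowers t
  · exact .inl (by rw [cm_of_mem h2 (h.ct ha), mul_inv_cancel_right])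
  by_cases h3 : a * b ∈ zpowers t
  · exact .inl (mul_left_cancel (a := a) (by
      rw [← mul_assoc, ← mul_assoc, mul_assoc a a, cm_of_mem h3 (h.ct ha), mul_inv_cancel_right]))
  exact .inr (h.anti ha hb h1 h2 h3)

theorem cm (ha : a ∈ P) (hb : b ∈ P) : a * b * a⁻¹ * b⁻¹ ∈ zpowers t := by
  rcases h.conj_cases ha hb with e | e <;> rw [e]
  · simp
  · rw [h.ct hb, mul_inv_cancel_right]; exact mem_zpowers _

theorem ex_not (a : G) : ∃ b ∈ P, b ∉ zpowers t ∧ a * b ∉ zpowers t := by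
  by_contra! k
  have : (P : Set G) ⊆ {1, t, a⁻¹, a⁻¹ * t} := fun b hb => by
    by_cases h2 : b ∈ zpowers t
    · rcases (mem_zp2 h.t2).1 h2 with rfl | rfl <;> simp
    · rcases (mem_zp2 h.t2).1 (k b hb h2) with e | e
      · simp [eq_inv_of_mul_eq_one_right e]
      · simp [← e]
  have k1 := Set.ncard_le_ncard this (Set.toFinite _)
  have k2 : ({1, t, a⁻¹, a⁻¹ * t} : Set G).ncard ≤ 4 :=
    (Set.ncard_insert_le _ _).trans (by
      have := (Set.ncard_insert_le t {a⁻¹, a⁻¹ * t}).trans (Nat.succ_le_succ (Set.ncard_insert_le _ _))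
      rw [Set.ncard_singleton] at this
      omega)
  rw [← Nat.card_coe_set_eq, SetLike.coe_sort_coe, h.card] at k1
  omega

theorem ex_out : ∃ b ∈ P, b ∉ zpowers t := (h.ex_not 1).imp fun _ k => ⟨k.1, k.2.1⟩

theorem ex_anti (ha : a ∈ P) (h1 : a ∉ zpowers t) : ∃ b ∈ P, b * a * b⁻¹ = a * t := by
  obtain ⟨b, hb, h2, h3⟩ := h.ex_not a
  refine ⟨b, hb, h.anti hb ha h2 h1 fun k => h3 ?_⟩
  rwa [show a * b = a * (b * a) * a⁻¹ by group, cm_of_mem k (h.ct ha), mul_inv_cancel_right]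

/-- the elements of `P` modulo `t` -/
theorem cover (ha : a ∈ P) (hb : b ∈ P) (h1 : a ∉ zpowers t) (h2 : b ∉ zpowers t) (h3 : a * b ∉ zpowers t) {c : G}
    (hc : c ∈ P) : c ∈ zpowers t ∨ a * c ∈ zpowers t ∨ b * c ∈ zpowers t ∨ a * b * c ∈ zpowers t := by
  by_contra! k
  have e1 := h.anti ha hc h1 k.1 k.2.1
  have e2 := h.anti hb hc h2 k.1 k.2.2.1
  have e3 := h.anti (mul_mem ha hb) hc h3 k.1 k.2.2.2
  rw [show a * b * c * (a * b)⁻¹ = a * (b * c * b⁻¹) * a⁻¹ by group, e2, ← conj_mul, e1, h.ct ha, mul_inv_cancel_right,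
    mul_assoc, h.t2, mul_one, left_eq_mul] at e3
  exact h.t1 e3

theorem conj_t (hu : u ∈ normalizer (P : Set G)) : u * t * u⁻¹ = t := by
  obtain ⟨b, hb, h1⟩ := h.ex_out
  rcases h.sq _ ((mem_normalizer_iff.1 hu t).1 h.mem) with e | e | e
  · exact absurd (by simpa using e) h.t1
  · exact e
  · exact absurd (by rw [← e, conj_mul, h.t2]; simp) h.t1

theorem conj_notMem (hu : u ∈ normalizer (P : Set G)) (h1 : a ∉ zpowers t) : u * a * u⁻¹ ∉ zpowers t := fun k => by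
  rcases (mem_zp2 h.t2).1 k with e | e
  · exact h1 (by simp [show a = 1 by simpa using e])
  · rw [← h.conj_t hu, mul_left_inj, mul_right_inj] at e
    exact h1 (e ▸ mem_zpowers _)

omit h in
theorem dec1 : ∀ x w : QuaternionGroup 2, (∀ a b, q8Fun x w (a * b) = q8Fun x w a * q8Fun x w b) →
    ((∀ a, q8Fun x w (q8Fun x w a) = a) → (∀ a, q8Fun x w a = a) ∨ ∃ a, q8Fun x w a = a * .a 2) ∧
    ((∀ a, q8Fun x w (q8Fun x w (q8Fun x w a)) = a) → (∀ a, q8Fun x w a = a) ∨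
      ∀ a, q8Fun x w a * a⁻¹ = 1 ∨ q8Fun x w a * a⁻¹ = .a 2 → a = 1 ∨ a = .a 2) ∧
    ((∀ a, q8Fun x w (q8Fun x w a) = a) → ∀ y v : QuaternionGroup 2, (∀ a, q8Fun y v a = 1 → a = 1) →
      (∀ a, q8Fun y v a * a⁻¹ = 1 ∨ q8Fun y v a * a⁻¹ = .a 2 → a = 1 ∨ a = .a 2) →
      (∀ a, q8Fun x w (q8Fun y v a) = q8Fun y v (q8Fun x w a)) →
      (∀ a b, q8Fun y v (a * b) = q8Fun y v a * q8Fun y v b) → ∀ a, q8Fun x w a = a) ∧
    ((∀ a, q8Fun x w a = 1 → a = 1) → (∀ a, q8Fun x w a * a⁻¹ = 1 ∨ q8Fun x w a * a⁻¹ = .a 2 → a = 1 ∨ a = .a 2) →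
      ∀ a, ∃ b, a = q8Fun x w b * b⁻¹ ∨ a = q8Fun x w b * b⁻¹ * (q8Fun x w (.a 1) * (.a 1)⁻¹) ^ 2) := by
  decide +kernel

theorem model : ∃ f : QuaternionGroup 2 →* G, Function.Injective f ∧ (∀ p, p ∈ P ↔ ∃ q, f q = p) ∧ f (.a 2) = t ∧
    ∀ u ∈ normalizer (P : Set G), ∃ x w, (∀ a b, q8Fun x w (a * b) = q8Fun x w a * q8Fun x w b) ∧
      ∀ q, u * f q * u⁻¹ = f (q8Fun x w q) := by
  obtain ⟨a, ha, a1⟩ := h.ex_out
  obtain ⟨b, hb, b1, ab⟩ := h.ex_not a
  have ta : zpowers t ≤ zpowers a := zpowers_le.2 (h.sq' ha a1 ▸ mul_mem (mem_zpowers a) (mem_zpowers a))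
  have ba : b * a ∉ zpowers t := fun k => ab (by
    rwa [show a * b = a * (b * a) * a⁻¹ by group, cm_of_mem k (h.ct ha), mul_inv_cancel_right])
  have e1 := h.anti hb ha b1 a1 ba
  obtain ⟨e⟩ := CL.Inv.nonempty_quaternion_subgroup (H := P) (n := 2) (a := a) (s := b)
    (orderOf_eq_prime_pow (p := 2) (n := 1) (by rw [pow_one, pow_two, h.sq' ha a1]; exact h.t1) (h.four ha))
    (by rw [pow_two, h.sq' ha a1, h.sq' hb b1]) (e1.trans (h.inv_eq ha a1).symm) (fun k => h.t1 (by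
      rwa [← cm_of_mem k rfl, mul_inv_cancel_right, left_eq_mul] at e1)) fun g => ⟨fun hg => by
      have hg' := inv_mem hg
      rcases h.cover ha hb a1 b1 ab hg' with k | k | k | k
      · exact .inl (inv_mem_iff.1 (ta k))
      · exact .inl (inv_mem_iff.1 ((mul_mem_cancel_left (mem_zpowers a)).1 (ta k)))
      · exact .inr (by simpa using inv_mem (ta k))
      · rw [mul_assoc] at k
        exact .inr (by simpa using inv_mem ((mul_mem_cancel_left (mem_zpowers a)).1 (ta k))),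
      fun k => k.elim (fun k => zpowers_le.2 ha k) fun k => (mul_mem_cancel_right (inv_mem hb)).1 (zpowers_le.2 ha k)⟩
  let f := P.subtype.comp e.symm.toMonoidHom
  have fi : Function.Injective f := P.subtype_injective.comp e.symm.injective
  have fm : ∀ p, p ∈ P ↔ ∃ q, f q = p := fun p => ⟨fun hp => ⟨e ⟨p, hp⟩, by simp [f]⟩, fun ⟨q, k⟩ => k ▸ (e.symm q).2⟩
  refine ⟨f, fi, fm, ?_, fun u hu => ?_⟩
  · rcases h.sq _ ((fm _).2 ⟨.a 2, rfl⟩) with k | k | k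
    · exact absurd (fi (k.trans (map_one f).symm)) (by decide)
    · exact k
    · exact absurd (by rw [← k, ← map_mul, show (.a 2 * .a 2 : QuaternionGroup 2) = 1 by decide, map_one]) h.t1
  · obtain ⟨x, hx⟩ := (fm _).1 ((mem_normalizer_iff.1 hu _).1 ((fm _).2 ⟨.a 1, rfl⟩))
    obtain ⟨w, hw⟩ := (fm _).1 ((mem_normalizer_iff.1 hu _).1 ((fm _).2 ⟨.xa 0, rfl⟩))
    have k : ∀ q, u * f q * u⁻¹ = f (q8Fun x w q) := fun q => by
      have := map_q8Fun ((MulAut.conj u).toMonoidHom.comp f) q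
      simp only [MonoidHom.comp_apply, MulEquiv.coe_toMonoidHom, MulAut.conj_apply, ← hx, ← hw] at this
      rw [this]
      cases q <;> simp only [q8Fun, map_mul, map_pow]
    exact ⟨x, w, fun a b => fi (by rw [map_mul, ← k, ← k, ← k, map_mul, conj_mul]), k⟩

/-- a non-trivial automorphism of order two inverts an element of order four -/
theorem ex_inv (hu : u ∈ normalizer (P : Set G)) (h2 : ∀ p ∈ P, u * u * p = p * (u * u))
    (h1 : ∃ p ∈ P, u * p ≠ p * u) : ∃ p ∈ P, u * p * u⁻¹ = p * t := by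
  obtain ⟨f, fi, fm, ft, k⟩ := h.model
  obtain ⟨x, w, k1, k⟩ := k u hu
  obtain ⟨p, hp, h1⟩ := h1
  obtain ⟨q, rfl⟩ := (fm p).1 hp
  obtain ⟨a, e⟩ := ((dec1 x w k1).1 fun a => fi (by
    rw [← k, ← k]
    calc _ = u * u * f a * (u * u)⁻¹ := by group
      _ = _ := by rw [h2 _ ((fm _).2 ⟨a, rfl⟩), mul_inv_cancel_right])).resolve_left
    fun e => h1 (mul_inv_eq_iff_eq_mul.1 (by rw [k, e]))
  exact ⟨_, (fm _).2 ⟨a, rfl⟩, by rw [k, e, map_mul, ft]⟩

omit h in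
theorem tr_fp {f : QuaternionGroup 2 →* G} (fi : Function.Injective f) (ft : f (.a 2) = t) (t2 : t * t = 1)
    (a : QuaternionGroup 2) : f a ∈ zpowers t ↔ a = 1 ∨ a = .a 2 := by
  rw [mem_zp2 t2, ← ft, ← map_one f, fi.eq_iff, fi.eq_iff]

/-- a non-trivial automorphism of order three has no fixed points modulo `t` -/
theorem fp (hu : u ∈ normalizer (P : Set G)) (h3 : u ^ 3 = 1) (h1 : ∃ p ∈ P, u * p ≠ p * u) (ha : a ∈ P)
    (hm : u * a * u⁻¹ * a⁻¹ ∈ zpowers t) : a ∈ zpowers t := by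
  obtain ⟨f, fi, fm, ft, k⟩ := h.model
  obtain ⟨x, w, k1, k⟩ := k u hu
  obtain ⟨p, hp, h1⟩ := h1
  obtain ⟨q, rfl⟩ := (fm p).1 hp
  obtain ⟨a, rfl⟩ := (fm a).1 ha
  rw [k, ← map_inv, ← map_mul, tr_fp fi ft h.t2] at hm
  exact (tr_fp fi ft h.t2 a).2 ((((dec1 x w k1).2.1 fun a => fi (by
    rw [← k, ← k, ← k]
    calc _ = u ^ 3 * f a * (u ^ 3)⁻¹ := by simp only [pow_succ, pow_zero, one_mul, mul_assoc, mul_inv_rev]
      _ = _ := by rw [h3]; simp)).resolve_left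
    fun e => h1 (mul_inv_eq_iff_eq_mul.1 (by rw [k, e]))) a hm)

/-- an automorphism of order two that commutes with one without fixed points modulo `t` is trivial -/
theorem cent_of_comm {x : G} (hu : u ∈ normalizer (P : Set G)) (h2 : ∀ p ∈ P, u * u * p = p * (u * u))
    (hx : x ∈ normalizer (P : Set G)) (c : u * x = x * u)
    (hf : ∀ p ∈ P, x * p * x⁻¹ * p⁻¹ ∈ zpowers t → p ∈ zpowers t) : ∀ p ∈ P, u * p = p * u := by
  obtain ⟨f, fi, fm, ft, k⟩ := h.model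
  obtain ⟨y, v, l1, l⟩ := k x hx
  obtain ⟨x', w, k1, k⟩ := k u hu
  intro p hp
  obtain ⟨q, rfl⟩ := (fm p).1 hp
  refine mul_inv_eq_iff_eq_mul.1 ((k q).trans (congrArg f
    ((dec1 x' w k1).2.2.1 (fun a => fi ?_) y v (fun a e => fi (by
      have := l a
      rw [e, map_one] at this
      simpa using this)) (fun a e => ?_) (fun a => fi ?_) l1 q)))
  · rw [← k, ← k]
    calc _ = u * u * f a * (u * u)⁻¹ := by group
      _ = _ := by rw [h2 _ ((fm _).2 ⟨a, rfl⟩), mul_inv_cancel_right]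
  · exact (tr_fp fi ft h.t2 a).1 (hf _ ((fm _).2 ⟨a, rfl⟩) (by rwa [l, ← map_inv, ← map_mul, tr_fp fi ft h.t2]))
  · rw [← k, ← l, ← l, ← k]
    calc _ = u * x * f a * (u * x)⁻¹ := by group
      _ = _ := by rw [c]; group

/-- `P = [P, x]` -/
theorem le_of_fp {x : G} (hx : x ∈ normalizer (P : Set G))
    (hf : ∀ p ∈ P, x * p * x⁻¹ * p⁻¹ ∈ zpowers t → p ∈ zpowers t) {K : Subgroup G}
    (hK : ∀ p ∈ P, x * p * x⁻¹ * p⁻¹ ∈ K) : P ≤ K := by
  obtain ⟨f, fi, fm, ft, k⟩ := h.model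
  obtain ⟨y, v, l1, l⟩ := k x hx
  intro p hp
  obtain ⟨q, rfl⟩ := (fm p).1 hp
  have k : ∀ b, f (q8Fun y v b * b⁻¹) ∈ K := fun b => by
    rw [map_mul, map_inv, ← l]; exact hK _ ((fm _).2 ⟨b, rfl⟩)
  obtain ⟨b, e | e⟩ := (dec1 y v l1).2.2.2 (fun a e => fi (by
    have := l a
    rw [e, map_one] at this
    simpa using this)) (fun a e => (tr_fp fi ft h.t2 a).1 (hf _ ((fm _).2 ⟨a, rfl⟩)
    (by rwa [l, ← map_inv, ← map_mul, tr_fp fi ft h.t2]))) q <;> rw [e]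
  · exact k b
  · rw [map_mul, map_pow]; exact mul_mem (k b) (pow_mem (k _) 2)

theorem conj (g : G) (hg : g * t = t * g) : Q8 t (MulAut.conj g • P) := by
  have e : g⁻¹ * t * g = t := by rw [mul_assoc, ← hg, inv_mul_cancel_left]
  refine ⟨(card_conj_smul g P).trans h.card, h.t2, h.t1, (mem_conj_smul_iff _ _ _).2 (e.symm ▸ h.mem), fun p hp => ?_⟩
  rcases h.sq _ ((mem_conj_smul_iff _ _ _).1 hp) with k | k | k
  · exact .inl (by simpa [mul_assoc] using congrArg (fun y => g * y * g⁻¹) k)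
  · exact .inr (.inl (by simpa [mul_assoc] using k.trans e.symm))
  · refine .inr (.inr ?_)
    calc p * p = g * (g⁻¹ * p * g * (g⁻¹ * p * g)) * g⁻¹ := by group
      _ = t := by rw [k, hg, mul_inv_cancel_right]

end Q8

end CL.Ast
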