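/-
Astill's theorem (helper35): the group `3 ^ 3` with monomial automizer.
-/
import Cfsg.Agent.Ast.Basic

set_option autoImplicit false
set_option synthInstance.maxSize 4096

namespace CL.Ast

open Subgroup Cfsg CL.Grp CL.Rec CL.Perm CL.G23 CL.McL3 CL.McL3.C27 CL.S9R Equiv
open scoped Pointwise

variable {G : Type*} [Group G]

namespace Mn

variable {X : Subgroup G} {e : Fin 3 → G} (F : Mn X e) {g h : G} {a b : Mo} {v w : V3}
include F

theorem xm (i : Fin 3) : e i ∈ X := F.gen ▸ subset_closure (Set.mem_range_self _)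

theorem mJ (v : V3) : mon e v ∈ X := mon_mem F.xm v

theorem add (v w : V3) : mon e (v + w) = mon e v * mon e w :=
  mon_add (fun i => F.cube _ (F.xm i)) (fun i j => F.comm _ (F.xm i) _ (F.xm j)) v w

theorem exm (hg : g ∈ X) : ∃ v, mon e v = g :=
  ex_mon (fun i => F.cube _ (F.xm i)) (fun i j => F.comm _ (F.xm i) _ (F.xm j)) (F.gen ▸ hg)

theorem inj : Function.Injective (mon e) := by
  have h : Function.Surjective fun v => (⟨mon e v, F.mJ v⟩ : X) := fun t => (F.exm t.2).imp fun _ e => Subtype.ext e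
  exact fun v w e => (h.bijective_of_nat_card_le (by rw [F.card]; simp)).1 (Subtype.ext e)

theorem eq_iff : mon e v = mon e w ↔ v = w := F.inj.eq_iff

theorem one_iff : mon e v = 1 ↔ v = 0 := by rw [← mon_zero (x := e), F.eq_iff]

theorem neg (v : V3) : mon e (-v) = (mon e v)⁻¹ := eq_inv_of_mul_eq_one_left (by rw [← F.add, neg_add_cancel, mon_zero])

theorem smul (v : V3) : ∀ n : ℕ, mon e (n • v) = mon e v ^ n
  | 0 => by rw [zero_smul, pow_zero, mon_zero]
  | n + 1 => by rw [succ_nsmul, F.add, smul v n, pow_succ]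

theorem msg (s : ℤˣ) (v : V3) : mon e (sg s v) = mon e v ^ (s : ℤ) := by
  rcases Int.units_eq_one_or s with rfl | rfl
  · simp [sg]
  · rw [sg, if_neg (by decide), F.neg]; simp

theorem mlin (M : Fin 3 → V3) (v : V3) : mon e (lin M v) = mon (fun i => mon e (M i)) v := by
  have k : ∀ i j : Fin 3, i * j = i.1 • j := by decide
  rw [show lin M v = (v 0).1 • M 0 + (v 1).1 • M 1 + (v 2).1 • M 2 from funext fun j => by simp only [lin, k]; rfl,
    F.add, F.add, F.smul, F.smul, F.smul]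
  rfl

theorem app' {M : Fin 3 → V3} (h1 : Ac e g M) (v : V3) : g * mon e v * g⁻¹ = mon e (lin M v) := by
  rw [F.mlin, ← funext h1]
  simp only [mon, conj_pow, conj_mul]

theorem ac : Act e g a ↔ Ac e g (mx a) := forall_congr' fun i => by rw [mx, F.msg, mon_single]

theorem app (h1 : Act e g a) (v : V3) : g * mon e v * g⁻¹ = mon e (av a v) := F.app' (F.ac.1 h1) v

theorem of_app (h1 : ∀ v, g * mon e v * g⁻¹ = mon e (av a v)) : Act e g a := F.ac.2 fun i => by
  rw [← mon_single (x := e) i, h1, (by decide +kernel : ∀ (a : Mo) i, av a (Pi.single i 1) = mx a i)]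

theorem fix (h1 : Act e g a) : g * mon e v = mon e v * g ↔ av a v = v := by
  rw [← mul_inv_eq_iff_eq_mul, F.app h1, F.eq_iff]

theorem uniq (h1 : Act e g a) (h2 : Act e g b) : a = b :=
  c_av.1 _ _ (funext fun i => F.inj ((F.ac.1 h1 i).symm.trans (F.ac.1 h2 i)))

theorem actJ (hg : g ∈ X) : Act e g m1 := .of_comm fun i => F.comm _ hg _ (F.xm i)

theorem memC (h1 : Act e g a) (h2 : Act e h a) : h⁻¹ * g ∈ centralizer (X : Set G) := by
  rw [F.gen, centralizer_closure]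
  rintro _ ⟨i, rfl⟩
  exact (h1.comm h2 i).symm

theorem C_iff (h1 : Act e g a) : g ∈ centralizer (X : Set G) ↔ a = m1 :=
  ⟨fun k => F.uniq h1 (.of_comm fun i => (k _ (F.xm i)).symm),
    fun k => by simpa using F.memC (k ▸ h1) (F.actJ (one_mem _))⟩

theorem actC (hg : g ∈ centralizer (X : Set G)) : Act e g m1 := .of_comm fun i => (hg _ (F.xm i)).symm

theorem actL {j : G} (hj : j ∈ centralizer (X : Set G)) (h1 : Act e g a) : Act e (j * g) a := by
  simpa [show ∀ a, mm m1 a = a by decide +kernel] using (F.actC hj).mul h1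

theorem leC : X ≤ centralizer (X : Set G) := fun x hx y hy => F.comm y hy x hx

theorem three : IsPGroup 3 X := fun j => ⟨1, Subtype.ext (by simpa using F.cube j j.2)⟩

theorem Jc {j : G} (hj : j ∈ X) : X ≤ centralizer {j} := fun k hk => mc.2 (F.comm k hk j hj)

theorem ord (hv : v ≠ 0) : orderOf (mon e v) = 3 := ord3 (F.cube _ (F.mJ v)) (mt F.one_iff.1 hv)

theorem mzp (hv : v ≠ 0) : mon e w ∈ zpowers (mon e v) ↔ w = 0 ∨ w = v ∨ w = -v := by
  rw [mem_zpowers_three (F.ord hv), ← F.neg, F.one_iff, F.eq_iff, F.eq_iff]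

theorem pr2 (hv : v ≠ 0) (h : ¬ (w = 0 ∨ w = v ∨ w = -v)) : Pr (mon e v) (mon e w) :=
  ⟨F.cube _ (F.mJ v), F.cube _ (F.mJ w), mt F.one_iff.1 hv, F.comm _ (F.mJ v) _ (F.mJ w), mt (F.mzp hv).1 h⟩

/-- a `3`-element whose matrix has a permutation part of order at most two lies in `X` -/
theorem mem3 (h1 : Act e g a) (h2 : a.1 * a.1 = 1) {k : ℕ} (h3 : g ^ 3 ^ k ∈ X) : g ∈ X :=
  mem_of_four (F.cent3 _ (by
    simpa [pow_succ, mul_assoc] using (F.C_iff (h1.mul (h1.mul (h1.mul h1)))).2 (c_four.1 a h2)) (k + 1) (by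
      rw [← pow_mul, mul_comm, pow_mul, pow_succ 3, pow_mul, F.cube _ h3, one_pow])) h3

theorem le_or_card {B : Subgroup G} (hB : ∀ b ∈ B, ∃ a, Act e b a) (h3 : ∀ b ∈ B, b ^ 3 = 1)
    (hc : ∀ a ∈ B, ∀ b ∈ B, a * b = b * a) : B ≤ X ∨ Nat.card B ≤ 9 := by
  refine or_iff_not_imp_left.2 fun hn => ?_
  obtain ⟨b, hb, bJ⟩ := SetLike.not_le_iff_exists.1 hn
  have c3 : ∀ {c a}, c ∈ B → Act e c a → mm a (mm a a) = m1 := fun hc h => F.uniq (h.mul (h.mul h)) (by
    rw [← pow_three, h3 _ hc]; exact F.actJ (one_mem _))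
  have mX : ∀ {c}, c ∈ B → c ∈ centralizer (X : Set G) → c ∈ X := fun k1 k2 => F.cent3 _ k2 1 (by simpa using h3 _ k1)
  obtain ⟨a, ha⟩ := hB b hb
  obtain ⟨⟨w, hw⟩, k⟩ := c_av.2.2.2.2.2.2 a (fun e => bJ (mX hb ((F.C_iff ha).2 e))) (c3 hb ha)
  refine le_trans (Nat.card_mono (Set.toFinite _) fun c hc' => ?_) ((Finite.card_range_le
    fun p : Fin 3 × Fin 3 => b ^ p.1.1 * mon e (p.2.1 • w)).trans (by simp))
  obtain ⟨i, hi⟩ : ∃ i : Fin 3, (b ^ i.1)⁻¹ * c ∈ centralizer (X : Set G) := by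
    obtain ⟨a', h'⟩ := hB c hc'
    rcases k a' (F.uniq (ha.mul h') (hc _ hb _ hc' ▸ h'.mul ha)) (c3 hc' h') with rfl | rfl | rfl
    exacts [⟨0, by simpa using (F.C_iff h').2 rfl⟩, ⟨1, by simpa using F.memC h' ha⟩,
      ⟨2, by simpa [pow_two] using F.memC h' (ha.mul ha)⟩]
  obtain ⟨v, hv⟩ := F.exm (mX (mul_mem (inv_mem (pow_mem hb _)) hc') hi)
  obtain ⟨j, rfl⟩ := hw v ((F.fix ha).1 (hv ▸ hc _ hb _ (mul_mem (inv_mem (pow_mem hb _)) hc')))
  exact ⟨(i, j), by simp [hv]⟩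

variable [Finite G]

theorem memH (h1 : Act e g a) : g ∈ normalizer (X : Set G) := F.gen ▸ h1.norm

/-- `X` is weakly closed in its normalizer -/
theorem wc (hg : ∀ j ∈ X, g * j * g⁻¹ ∈ normalizer (X : Set G)) : g ∈ normalizer (X : Set G) := by
  have m : ∀ b ∈ MulAut.conj g • X, ∃ j ∈ X, b = g * j * g⁻¹ := fun b hb =>
    ⟨_, (mem_conj_smul_iff _ _ _).1 hb, by group⟩
  rcases F.le_or_card (B := MulAut.conj g • X) (fun b hb => by
      obtain ⟨j, hj, rfl⟩ := m b hb; exact F.mono _ (hg j hj)) (fun b hb => by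
      obtain ⟨j, hj, rfl⟩ := m b hb; rw [conj_pow, F.cube j hj]; group) (fun a ha b hb => by
      obtain ⟨j, hj, rfl⟩ := m b hb
      obtain ⟨i, hi, rfl⟩ := m a ha
      rw [conj_mul, conj_mul, F.comm i hi j hj]) with e | e
  · exact mem_normalizer_fintype fun j hj => e (conj_mem_conj_smul g hj)
  · rw [card_conj_smul, F.card] at e; omega

theorem le_H {P : Subgroup G} (hP : IsPGroup 3 P) (hJ : X ≤ P) : P ≤ normalizer (X : Set G) := by
  have := Fact.mk Nat.prime_three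
  by_contra hn
  obtain ⟨k, hk, h1, h2⟩ := CL.Inv.exists_mem_normalizer_of_lt_pgroup hP
    (lt_of_le_of_ne inf_le_left fun e : P ⊓ normalizer (X : Set G) = P => hn (e ▸ inf_le_right))
  exact h1 ⟨hk, F.wc fun j hj => ((mem_normalizer_iff.1 h2 j).1 ⟨hJ hj, le_normalizer hj⟩).2⟩

theorem fus {x : G} (hx : x ∈ X) (hg : g * x * g⁻¹ ∈ X) :
    ∃ c ∈ centralizer {g * x * g⁻¹}, c * g ∈ normalizer (X : Set G) := by
  have := Fact.mk Nat.prime_three
  obtain ⟨P, hP, hJP⟩ := exists_isSylowIn_ge F.three (F.Jc hg)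
  obtain ⟨c, hc, e⟩ := hP.exists_conj_le (U := MulAut.conj g • X) (F.three.conj_smul g) fun b hb => mc.2 (by
    rw [show b = g * (g⁻¹ * b * g) * g⁻¹ by group, conj_mul, conj_mul, F.comm _ ((mem_conj_smul_iff _ _ _).1 hb) _ hx])
  refine ⟨c, hc, F.wc fun j hj => F.le_H hP.isPGroup hJP ?_⟩
  simpa [mul_assoc] using e (conj_mem_conj_smul c (conj_mem_conj_smul g hj))

theorem mem_of_conj {x : G} (hx : x ∈ X) (hc : centralizer {g * x * g⁻¹} ≤ normalizer (X : Set G)) :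
    g ∈ normalizer (X : Set G) :=
  F.wc fun j hj => hc (mc.2 (by rw [conj_mul, conj_mul, F.comm j hj x hx]))

theorem conj_v (h : IsConj (mon e v) (mon e w)) : ∃ a, Re e a ∧ av a v = w := by
  obtain ⟨g, h⟩ := isConj_iff.1 h
  obtain ⟨c, hc, h1⟩ := F.fus (F.mJ v) (h ▸ F.mJ w)
  obtain ⟨a, ha⟩ := F.mono _ h1
  refine ⟨a, ⟨_, ha⟩, F.inj ?_⟩
  rw [h] at hc
  calc _ = c * (g * mon e v * g⁻¹) * c⁻¹ := by rw [← F.app ha]; group
    _ = _ := by rw [h, mc.1 hc]; group

theorem cent_av (h1 : Re e a) (h : centralizer {mon e v} ≤ normalizer (X : Set G)) :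
    centralizer {mon e (av a v)} ≤ normalizer (X : Set G) := by
  obtain ⟨g, h1⟩ := h1
  exact F.app h1 v ▸ A9R.cent_conj h (F.memH h1)

omit [Finite G] in
theorem cent_neg (h : centralizer {mon e v} ≤ normalizer (X : Set G)) :
    centralizer {mon e (-v)} ≤ normalizer (X : Set G) := fun _ hg =>
  h (mc.2 (Commute.inv_right_iff.1 (F.neg v ▸ mc.1 hg)))

theorem normal_of_le {N : Subgroup G} [hN : N.Normal] (h1 : X ≤ N) (h2 : N ≤ normalizer (X : Set G)) : X.Normal :=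
  normalizer_eq_top_iff.1 (eq_top_iff.2 fun g _ => F.wc fun j hj => h2 (hN.conj_mem j (h1 hj) g))

/-- every `3`-element is conjugate into `N(X)` -/
theorem conj3 {k : ℕ} (hg : g ^ 3 ^ k = 1) : ∃ c, c * g * c⁻¹ ∈ normalizer (X : Set G) := by
  have := Fact.mk Nat.prime_three
  obtain ⟨P, hP, hJP⟩ := exists_isSylowIn_ge F.three (le_top (a := X))
  obtain ⟨c, -, e⟩ := hP.exists_conj_le (pg_zp hg) le_top
  exact ⟨c, F.le_H hP.isPGroup hJP (e (conj_mem_conj_smul c (mem_zpowers g)))⟩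

/-- elements of order 3 that centralise `s` -/
theorem cls3 {s : G} (h : ∀ n, n * s = s * n → n ∈ normalizer ((X ⊓ centralizer {s} : Subgroup G) : Set G) →
    ∀ k : ℕ, n ^ 3 ^ k = 1 → n ∈ X) : IsSylowIn 3 (X ⊓ centralizer {s}) (centralizer {s}) :=
  have := Fact.mk Nat.prime_three
  isSylowIn_of_loc inf_le_right (F.three.to_le inf_le_left) fun n hn hN k hk => ⟨h n (mc.1 hn) hN k hk, hn⟩

omit [Finite G] in
/-- a `3'`-element of `N(X)` in an `X`-invariant `3'`-group centralises `X` -/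
theorem cent_of_cop {K : Subgroup G} (hK : (Nat.card K).Coprime 3) (hX : X ≤ normalizer (K : Set G)) (hg : g ∈ K)
    (hN : g ∈ normalizer (X : Set G)) : g ∈ centralizer (X : Set G) := fun x hx => by
  have k1 : g * x * g⁻¹ * x⁻¹ ∈ X := mul_mem ((mem_normalizer_iff.1 hN x).1 hx) (inv_mem hx)
  have k2 : g * x * g⁻¹ * x⁻¹ ∈ K := by
    simpa only [mul_assoc] using mul_mem hg ((mem_normalizer_iff.1 (hX hx) _).1 (inv_mem hg))
  have k3 := Nat.eq_one_of_dvd_coprimes hK (K.orderOf_dvd_natCard k2) (orderOf_dvd_of_pow_eq_one (F.cube _ k1))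
  exact (mul_inv_eq_iff_eq_mul.1 (mul_inv_eq_one.1 (orderOf_eq_one_iff.1 k3))).symm

end Mn

end CL.Ast
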