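/-
Astill's theorem (helper35): elementary facts on `HB`, `HS`, `Mu`, and the assembly of the parts.
-/
import Cfsg.Agent.Ast.Mn
import Cfsg.Agent.Ast.Dec

set_option autoImplicit false
set_option synthInstance.maxSize 4096

namespace CL.Ast

open Subgroup Cfsg CL.Grp CL.Rec CL.Perm CL.G23 CL.McL3 CL.McL3.C27 CL.S9R Equiv
open scoped Pointwise

universe u

variable {G : Type*} [Group G] {t : G} {X : Subgroup G} {e : Fin 3 → G} {q : G} {g h n s : G} {a b : Mo} {v w : V3}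

namespace HB

variable (F : HB t X e q)
include F

theorem tinv : t⁻¹ = t := inv_eq_of_mul_eq_one_right F.t2

theorem cz (hg : g ∈ zpowers t) (h : G) : g * h = h * g := (cm_of_mem hg (F.cen h)).symm

theorem zC (hg : g ∈ zpowers t) : g ∈ centralizer (X : Set G) := fun x _ => (F.cz hg x).symm

theorem zN (hg : g ∈ zpowers t) : g ∈ normalizer (X : Set G) := centralizer_le_normalizer _ (F.zC hg)

theorem conj_z (hg : g ∈ zpowers t) (h : G) : h * g * h⁻¹ = g := by rw [← F.cz hg, mul_inv_cancel_right]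

theorem conj_z_iff : h * g * h⁻¹ ∈ zpowers t ↔ g ∈ zpowers t :=
  ⟨fun k => by rwa [← F.conj_z k h⁻¹, show h⁻¹ * (h * g * h⁻¹) * h⁻¹⁻¹ = g by group] at k, fun k => (F.conj_z k h).symm ▸ k⟩

theorem X_z (hx : g ∈ X) (hg : g ∈ zpowers t) : g = 1 := by
  rcases (mem_zp2 F.t2).1 hg with k | k
  exacts [k, eq_one_of_two_three (k ▸ F.t2) (F.cube g hx)]

theorem C_cases (hg : g ∈ centralizer (X : Set G)) : ∃ x ∈ X, g = x ∨ g = x * t :=
  (F.cent g hg).elim (fun k => ⟨g, k, .inl rfl⟩) fun k => ⟨_, k, .inr (by rw [mul_assoc, F.t2, mul_one])⟩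

/-- an element of `C(X)` whose square lies in `⟨t⟩` -/
theorem z_of_sq (hg : g ∈ centralizer (X : Set G)) (h2 : g * g ∈ zpowers t) : g ∈ zpowers t := by
  obtain ⟨x, hx, rfl | rfl⟩ := F.C_cases hg
  · rw [eq_one_of_two_three (F.X_z (mul_mem hx hx) h2) (F.cube _ hx)]; exact one_mem _
  · rw [mul_assoc, ← mul_assoc t, ← F.cen x, mul_assoc x, F.t2, mul_one] at h2
    rw [eq_one_of_two_three (F.X_z (mul_mem hx hx) h2) (F.cube _ hx), one_mul]; exact mem_zpowers _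

/-- `X`-invariant `3'`-groups meet `N(X)` inside `⟨t⟩` -/
theorem s1 {K : Subgroup G} (hK : (Nat.card K).Coprime 3) (hX : X ≤ normalizer (K : Set G)) (hg : g ∈ K)
    (hN : g ∈ normalizer (X : Set G)) : g ∈ zpowers t := by
  have c := F.toMn.cent_of_cop hK hX hg hN
  refine F.z_of_sq c ?_
  have k : g * g ∈ X := by
    obtain ⟨x, hx, rfl | rfl⟩ := F.C_cases c
    · exact mul_mem hx hx
    · rw [mul_assoc, ← mul_assoc t, ← F.cen x, mul_assoc x, F.t2, mul_one]; exact mul_mem hx hx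
  rw [orderOf_eq_one_iff.1 (Nat.eq_one_of_dvd_coprimes hK (K.orderOf_dvd_natCard (mul_mem hg hg))
    (orderOf_dvd_of_pow_eq_one (F.cube _ k)))]
  exact one_mem _

variable [Finite G]

theorem cube_inv (h1 : Act e n a) (h2 : mm a a = m1) : n ^ 3 * n ^ 3 = 1 ∧ Act e (n ^ 3) a := by
  have c := (F.toMn.C_iff (h1.mul h1)).2 h2
  refine ⟨?_, by rw [pow_three']; exact F.toMn.actL c h1⟩
  have k : n ^ 3 * n ^ 3 = (n * n) ^ 3 := by rw [← pow_two, ← pow_two, ← pow_mul, ← pow_mul]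
  obtain ⟨x, hx, e1 | e1⟩ := F.C_cases c
  · rw [k, e1, F.cube x hx]
  · refine absurd ?_ (F.sq _ (pow_mem (F.toMn.memH h1) 3))
    rw [k, e1, (show Commute x t from F.cen x).mul_pow, F.cube x hx, one_mul, pow_three', F.t2, one_mul]

theorem ex_inv (h1 : Re e a) (h2 : mm a a = m1) : ∃ n, n * n = 1 ∧ Act e n a :=
  let ⟨_, k⟩ := h1; ⟨_, F.cube_inv k h2⟩

omit [Finite G] in
/-- an element of `N(X)` whose square lies in `⟨t⟩` is an involution -/
theorem sq_one (hn : n ∈ normalizer (X : Set G)) (h2 : n * n ∈ zpowers t) : n * n = 1 :=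
  ((mem_zp2 F.t2).1 h2).resolve_right (F.sq n hn)

/-- commuting lifts -/
theorem lift (hs : Act e s a) (s2 : s * s = 1) (h : Re e b) (hc : mm a b = mm b a) :
    ∃ n, Act e n b ∧ n * s = s * n ∧ (mm b b = m1 → n * n = 1) := by
  have M := F.toMn
  obtain ⟨n, hn⟩ := h
  have si : s⁻¹ = s := inv_eq_of_mul_eq_one_right s2
  have k0 : n * s * n⁻¹ * s⁻¹ ∈ centralizer (X : Set G) := by
    have := (M.C_iff (((hn.mul hs).mul hn.inv).mul hs.inv)).2 (by
      rw [← hc]; exact (by decide +kernel : ∀ a b : Mo, mm (mm (mm a b) (mi b)) (mi a) = m1) a b)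
    exact this
  have k1 : n * s * n⁻¹ * s⁻¹ ∈ X := by
    obtain ⟨x, hx, k | k⟩ := F.C_cases k0
    · exact k ▸ hx
    · refine absurd ?_ (F.nc (x * n) (mul_mem (le_normalizer hx) (M.memH hn)) s (M.memH hs))
      have k2 : n * s * n⁻¹ = x * s * t := by rw [mul_assoc x, F.cen s, ← mul_assoc, ← k]; group
      have k3 : x * s * (x * s) = 1 := by
        have : x * s * t * (x * s * t) = 1 := by rw [← k2, conj_mul, s2]; group
        rwa [mul_assoc _ t, ← F.cen, mul_assoc (x * s) t, F.t2, mul_one] at this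
      have k4 : s * x⁻¹ = x * s := by rw [← inv_eq_of_mul_eq_one_right k3, mul_inv_rev, si]
      calc _ = x * (n * s * n⁻¹) * x⁻¹ := by group
        _ = x * x * (s * (t * x⁻¹)) := by rw [k2]; group
        _ = x * x * (s * x⁻¹) * t := by rw [← F.cen]; group
        _ = x ^ 3 * s * t := by rw [k4, pow_three']; group
        _ = _ := by rw [F.cube x hx, one_mul]
  have k2 : n * s * n⁻¹ * s⁻¹ * n * s = s * (n * s * n⁻¹ * s⁻¹ * n) := by
    calc _ = (n * s * n⁻¹ * s⁻¹) ^ 3 * (s * n * s⁻¹ * n⁻¹ * s * n) := by rw [pow_three]; group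
      _ = _ := by rw [F.cube _ k1, si]; group
  have k3 := M.actL k0 hn
  generalize n * s * n⁻¹ * s⁻¹ * n = m at k2 k3
  by_cases hb : mm b b = m1
  · exact ⟨m ^ 3, (F.cube_inv k3 hb).2, (show Commute m s from k2).pow_left 3, fun _ => (F.cube_inv k3 hb).1⟩
  · exact ⟨m, k3, k2, fun k => absurd k hb⟩

omit [Finite G] in
/-- two involutions with the same matrix are conjugate by `X`, up to `t` -/
theorem conj_inv (h1 : Act e n a) (h2 : Act e s a) (n2 : n * n = 1) (s2 : s * s = 1) :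
    ∃ x ∈ X, x * n * x⁻¹ = s ∨ x * n * x⁻¹ = s * t := by
  have key : ∀ {s : G}, s * n ∈ X → s * s = 1 → (s * n)⁻¹ * n * (s * n)⁻¹⁻¹ = s := fun {s} hx s2 => by
    have c := F.cube _ hx
    rw [inv_inv, mul_inv_rev, inv_eq_of_mul_eq_one_right n2, inv_eq_of_mul_eq_one_right s2,
      ← inv_eq_of_mul_eq_one_right s2, eq_inv_iff_mul_eq_one, inv_eq_of_mul_eq_one_right s2]
    calc _ = s⁻¹ * (s * n) ^ 3 * s := by rw [pow_three]; group
      _ = _ := by rw [c]; group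
  have := F.toMn.memC h1 h2
  rw [inv_eq_of_mul_eq_one_right s2] at this
  rcases F.cent _ this with k | k
  · exact ⟨_, inv_mem k, .inl (key k s2)⟩
  · rw [mul_assoc, F.cen, ← mul_assoc] at k
    exact ⟨_, inv_mem k, .inr (key k (by rw [mul_assoc, ← mul_assoc t, ← F.cen, mul_assoc s, F.t2, mul_one, s2]))⟩

end HB

theorem Good.conj [Finite G] (F : HB t X e q) {u : G} (hu : Good t X e u) (hn : n ∈ normalizer (X : Set G)) :
    Good t X e (n * u * n⁻¹) := by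
  obtain ⟨h1, h2, h3, k, h4⟩ := hu
  obtain ⟨a, ha⟩ := F.mono n hn
  refine ⟨mul_mem (mul_mem hn h1) (inv_mem hn), by rw [conj_mul, h2]; group, mt F.conj_z_iff.1 h3, a.1 k, ?_⟩
  have c : Commute (n * u * n⁻¹) (e (a.1 k) ^ (a.2 k : ℤ)) := by rw [← ha, Commute, SemiconjBy, conj_mul, conj_mul, h4]
  rcases Int.units_eq_one_or (a.2 k) with e1 | e1 <;> rw [e1] at c
  · simpa using c.eq
  · exact (Commute.inv_right_iff.1 (by simpa using c)).eq

theorem Good.mul_t (F : HB t X e q) {u : G} (hu : Good t X e u) : Good t X e (u * t) := by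
  obtain ⟨h1, h2, h3, k, h4⟩ := hu
  refine ⟨mul_mem h1 (F.zN (mem_zpowers t)), ?_, fun l => h3 ((mul_mem_cancel_right (mem_zpowers t)).1 l), k, ?_⟩
  · rw [mul_assoc, ← mul_assoc t, ← F.cen, mul_assoc u, F.t2, mul_one, h2]
  · rw [mul_assoc, ← F.cen, ← mul_assoc, h4, mul_assoc]

theorem Cl.conj (F : HB t X e q) {u : G} (hu : Cl t u) (g : G) : Cl t (g * u * g⁻¹) := by
  obtain ⟨k, hk⟩ := hu
  refine ⟨g * k * g⁻¹, ?_⟩
  calc _ = g * (k * u * k⁻¹) * g⁻¹ := by group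
    _ = _ := by rw [hk, ← mul_assoc, mul_assoc _ t, ← F.cen, ← mul_assoc]

theorem HS1.not_cl {P : V3 → Subgroup G} (F : HS1 t X e q P) {u : G} (hu : Good t X e u) : ¬ Cl t u := fun ⟨g, k⟩ =>
  let ⟨n, hn, k⟩ := F.fu u _ g hu (hu.mul_t F.toHB) k
  F.nc n hn u hu.1 k

/-- the four quaternion groups -/
theorem HS0.exP [Finite G] {P : Subgroup G} (F : HS0 t X e q P) : ∃ P', HS t X e q P' := by
  have M := F.toMn
  choose d hd using fun w => F.diag (sw w)
  have dw : ∀ w, Sg w → d w * mon e 1 * (d w)⁻¹ = mon e w := fun w hw => by rw [M.app (hd w), (c_sg.1 w hw).1]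
  have key : ∀ w, Sg w → ∀ g, g * mon e 1 * g⁻¹ ∈ zpowers (mon e w) → ∀ p, p ∈ MulAut.conj (d w) • P ↔ g⁻¹ * p * g ∈ P :=
    fun w hw g hg p => by
      have := F.nz ((d w)⁻¹ * g) (by
        rw [← dw w hw] at hg
        obtain ⟨i, hi⟩ := hg
        exact ⟨i, by simp only [conj_zpow] at hi ⊢; rw [mul_inv_rev, inv_inv, mul_assoc _ g, mul_assoc _ (g * _),
          ← mul_assoc (g * _), ← hi]; group⟩)
      rw [mem_conj_smul_iff, mem_normalizer_iff.1 this (g⁻¹ * p * g)]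
      exact iff_of_eq (congrArg (· ∈ P) (by group))
  have bk : ∀ w v, (d w)⁻¹ * mon e v * d w = mon e (av (mi (1, sw w)) v) := fun w v => by
    simpa using M.app (hd w).inv v
  have dt : ∀ w v, Sg w → dot (av (mi (1, sw w)) v) 1 = dot v w := fun w v hw => by
    rw [← (c_sg.2.1 (1, sw w) _).2.2.2, (c_sg.2.1 _ v).2.1, (c_sg.1 w hw).1]
  refine ⟨fun w => MulAut.conj (d w) • P, F.toHB, fun w _ => F.q8.conj _ (F.cen _), fun w hw => ?_,
    fun {n a} w hn hw p hp => ?_, fun w g hw hg => ?_, fun w g hw hg => ?_, fun v w hw h p hp => ?_,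
    fun v w hw h p hp k => ?_⟩
  · ext p
    rw [key w hw (d (-w)) (by rw [dw _ (c_sg.1 w hw).2.1, M.neg]; exact inv_mem (mem_zpowers _)), mem_conj_smul_iff]
  · rw [key _ ((c_sg.1 w hw).2.2.2 a) (n * d w) (by
      rw [← M.app hn, ← dw w hw, show n * d w * mon e 1 * (n * d w)⁻¹ = n * (d w * mon e 1 * (d w)⁻¹) * n⁻¹ by group]
      exact mem_zpowers _)]
    simpa [mul_assoc] using (mem_conj_smul_iff _ _ _).1 hp
  · refine mem_normalizer_fintype fun p hp => (key w hw (g * d w) ?_ _).2 ?_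
    · rwa [show g * d w * mon e 1 * (g * d w)⁻¹ = g * (d w * mon e 1 * (d w)⁻¹) * g⁻¹ by group, dw w hw]
    · simpa [mul_assoc] using (mem_conj_smul_iff _ _ _).1 hp
  · obtain ⟨p, hp, n, hn, k⟩ := F.cz ((d w)⁻¹ * g * d w) (by
      calc _ = (d w)⁻¹ * (g * (d w * mon e 1 * (d w)⁻¹)) * d w := by group
        _ = _ := by rw [dw w hw, hg, ← dw w hw]; group)
    have dN := M.memH (hd w)
    refine ⟨_, conj_mem_conj_smul (d w) hp, _, mul_mem (mul_mem dN hn) (inv_mem dN), ?_⟩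
    rw [conj_mul, ← k]; group
  · have := F.cP _ ((dt w v hw).trans h) _ ((mem_conj_smul_iff _ _ _).1 hp)
    rw [← bk] at this
    calc _ = d w * ((d w)⁻¹ * mon e v * d w * ((d w)⁻¹ * p * d w)) * (d w)⁻¹ := by group
      _ = _ := by rw [this]; group
  · rw [← dt w v hw] at h
    have k1 : ∀ x ∈ X, x ∈ normalizer (P : Set G) := fun x hx => F.nz x (by
      rw [(M.comm x hx _ (M.mJ 1)).eq, mul_inv_cancel_right]; exact mem_zpowers _)
    obtain ⟨r, hr, k2⟩ := F.ncP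
    have := F.q8.fp (k1 _ (M.mJ (av (mi (1, sw w)) v))) (M.cube _ (M.mJ _)) ⟨r, hr, fun c => k2 ?_⟩
      ((mem_conj_smul_iff _ _ _).1 hp) (by
        rw [← bk, ← F.toHB.conj_z_iff (h := d w)]
        simpa [mul_assoc] using k)
    · rwa [← inv_inv (d w), inv_inv (d w)⁻¹, F.toHB.conj_z_iff] at this
    · generalize av (mi (1, sw w)) v = v at h c
      rcases c_sg.2.2.1 v h with l | l <;> have := F.cP _ l r hr <;> rw [M.add] at this
      · rw [M.neg, mon_single] at this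
        exact (Commute.inv_left_iff.1 ((show Commute (mon e v) r from c).inv_left.mul_left this |>.symm.symm |>
          fun k => by simpa using k)).eq
      · rw [mon_single] at this
        exact ((show Commute (mon e v) r from c).inv_left.mul_left this |> fun k => by simpa using k : Commute (e 0) r).eq

namespace HS3

variable {P : V3 → Subgroup G} (F : HS3 t X e q P)
include F

theorem tR : t ∈ RR P := F.PR w1 (by decide) (F.q8 w1 (by decide)).mem

theorem muR {v : G} (hv : v ∈ RR P) : Mu X e P v m1 := ⟨v, hv, 1, one_mem _, F.toMn.actJ (one_mem _), by simp⟩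

theorem muN [Finite G] (h1 : Act e n a) : Mu X e P n a := ⟨1, one_mem _, n, F.toMn.memH h1, h1, by simp⟩

theorem mu_mul (h1 : Mu X e P g a) (h2 : Mu X e P h b) : Mu X e P (g * h) (mm a b) := by
  obtain ⟨v, hv, n, hn, ha, rfl⟩ := h1
  obtain ⟨w, hw, m, hm, hb, rfl⟩ := h2
  exact ⟨_, mul_mem hv ((mem_normalizer_iff.1 (F.nR hn) w).1 hw), _, mul_mem hn hm, ha.mul hb, by group⟩

theorem mu_inv (h1 : Mu X e P g a) : Mu X e P g⁻¹ (mi a) := by
  obtain ⟨v, hv, n, hn, ha, rfl⟩ := h1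
  exact ⟨_, (mem_normalizer_iff.1 (F.nR (inv_mem hn)) _).1 (inv_mem hv), _, inv_mem hn, ha.inv, by group⟩

theorem mu_uniq (h1 : Mu X e P g a) (h2 : Mu X e P g b) : a = b := by
  obtain ⟨v, hv, n, hn, ha, rfl⟩ := h1
  obtain ⟨w, hw, m, hm, hb, k⟩ := h2
  have e1 : w⁻¹ * v = m * n⁻¹ := by rw [eq_mul_inv_iff_mul_eq, mul_assoc, k, inv_mul_cancel_left]
  have := F.toMn.actL (F.toHB.zC (F.RN _ (mul_mem (inv_mem hw) hv) (e1 ▸ mul_mem hm (inv_mem hn)))) ha
  rw [e1, inv_mul_cancel_right] at this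
  exact F.toMn.uniq this hb

theorem mu_nrm (h1 : Mu X e P g a) : g ∈ normalizer (RR P : Set G) := by
  obtain ⟨v, hv, n, hn, -, rfl⟩ := h1
  exact mul_mem (le_normalizer hv) (F.nR hn)

/-- `R` normalizes each of the quaternion groups -/
theorem R_cj (hw : Sg w) {v p : G} (hv : v ∈ RR P) (hp : p ∈ P w) : v * p * v⁻¹ ∈ P w :=
  (mul_mem_cancel_right (inv_mem hp)).1 ((F.q8 w hw).zp_le (F.cmR v hv p (F.PR w hw hp)))

theorem mu_cj (h1 : Mu X e P g a) (hw : Sg w) {p : G} (hp : p ∈ P w) : g * p * g⁻¹ ∈ P (av a w) := by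
  obtain ⟨v, hv, n, -, ha, rfl⟩ := h1
  simpa only [mul_inv_rev, mul_assoc] using F.R_cj ((c_sg.1 w hw).2.2.2 a) hv (F.cjP w ha hw p hp)

/-- the kernel of `Mu` is `R X` -/
theorem mu_one (h1 : Mu X e P g m1) : ∃ v ∈ RR P, ∃ x ∈ X, g = v * x := by
  obtain ⟨v, hv, n, -, ha, rfl⟩ := h1
  obtain ⟨x, hx, rfl | rfl⟩ := F.toHB.C_cases ((F.toMn.C_iff ha).2 rfl)
  exacts [⟨v, hv, _, hx, rfl⟩, ⟨_, mul_mem hv F.tR, x, hx, by rw [F.cen x, mul_assoc]⟩]

end HS3

theorem hAll (h1 : H1Thm.{u}) (h2 : H2Thm.{u}) (h3 : H3Thm.{u}) (h4 : H4Thm.{u}) (hc : ClsThm.{u}) (h5 : H5Thm.{u})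
    (h6 : H6Thm.{u}) (h7 : H7Thm.{u}) (hx : HXThm.{u}) : HAll.{u} := fun F =>
  let ⟨_, F⟩ := F.exP
  have F3 := h3 (h2 (h1 F))
  hx (h7 (h6 (h5 (h4 F3) (hc F3))))

theorem concl_of_hyp (b1 : B1Thm.{u}) (b2 : B2Thm.{u}) (b3 : B3Thm.{u}) (l : LongThm.{u}) (hi : HIThm.{u}) (ha : HAll.{u})
    (hc : HCThm.{u}) (f : FinThm.{u}) {G : Type u} [Group G] [Finite G] {z t : G} {Q P : Subgroup G} (h : Hyp z t Q P) :
    Concl G := by
  obtain ⟨_, _, _, _, _, _, h⟩ := b2 (b1 h)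
  obtain ⟨_, h⟩ := b3 h
  obtain ⟨_, _, _, _, _, k⟩ := hi (l h)
  obtain ⟨_, _, _, _, _, m⟩ := ha k.toHS0
  obtain ⟨_, _, _, c⟩ := hc h k m
  exact f h c

end CL.Ast
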