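/-
Astill's theorem (helper35): finer interfaces for the analysis of `C(z)`, and elementary facts on `Q`.
-/
import Cfsg.Agent.Ast.Base

set_option autoImplicit false

namespace CL.Ast

open Subgroup Cfsg CL.Grp CL.Rec CL.Perm CL.G23 CL.McL3 CL.McL3.C27 CL.S9R Equiv
open scoped Pointwise

universe u

variable {G : Type*} [Group G]

/-- The extraspecial group `Q` with the involution `t`. -/
structure Ex (z t : G) (Q : Subgroup G) : Prop where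
  oz : orderOf z = 3
  cQ : Nat.card Q = 243
  Q3 : ∀ a ∈ Q, a ^ 3 = 1
  zQ : z ∈ Q
  Qz : ∀ a ∈ Q, a * z = z * a
  nQ : ∀ g, g * z * g⁻¹ ∈ zpowers z → g ∈ normalizer (Q : Set G)
  cmQ : ∀ a ∈ Q, ∀ b ∈ Q, a * b * a⁻¹ * b⁻¹ ∈ zpowers z
  ZQ : ∀ g, (∀ b ∈ Q, g * b = b * g) → g ∈ zpowers z
  t2 : t * t = 1
  tz : t * z = z * t
  tc : ∀ g, g * z = z * g → g * t * g⁻¹ * t⁻¹ ∈ Q

theorem Hyp.ex0 {z t : G} {Q P : Subgroup G} (h : Hyp z t Q P) : Ex z t Q :=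
  ⟨h.oz, h.cQ, h.Q3, h.zQ, h.Qz, h.nQ, h.cmQ, h.ZQ, h.q8.t2, h.Pz t h.q8.mem, h.tc⟩

structure HypA (z t : G) (Q P : Subgroup G) : Prop extends Hyp z t Q P where
  nP : ∀ g, g * z = z * g → ∀ p ∈ P, ∃ p' ∈ P, g * p * g⁻¹ * p'⁻¹ ∈ Q

/-- The normalized configuration. -/
structure Rel (z t : G) (Q : Subgroup G) (g s c i m n : G) : Prop extends Cj z t Q g s c i m n where
  st : s * t = t * s
  rn : i * n * i⁻¹ = n * z
  rm : c * m * c⁻¹ = m * z⁻¹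
  rc : c * s * c⁻¹ = s * z⁻¹ * m⁻¹
  ri : i * s * i⁻¹ = s * z * n⁻¹

/-- The decomposition of `C(z)` with a normalized involution `τ`. -/
def Tau (z : G) (Q P : Subgroup G) (s m n : G) : Prop :=
  (∀ g, g * z = z * g → ∃ a ∈ Q, ∃ p ∈ P, ∃ k : ℕ, g = a * p * s ^ k) ∨
    ∃ τ, τ * τ = 1 ∧ τ * z = z * τ ∧ (∀ p ∈ P, τ * p = p * τ) ∧ (∀ g, g * z = z * g → g * τ * g⁻¹ * τ⁻¹ ∈ Q) ∧
      τ * n = n * τ ∧ τ * m * τ⁻¹ = m⁻¹ ∧ τ * s = s * τ ∧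
      ∀ g, g * z = z * g → ∃ a ∈ Q, ∃ p ∈ P, ∃ k : ℕ, g = a * p * s ^ k ∨ g = a * p * s ^ k * τ

structure Pr2 (ι : V → G) (J S P : Subgroup G) (t q n x : G) : Prop extends Cz ι J S P t q n where
  lx : Lin ι x xM
  x0 : x ∈ N0 J t
  nc0 : ¬ IsConj (ι zv) (ι (e4 0))
  ncm : ¬ IsConj (ι zv) (ι mv)
  sg : ∀ K : Subgroup G, (Nat.card K).Coprime 3 → J ≤ normalizer (K : Set G) → K ≤ centralizer {ι zv} → K = ⊥
  dich : (∀ g ∈ normalizer (J : Set G), g * ι zv = ι zv * g → ∃ s ∈ S, g = s ∨ g = s * t) ∨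
    ∃ τ, τ * τ = 1 ∧ τ * t = t * τ ∧ Lin ι τ τM ∧ ∀ g ∈ normalizer (J : Set G), g * ι zv = ι zv * g →
      ∃ s ∈ S, g = s ∨ g = s * t ∨ g = s * τ ∨ g = s * t * τ

def RedBThm : Prop := ∀ {G : Type u} [Group G] [Finite G] {z t s : G} {Q P K : Subgroup G}, Ex z t Q → Q8 t P →
  P ≤ K → (∀ k ∈ K, k * z = z * k) → s ∈ K → s ^ 3 ∈ Q → (∀ p ∈ P, ∃ p' ∈ P, s * p * s⁻¹ * p'⁻¹ ∈ Q) →
  (∀ p ∈ P, s * p * s⁻¹ * p⁻¹ ∈ Q → p ∈ zpowers t) → (∀ k ∈ K, ∃ a ∈ Q, ∃ p ∈ P, ∃ i : ℕ, k = a * p * s ^ i) →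
  ∀ (r : ℕ) (A : Fin (r + 1) → Subgroup G), A 0 = zpowers z → A (Fin.last r) = Q →
  (∀ i : Fin r, A i.castSucc < A i.succ) → (∀ i : Fin (r + 1), ∀ k ∈ K, ∀ a ∈ A i, k * a * k⁻¹ ∈ A i) →
  (∀ i : Fin r, ∀ B : Subgroup G, A i.castSucc < B → B < A i.succ → ∃ k ∈ K, ∃ b ∈ B, k * b * k⁻¹ ∉ B) →
  (∃! i : Fin r, ∃ k ∈ K, ∃ a ∈ A i.succ, k * a * k⁻¹ * a⁻¹ ∉ A i.castSucc) →
  Nat.card (Q ⊓ centralizer {t} : Subgroup G) = 27 ∧ ∀ p ∈ P, ∀ a ∈ Q, a * t = t * a → p * a = a * p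

def RedAThm : Prop := ∀ {G : Type u} [Group G] [Finite G] (S : Sylow 3 G) (Z C Q K : Subgroup G),
  Z = (S : Subgroup G) ⊓ centralizer ((S : Subgroup G) : Set G) → C = centralizer (Z : Set G) →
  Q = (pCore 3 C).map C.subtype → IsExtraspecial 3 Q → Nat.card Q = 3 ^ 5 → (∀ a ∈ Q, a ^ 3 = 1) →
  centralizer (Q : Set G) ≤ Q →
  (∃ x : G, Z.map (MulAut.conj x).toMonoidHom ≤ Q ∧ Z.map (MulAut.conj x).toMonoidHom ≠ Z) →
  K = ((pResidual 2 (C ⧸ pCore 3 C)).comap (QuotientGroup.mk' (pCore 3 C))).map C.subtype →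
  ∀ (r : ℕ) (A : Fin (r + 1) → Subgroup G), A 0 = Z → A (Fin.last r) = Q → (∀ i : Fin r, A i.castSucc < A i.succ) →
  (∀ i : Fin (r + 1), ∀ k ∈ K, ∀ a ∈ A i, k * a * k⁻¹ ∈ A i) →
  (∀ i : Fin r, ∀ B : Subgroup G, A i.castSucc < B → B < A i.succ → ∃ k ∈ K, ∃ b ∈ B, k * b * k⁻¹ ∉ B) →
  (Nonempty (C ⧸ pCore 3 C ≃* Matrix.SpecialLinearGroup (Fin 2) (ZMod 3)) ∨
    Nonempty (C ⧸ pCore 3 C ≃* Matrix.SpecialLinearGroup (Fin 2) (ZMod 3) × Multiplicative (ZMod 2))) →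
  (∃! i : Fin r, ∃ k ∈ K, ∃ a ∈ A i.succ, k * a * k⁻¹ * a⁻¹ ∉ A i.castSucc) → ∃ (z t : G) (P : Subgroup G), HypA z t Q P

def B1AThm : Prop := ∀ {G : Type u} [Group G] [Finite G] {z t : G} {Q P : Subgroup G}, HypA z t Q P → Hyp1 z t Q P

def B2aThm : Prop := ∀ {G : Type u} [Group G] [Finite G] {z t : G} {Q P : Subgroup G}, Hyp1 z t Q P →
  ∃ g s c i m n, Rel z t Q g s c i m n ∧ Tau z Q P s m n

def B2bThm : Prop := ∀ {G : Type u} [Group G] [Finite G] {z t g s c i m n : G} {Q P : Subgroup G}, Hyp1 z t Q P →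
  Rel z t Q g s c i m n → Tau z Q P s m n → ∃ ι J S x, Pre ι J S P t c i x

def B3aThm : Prop := ∀ {G : Type u} [Group G] [Finite G] {ι : V → G} {J S P : Subgroup G} {t q n x : G},
  Pre ι J S P t q n x → ∃ ι' x', Pr2 ι' J S P t q n x'

def B3bThm : Prop := ∀ {G : Type u} [Group G] [Finite G] {ι : V → G} {J S P : Subgroup G} {t q n x : G},
  Pr2 ι J S P t q n x → GF ι J S P t q n

theorem concl_of_hypA (b1 : B1AThm.{u}) (b2 : B2aThm.{u}) (b2' : B2bThm.{u}) (b3 : B3aThm.{u}) (b3' : B3bThm.{u})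
    (l : LongThm.{u}) (hi : HIThm.{u}) (ha : HAll.{u}) (hc : HCThm.{u}) (f : FinThm.{u}) {G : Type u} [Group G] [Finite G]
    {z t : G} {Q P : Subgroup G} (h : HypA z t Q P) : Concl G := by
  obtain ⟨_, _, _, _, _, _, h1, h2⟩ := b2 (b1 h)
  obtain ⟨_, _, _, _, h⟩ := b2' (b1 h) h1 h2
  obtain ⟨_, _, h⟩ := b3 h
  have h := b3' h
  obtain ⟨_, _, _, _, _, k⟩ := hi (l h)
  obtain ⟨_, _, _, _, _, m⟩ := ha k.toHS0
  obtain ⟨_, _, _, c⟩ := hc h k m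
  exact f h c

namespace Ex

variable {z t : G} {Q : Subgroup G} (h : Ex z t Q) {a b c i g : G}
include h

theorem tinv : t⁻¹ = t := inv_eq_of_mul_eq_one_right h.t2

theorem ZleQ : zpowers z ≤ Q := zpowers_le.2 h.zQ

omit h in
/-- elements of `⟨z⟩` commute with the elements of `C(z)` -/
theorem cz (ha : a ∈ zpowers z) (hg : g * z = z * g) : g * a = a * g := cm_of_mem ha hg

omit h in
theorem conj_z (ha : a ∈ zpowers z) (hg : g * z = z * g) : g * a * g⁻¹ = a := by rw [cz ha hg, mul_inv_cancel_right]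

theorem nC (hg : g * z = z * g) : g ∈ normalizer (Q : Set G) :=
  h.nQ g (by rw [hg, mul_inv_cancel_right]; exact mem_zpowers z)

theorem cj (hg : g * z = z * g) (ha : a ∈ Q) : g * a * g⁻¹ ∈ Q := (mem_normalizer_iff.1 (h.nC hg) a).1 ha

theorem one_of_sq (ha : a ∈ Q) (h2 : a * a = 1) : a = 1 := eq_one_of_two_three h2 (h.Q3 a ha)

theorem z_of_sq (ha : a ∈ Q) (h2 : a * a ∈ zpowers z) : a ∈ zpowers z := by
  rw [← inv_mem_iff, inv_eq_of_mul_eq_one_left (show a * a * a = 1 from pow_three' a ▸ h.Q3 a ha)]; exact h2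

/-- `a b a⁻¹ = b w` with `w ∈ ⟨z⟩` -/
theorem cj_eq (ha : a ∈ Q) (hb : b ∈ Q) : ∃ w ∈ zpowers z, a * b * a⁻¹ = b * w :=
  ⟨_, h.cmQ a ha b hb, by rw [cz (h.cmQ a ha b hb) (h.Qz b hb)]; group⟩

/-- the elements of `Q` that `t` inverts modulo `⟨z⟩` -/
def Q1 : Subgroup G where
  carrier := {a | a ∈ Q ∧ t * a * t⁻¹ * a ∈ zpowers z}
  one_mem' := ⟨one_mem _, by simp⟩
  mul_mem' := fun {a b} ha hb => ⟨mul_mem ha.1 hb.1, by
    have := mul_mem (mul_mem ha.2 (h.cmQ _ (inv_mem ha.1) _ (h.cj h.tz hb.1))) hb.2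
    simpa only [mul_inv_rev, inv_inv, mul_assoc, mul_inv_cancel_left, inv_mul_cancel_left] using this⟩
  inv_mem' := fun {a} ha => ⟨inv_mem ha.1, by
    have := inv_mem ha.2
    rw [← conj_z this (h.Qz a ha.1)] at this
    simpa only [mul_inv_rev, inv_inv, mul_assoc, mul_inv_cancel_left] using this⟩

theorem mem_Q1 : a ∈ h.Q1 ↔ a ∈ Q ∧ t * a * t⁻¹ * a ∈ zpowers z := Iff.rfl

theorem Q1_of_inv (hi : i ∈ Q) (ti : t * i * t⁻¹ = i⁻¹) : i ∈ h.Q1 := ⟨hi, by rw [ti, inv_mul_cancel]; exact one_mem _⟩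

theorem Z_le_Q1 : zpowers z ≤ h.Q1 := fun a ha => ⟨h.ZleQ ha, by rw [conj_z ha h.tz]; exact mul_mem ha ha⟩

theorem z_of_Q1 (ha : a ∈ h.Q1) (ta : a * t = t * a) : a ∈ zpowers z :=
  h.z_of_sq ha.1 (by simpa only [← ta, mul_inv_cancel_right] using ha.2)

theorem one_of_inv (hi : i ∈ zpowers z) (ti : t * i * t⁻¹ = i⁻¹) : i = 1 :=
  h.one_of_sq (h.ZleQ hi) (mul_eq_one_iff_eq_inv.2 ((conj_z hi h.tz).symm.trans ti))

/-- `C_Q(t)` centralizes `Q1` -/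
theorem orth (hc : c ∈ Q) (ct : c * t = t * c) (ha : a ∈ h.Q1) : c * a = a * c := by
  obtain ⟨w, hw, e⟩ := h.cj_eq hc ha.1
  have k : c * (t * a * t⁻¹) * c⁻¹ = t * a * t⁻¹ * w := by
    calc _ = c * t * a * (c * t)⁻¹ := by group
      _ = t * (c * a * c⁻¹) * t⁻¹ := by rw [ct]; group
      _ = _ := by rw [e, ← conj_mul, conj_z hw h.tz]
  have := conj_z ha.2 (h.Qz c hc)
  rw [← conj_mul, k, e, mul_assoc _ w, mul_assoc _ a, mul_right_inj, ← mul_assoc, ← cz hw (h.Qz a ha.1), mul_assoc,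
    mul_eq_left] at this
  rwa [h.one_of_sq (h.ZleQ hw) this, mul_one, mul_inv_eq_iff_eq_mul] at e

theorem split (ha : a ∈ Q) : ∃ c ∈ Q, ∃ i ∈ Q, c * t = t * c ∧ t * i * t⁻¹ = i⁻¹ ∧ a = c * i := by
  obtain ⟨c, hc, i, hi, e, k1, k2⟩ := exists_split (R := Q) (by rw [h.cQ]; decide) h.t2 (fun _ => h.cj h.tz) ha
  exact ⟨c, hc, i, hi, (mul_inv_eq_iff_eq_mul.1 k1).symm, k2, e⟩

/-- an element of `Q` that `t` centralizes modulo `⟨z⟩` commutes with `t` -/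
theorem ct_of (ha : a ∈ Q) (k : t * a * t⁻¹ * a⁻¹ ∈ zpowers z) : a * t = t * a := by
  obtain ⟨c, hc, i, hi, ct, ti, rfl⟩ := h.split ha
  rw [← conj_mul, ti, ← ct, mul_inv_cancel_right, ← conj_z k (h.Qz _ (inv_mem hc))] at k
  rw [h.one_of_inv (inv_mem_iff.1 (h.z_of_sq (inv_mem hi) (by simpa [mul_assoc] using k))) ti, mul_one, ct]

theorem tcj (hg : g * z = z * g) (ha : a ∈ Q) :
    ∃ w ∈ zpowers z, t * (g * a * g⁻¹) * t⁻¹ = g * (t * a * t⁻¹) * g⁻¹ * w := by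
  obtain ⟨w, hw, e⟩ := h.cj_eq (h.tc g⁻¹ (Commute.inv_left hg)) (h.cj h.tz ha)
  refine ⟨w, hw, ?_⟩
  calc _ = g * (g⁻¹ * t * g⁻¹⁻¹ * t⁻¹ * (t * a * t⁻¹) * (g⁻¹ * t * g⁻¹⁻¹ * t⁻¹)⁻¹) * g⁻¹ := by group
    _ = _ := by rw [e, ← conj_mul, conj_z hw hg]

/-- `C(z)` normalizes `C_Q(t)` -/
theorem n0 (hg : g * z = z * g) (hc : c ∈ Q) (ct : c * t = t * c) : g * c * g⁻¹ * t = t * (g * c * g⁻¹) := by
  obtain ⟨w, hw, e⟩ := h.tcj hg hc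
  refine h.ct_of (h.cj hg hc) ?_
  rwa [e, ← ct, mul_inv_cancel_right, conj_z hw (h.Qz _ (h.cj hg hc))]

/-- `C(z)` normalizes `Q1` -/
theorem n1 (hg : g * z = z * g) (ha : a ∈ h.Q1) : g * a * g⁻¹ ∈ h.Q1 := by
  obtain ⟨w, hw, e⟩ := h.tcj hg ha.1
  refine ⟨h.cj hg ha.1, ?_⟩
  rw [e, mul_assoc _ w, ← cz hw (h.Qz _ (h.cj hg ha.1)), ← mul_assoc, conj_mul, conj_z ha.2 hg]
  exact mul_mem ha.2 hw

theorem card01 [Finite G] : Nat.card (Q ⊓ centralizer {t} : Subgroup G) * Nat.card h.Q1 = 729 := by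
  have k := card_sup_mul_card_inf (H := Q ⊓ centralizer {t}) (K := h.Q1) fun c hc =>
    mem_normalizer_fintype fun a ha => h.n1 (h.Qz c hc.1) ha
  rw [show Q ⊓ centralizer {t} ⊔ h.Q1 = Q from le_antisymm (sup_le inf_le_left fun _ k => k.1) fun a ha => by
      obtain ⟨c, hc, i, hi, ct, ti, rfl⟩ := h.split ha
      exact mul_mem (mem_sup_left ⟨hc, mc.2 ct⟩) (mem_sup_right (h.Q1_of_inv hi ti)),
    show Q ⊓ centralizer {t} ⊓ h.Q1 = zpowers z from le_antisymm (fun a ha => h.z_of_Q1 ha.2 (mc.1 ha.1.2))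
      (le_inf (le_inf h.ZleQ (zpowers_le.2 (mc.2 h.tz.symm))) h.Z_le_Q1), h.cQ, Nat.card_zpowers, h.oz] at k
  exact k.symm

end Ex

end CL.Ast
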