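/-
Astill's theorem, part B1: the configuration of a conjugate of `z` in `Q`.
-/
import Cfsg.Agent.Ast.Defs2
import Cfsg.Agent.Fus.SubGrp

set_option autoImplicit false
set_option linter.unusedSectionVars false

namespace CL.Ast

open Subgroup Cfsg CL.Grp CL.Rec CL.Perm CL.G23 CL.McL3 CL.McL3.C27 CL.S9R Equiv
open scoped Pointwise

universe u

variable {G : Type*} [Group G] [Finite G]

namespace Ex

variable {z t y t' : G} {Q Q' A B : Subgroup G} (h : Ex z t Q) {a b c i g s u v w : G}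
include h

omit [Finite G] in
theorem b1_z3 : z ^ 3 = 1 := h.Q3 z h.zQ

omit [Finite G] in
theorem b1_map (f : G ≃* G) : Ex (f z) (f t) (Q.map (f : G →* G)) := by
  have e : ∀ {a}, a ∈ zpowers z → f a ∈ zpowers (f z) := fun ha =>
    (MonoidHom.map_zpowers (f : G →* G) z).le (mem_map_of_mem _ ha)
  have e' : ∀ {a}, f a ∈ zpowers (f z) → a ∈ zpowers z := fun ⟨k, hk⟩ => ⟨k, f.injective ((map_zpow f z k).trans hk)⟩
  refine ⟨(f.orderOf_eq z).trans h.oz, (card_map_of_injective f.injective).trans h.cQ, ?_, mem_map_of_mem _ h.zQ, ?_,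
    fun g hg => ?_, ?_, fun g hg => ?_, by rw [← map_mul, h.t2, map_one], by rw [← map_mul, h.tz, map_mul], fun g hg => ?_⟩
  · rintro _ ⟨a, ha, rfl⟩; rw [← map_pow, h.Q3 a ha, map_one]
  · rintro _ ⟨a, ha, rfl⟩; simpa using congrArg f (h.Qz a ha)
  · obtain ⟨g, rfl⟩ := f.surjective g
    exact le_normalizer_map (f : G →* G) (mem_map_of_mem _ (h.nQ g (e' (by simpa using hg))))
  · rintro _ ⟨a, ha, rfl⟩ _ ⟨b, hb, rfl⟩; simpa using e (h.cmQ a ha b hb)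
  · obtain ⟨g, rfl⟩ := f.surjective g
    exact e (h.ZQ g fun b hb => f.injective (by simpa using hg _ (mem_map_of_mem _ hb)))
  · obtain ⟨g, rfl⟩ := f.surjective g
    simpa using mem_map_of_mem (f : G →* G) (h.tc g (f.injective (by simpa using hg)))

/-- the commutator map -/
def b1_cm (hA : A ≤ Q) (hu : u ∈ Q) : A →* G := MonoidHom.mk' (fun b => b * u * (b : G)⁻¹ * u⁻¹) fun a b => by
  rw [← cz (h.cmQ _ (hA b.2) u hu) (h.Qz _ (mul_mem (h.cj (h.Qz _ (hA a.2)) hu) (inv_mem hu))) |>.symm,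
    ← conj_z (h.cmQ _ (hA b.2) u hu) (h.Qz _ (hA a.2)), coe_mul]
  group

theorem b1_range (hA : A ≤ Q) (hu : u ∈ Q) (k : ¬ A ≤ centralizer {u}) : (h.b1_cm hA hu).range = zpowers z := by
  obtain ⟨b, hb, k⟩ := SetLike.not_le_iff_exists.1 k
  refine le_antisymm (by rintro _ ⟨b, rfl⟩; exact h.cmQ _ (hA b.2) u hu) ?_
  rw [← zp_eq h.b1_z3 (h.cmQ b (hA hb) u hu) fun e => k (mc.2 (mul_inv_eq_iff_eq_mul.1 (mul_inv_eq_one.1 e)))]
  exact zpowers_le.2 ⟨⟨b, hb⟩, rfl⟩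

theorem b1_card (hA : A ≤ Q) (hu : u ∈ Q) (k : ¬ A ≤ centralizer {u}) :
    Nat.card ↥(A ⊓ centralizer {u}) * 3 = Nat.card A := by
  rw [inf_comm, ← card_inf_mul_relIndex (centralizer {u}) A, relIndex, show (centralizer {u}).subgroupOf A =
    (h.b1_cm hA hu).ker from Subgroup.ext fun b => mc.trans (mul_inv_eq_iff_eq_mul.symm.trans mul_inv_eq_one.symm),
    index_ker, h.b1_range hA hu k, Nat.card_zpowers, h.oz]

theorem b1_sup (hZ : zpowers z ≤ A) (hA : A ≤ Q) (hu : u ∈ Q) (k : u ∉ A) :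
    Nat.card ↥(A ⊔ zpowers u) = 3 * Nat.card A :=
  CL.Fus.card_sup_zpowers_of_normalizer (mem_normalizer_fintype fun a ha => by
    obtain ⟨w, hw, e⟩ := h.cj_eq hu (hA ha)
    exact e ▸ mul_mem ha (hZ hw)) k (h.Q3 u hu ▸ one_mem _)

theorem b1_sup9 (hu : u ∈ Q) (k : u ∉ zpowers z) : Nat.card ↥(zpowers z ⊔ zpowers u) = 9 := by
  rw [h.b1_sup le_rfl h.ZleQ hu k, Nat.card_zpowers, h.oz]

theorem b1_81 (ha : a ∈ Q) (k : a ∉ zpowers z) : Nat.card ↥(Q ⊓ centralizer {a}) = 81 := by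
  have := h.b1_card le_rfl ha fun e => k (h.ZQ a fun b hb => (mc.1 (e hb)).symm)
  rw [h.cQ] at this; omega

theorem b1_nc (ha : a ∈ Q) (k : a ∉ zpowers z) : ∃ u ∈ Q ⊓ centralizer {a}, ∃ v ∈ Q ⊓ centralizer {a},
    u * v ≠ v * u ∧ zpowers (u * v * u⁻¹ * v⁻¹) = zpowers z := by
  suffices ∃ u ∈ Q ⊓ centralizer {a}, ∃ v ∈ Q ⊓ centralizer {a}, u * v ≠ v * u from
    let ⟨u, hu, v, hv, e⟩ := this
    ⟨u, hu, v, hv, e, zp_eq h.b1_z3 (h.cmQ u hu.1 v hv.1) fun k => e (mul_inv_eq_iff_eq_mul.1 (mul_inv_eq_one.1 k))⟩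
  by_contra! ab
  obtain ⟨u, hu, e⟩ : ∃ u ∈ Q, u ∉ centralizer {a} := by
    by_contra! e
    exact k (h.ZQ a fun b hb => (mc.1 (e b hb)).symm)
  have c := h.b1_81 ha k
  have hZ : zpowers z ≤ Q ⊓ centralizer {a} := zpowers_le.2 ⟨h.zQ, mc.2 (h.Qz a ha).symm⟩
  have s : Q ⊓ centralizer {a} ⊔ zpowers u = Q := eq_of_le_of_card_ge (sup_le inf_le_left (zpowers_le.2 hu)) (by
    rw [h.b1_sup hZ inf_le_left hu fun k => e k.2, c, h.cQ])
  have c1 := h.b1_card inf_le_left hu fun k => e (mc.2 (mc.1 (k ⟨ha, mc.2 rfl⟩)).symm)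
  have c2 := card_le_of_le (show Q ⊓ centralizer {a} ⊓ centralizer {u} ≤ zpowers z from fun x hx => h.ZQ x fun b hb =>
    mc.1 ((s.ge.trans (sup_le (fun y hy => mc.2 (ab y hy x hx.1)) (zpowers_le.2 (mc.2 (mc.1 hx.2).symm)) :
      _ ≤ centralizer {x})) hb) |>.symm)
  rw [Nat.card_zpowers, h.oz] at c2
  omega

theorem b1_o3 (c3 : ¬ 3 ^ 7 ∣ Nat.card G) (hB : IsPGroup 3 B) (hz : B ≤ centralizer {z}) :
    Q.relIndex B ∣ 3 ∧ ∀ u ∈ B, ∀ v ∈ B, u * v * u⁻¹ * v⁻¹ ∈ Q := by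
  have := Fact.mk Nat.prime_three
  have n : B ≤ normalizer (Q : Set G) := fun b hb => h.nC (mc.1 (hz hb))
  have d : Q.relIndex B ∣ 3 := by
    obtain ⟨k, hk⟩ := hB.index (Q.subgroupOf B)
    have e := card_subgroup_dvd_card (B ⊔ Q)
    rw [← card_mul_relIndex (le_sup_right : Q ≤ B ⊔ Q), relIndex_sup_of_le_normalizer n, h.cQ, relIndex, hk] at e
    rw [relIndex, hk]
    exact (pow_dvd_pow 3 (by_contra fun l => c3 ((mul_dvd_mul_left 243 (pow_dvd_pow 3 (by omega : 2 ≤ k))).trans e)) :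
      3 ^ k ∣ 3 ^ 1)
  refine ⟨d, fun u hu v hv => ?_⟩
  have := normal_subgroupOf_of_le_normalizer n
  have := isCyclic_of_card_dvd_prime (α := B ⧸ Q.subgroupOf B) d
  have e := mul_comm' ((⟨u, hu⟩ : B) : B ⧸ Q.subgroupOf B) (⟨v, hv⟩ : B)
  rw [← mul_inv_eq_one, mul_inv_rev, ← mul_assoc] at e
  exact (QuotientGroup.eq_one_iff ((⟨u, hu⟩ : B) * (⟨v, hv⟩ : B) * (⟨u, hu⟩ : B)⁻¹ * (⟨v, hv⟩ : B)⁻¹)).1 e

omit [Finite G] in
theorem b1_inv (ti : t * i * t⁻¹ = i⁻¹) (hi : i ∈ Q) (hw : w ∈ zpowers z) (k : t * (i * w) * t⁻¹ = (i * w)⁻¹) : w = 1 :=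
  h.one_of_inv hw (by rwa [← conj_mul, ti, ← cz hw (h.Qz i hi) |>.symm, mul_inv_rev, mul_right_inj] at k)

omit [Finite G] in
/-- the intersection of `C_Q(t)` and `Q1` -/
theorem b1_01 (ha : a * t = t * a) (hb : b * t = t * b) (hu : u ∈ h.Q1) (hv : v ∈ h.Q1) (e : a * u = b * v) :
    v * u⁻¹ ∈ zpowers z := h.z_of_Q1 (mul_mem hv (inv_mem hu)) (by
  rw [show v * u⁻¹ = b⁻¹ * a by rw [eq_inv_mul_iff_mul_eq, ← mul_assoc, ← e, mul_inv_cancel_right]]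
  exact ((Commute.inv_left hb).mul_left ha).eq)

theorem b1_pl {M : Subgroup G} (hZ : zpowers z ≤ M) (hM : M ≤ Q) (c27 : Nat.card M = 27) (hc : c ∈ M)
    (cZ : c ∉ zpowers z) (k : M ≤ centralizer {c} → ∀ b ∈ Q, c * b = b * c) (ha : a ∈ M) (e : c * a = a * c) :
    ∃ u ∈ zpowers c, ∃ w ∈ zpowers z, a = u * w := by
  have c1 := h.b1_card hM (hM hc) fun e => cZ (h.ZQ c (k e))
  have := eq_of_le_of_card_ge (sup_le (le_inf hZ (zpowers_le.2 (mc.2 (h.Qz c (hM hc)).symm))) (zpowers_le.2 ⟨hc, mc.2 rfl⟩) :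
    zpowers z ⊔ zpowers c ≤ M ⊓ centralizer {c}) (by rw [h.b1_sup9 (hM hc) cZ]; omega)
  exact (mem_sup_iff_of_le_normalizer (zpowers_le.2 (centralizer_le_normalizer _ fun x hx =>
    (cm_of_mem hx (h.Qz c (hM hc)).symm).symm))).1 (sup_comm (zpowers z) _ ▸ this.ge ⟨ha, mc.2 e.symm⟩)

theorem b1_l1 (h' : Ex y t' Q') (c3 : ¬ 3 ^ 7 ∣ Nat.card G) (hy : y ∈ Q) (yZ : y ∉ zpowers z) : z ∈ Q' := by
  obtain ⟨u, hu, v, hv, -, e⟩ := h.b1_nc hy yZ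
  exact (e.ge.trans (zpowers_le.2 ((h'.b1_o3 c3 ((IsPGroup.of_card (n := 5) h.cQ).to_inf_left) inf_le_right).2 u hu v hv)))
    (mem_zpowers z)

end Ex

namespace HypA

variable {z t : G} {Q P : Subgroup G} (F : HypA z t Q P) {a b c i g s u v w : G}
include F

theorem b1_c1 : Nat.card F.toHyp.ex0.Q1 = 27 := by
  have := F.toHyp.ex0.card01
  rw [F.c2] at this; omega

theorem b1_pl1 {i' : G} (hi : i ∈ Q) (hi' : i' ∈ Q) (ti : t * i * t⁻¹ = i⁻¹) (ti' : t * i' * t⁻¹ = i'⁻¹) (i1 : i ≠ 1)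
    (e : i * i' = i' * i) : i' ∈ zpowers i := by
  have E := F.toHyp.ex0
  obtain ⟨_, ⟨k, rfl⟩, w, hw, rfl⟩ := E.b1_pl E.Z_le_Q1 (fun _ k => k.1) F.b1_c1 (E.Q1_of_inv hi ti)
    (fun k => i1 (E.one_of_inv k ti)) (fun k b hb => by
      obtain ⟨c, hc, j, hj, ct, tj, rfl⟩ := E.split hb
      exact (Commute.mul_right (E.orth hc ct (E.Q1_of_inv hi ti)).symm (mc.1 (k (E.Q1_of_inv hj tj))).symm).eq)
    (E.Q1_of_inv hi' ti') e
  rw [E.b1_inv (by rw [← conj_zpow, ti, inv_zpow]) (zpow_mem hi k) hw ti', mul_one]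
  exact ⟨k, rfl⟩

omit [Finite G] in
theorem b1_P {p : G} (hp : p ∈ P) (p1 : p ≠ 1) {K : Subgroup G} (k : p ∈ K) : t ∈ K := by
  rcases (F.q8.sq p hp).resolve_left p1 with e | e <;> rw [← e]
  exacts [k, mul_mem k k]

theorem b1_tr {i' : G} (hi : i ∈ Q) (hi' : i' ∈ Q) (ti : t * i * t⁻¹ = i⁻¹) (ti' : t * i' * t⁻¹ = i'⁻¹) (i1 : i ≠ 1)
    (i1' : i' ≠ 1) : ∃ p ∈ P, p * i * p⁻¹ = i' := by
  have E := F.toHyp.ex0
  by_contra! k
  have c1 : Nat.card ({j | j ∈ Q ∧ t * j * t⁻¹ = j⁻¹} × zpowers z) ≤ Nat.card E.Q1 := Nat.card_le_card_of_injective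
    (fun x => ⟨x.1 * x.2, mul_mem (E.Q1_of_inv x.1.2.1 x.1.2.2) (E.Z_le_Q1 x.2.2)⟩) fun ⟨⟨j, hj⟩, ⟨w, hw⟩⟩ ⟨⟨j', hj'⟩, ⟨w', hw'⟩⟩ e => by
      have e : j * (w * w'⁻¹) = j' := by rw [← mul_assoc, show j * w = j' * w' from congrArg Subtype.val e, mul_inv_cancel_right]
      have e' := E.b1_inv hj.2 hj.1 (mul_mem hw (inv_mem hw')) (e ▸ hj'.2)
      rw [e', mul_one] at e
      exact Prod.ext (Subtype.ext e) (Subtype.ext (mul_inv_eq_one.1 e'))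
  have c2 := Set.ncard_le_ncard (show insert 1 (insert i' ((fun p => p * i * p⁻¹) '' P)) ⊆
      {j | j ∈ Q ∧ t * j * t⁻¹ = j⁻¹} by
    rintro _ (rfl | rfl | ⟨p, hp, rfl⟩)
    · simp
    · exact ⟨hi', ti'⟩
    · exact ⟨E.cj (F.Pz p hp) hi, by
        rw [show t * (p * i * p⁻¹) * t⁻¹ = t * p * i * (t * p)⁻¹ by group, ← F.q8.ct hp, conj_inv, ← ti]; group⟩)
  rw [Set.ncard_insert_of_notMem (by
      rintro (e | ⟨p, -, e⟩)
      exacts [i1' e.symm, i1 (by simpa using e)]), Set.ncard_insert_of_notMem (by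
      rintro ⟨p, hp, e⟩; exact k p hp e),
    Set.InjOn.ncard_image fun p hp p' hp' e => by
      by_contra ne
      have := mc.1 (F.b1_P (mul_mem (inv_mem hp') hp) (fun e => ne (inv_mul_eq_one.1 e).symm) (K := centralizer {i})
        (mc.2 (by
          rw [show p'⁻¹ * p * i = p'⁻¹ * (p * i * p⁻¹) * p by group, show p * i * p⁻¹ = p' * i * p'⁻¹ from e]; group)))
      rw [this, mul_inv_cancel_right] at ti
      exact i1 (E.one_of_sq hi (mul_eq_one_iff_eq_inv.2 ti)),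
    ← Nat.card_coe_set_eq, ← Nat.card_coe_set_eq, show Nat.card (P : Set G) = 8 from F.q8.card] at c2
  rw [Nat.card_prod, F.b1_c1, Nat.card_zpowers, F.oz] at c1
  omega

theorem b1_sm (sz : s * z = z * s) (s3 : s ^ 3 ∈ Q) (sQ : s ∉ Q) :
    ∃ i ∈ F.toHyp.ex0.Q1, s * i * s⁻¹ * i⁻¹ ∉ zpowers z := by
  have E := F.toHyp.ex0
  by_contra! k
  let K : Subgroup G :=
    { carrier := {g | g * z = z * g ∧ ∀ i ∈ E.Q1, g * i * g⁻¹ * i⁻¹ ∈ zpowers z}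
      one_mem' := ⟨by simp, by simp⟩
      mul_mem' := fun {g h} hg hh => ⟨Commute.mul_left hg.1 hh.1, fun i hi => by
        have := mul_mem (hh.2 i hi) (hg.2 i hi)
        rw [← Ex.conj_z (hh.2 i hi) hg.1] at this
        convert this using 1; group⟩
      inv_mem' := fun {g} hg => ⟨Commute.inv_left hg.1, fun i hi => by
        have := inv_mem (hg.2 i hi)
        rw [← Ex.conj_z this (Commute.inv_left hg.1)] at this
        convert this using 1; group⟩ }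
  have n : ∀ p, p * z = z * p → ∀ g ∈ K, p * g * p⁻¹ ∈ K := fun p hp g hg =>
    ⟨(Commute.mul_left hp hg.1).mul_left (Commute.inv_left hp), fun i hi => by
      have := hg.2 _ (E.n1 (Commute.inv_left hp) hi)
      rw [← Ex.conj_z this hp] at this
      convert this using 1; group⟩
  have hQ : Q ≤ K := fun a ha => ⟨F.Qz a ha, fun i hi => F.cmQ a ha i hi.1⟩
  obtain ⟨a, ha, aZ⟩ : ∃ a ∈ E.Q1, a ∉ zpowers z := SetLike.not_le_iff_exists.1 fun l => by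
    have := card_le_of_le l
    rw [F.b1_c1, Nat.card_zpowers, F.oz] at this; omega
  obtain ⟨p, hp, pt⟩ := F.q8.ex_out
  obtain ⟨p', hp', e⟩ := F.nP s sz p hp
  have k1 : p' * p⁻¹ ∈ K := by
    have := mul_mem (inv_mem (hQ e)) (mul_mem (show s ∈ K from ⟨sz, k⟩) (n p (F.Pz p hp) _ (inv_mem (show s ∈ K from ⟨sz, k⟩))))
    convert this using 1; group
  suffices p' = p from pt (F.s3 s sz s3 sQ p hp (this ▸ e))
  refine mul_inv_eq_one.1 (by_contra fun ne => aZ ?_)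
  have := mul_mem (inv_mem ((F.b1_P (mul_mem hp' (inv_mem hp)) ne k1).2 a ha)) ha.2
  rw [mul_inv_rev, inv_inv, mul_assoc, inv_mul_cancel_left] at this
  exact E.z_of_sq ha.1 this

theorem b1_cj {y t' : G} {Q' : Subgroup G} (E' : Ex y t' Q') (hy : y ∈ Q) (yZ : y ∉ zpowers z) :
    ∃ s c i m n, y = m * n ∧ z ∈ Q' ∧ s ∈ Q' ∧ i * c ∈ Q' ∧ s * z = z * s ∧ s ∉ Q ∧ i * c * s ≠ s * (i * c) ∧ c ∈ Q ∧
      c * t = t * c ∧ i ∈ Q ∧ t * i * t⁻¹ = i⁻¹ ∧ m ∈ Q ∧ m * t = t * m ∧ n ∈ Q ∧ t * n * t⁻¹ = n⁻¹ ∧ i * n ≠ n * i ∧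
      c * m ≠ m * c ∧ s * n = n * s ∧ s * m = m * s := by
  have E := F.toHyp.ex0
  have zY := E.b1_l1 E' F.c3 hy yZ
  have triv : ∀ x ∈ zpowers z, x ∈ zpowers y → x = 1 := fun x h1 h2 => by_contra fun ne =>
    yZ (((zp_eq E'.b1_z3 h2 ne).symm.trans (zp_eq E.b1_z3 h1 ne)).le (mem_zpowers y))
  have ab : ∀ a ∈ Q ⊓ Q', ∀ b ∈ Q ⊓ Q', a * b = b * a := fun a ha b hb =>
    mul_inv_eq_iff_eq_mul.1 (mul_inv_eq_one.1 (triv _ (E.cmQ a ha.1 b hb.1) (E'.cmQ a ha.2 b hb.2)))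
  have zy : z ∉ zpowers y := fun k => ne_one_of_ord3 F.oz (triv z (mem_zpowers z) k)
  have yD : y ∈ Q ⊓ Q' := ⟨hy, E'.zQ⟩
  have ZD : zpowers z ≤ Q ⊓ Q' := zpowers_le.2 ⟨F.zQ, zY⟩
  have cD : Nat.card ↥(Q ⊓ Q') ≤ 27 := by
    obtain ⟨u, hu, v, hv, e, -⟩ := E.b1_nc hy yZ
    have l : Q ⊓ Q' ≤ Q ⊓ centralizer {y} := fun x hx => ⟨hx.1, mc.2 (E'.Qz x hx.2)⟩
    have h1 := CL.Fus.card_lt_of_lt (lt_of_le_of_ne l fun k => e (ab u (k.ge hu) v (k.ge hv)))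
    have h2 := card_dvd_of_le l
    rw [E.b1_81 hy yZ] at h1 h2
    exact (by decide : ∀ d ∈ Nat.divisors 81, d < 81 → d ≤ 27) _ (Nat.mem_divisors.2 ⟨h2, by norm_num⟩) h1
  obtain ⟨s, hs, sQ, w, hw, ws⟩ : ∃ s ∈ Q' ⊓ centralizer {z}, s ∉ Q ∧ ∃ w ∈ Q ⊓ Q', w * s ≠ s * w := by
    by_contra! k
    obtain ⟨u, hu, v, hv, e, -⟩ := E'.b1_nc zY zy
    have uQ : u ∉ Q := fun uQ => e (by
      by_cases vQ : v ∈ Q
      exacts [ab u ⟨uQ, hu.1⟩ v ⟨vQ, hv.1⟩, k v hv vQ u ⟨uQ, hu.1⟩])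
    have d := (E.b1_o3 F.c3 ((IsPGroup.of_card (n := 5) E'.cQ).to_inf_left) (inf_le_right : Q' ⊓ _ ≤ _)).1
    rw [← inf_relIndex_right] at d
    rcases eq_or_eq_of_relIndex_prime (K := (Q' ⊓ centralizer {z}) ⊓ centralizer {u}) (le_inf inf_le_right fun x hx =>
      mc.2 (k u hu uQ x ⟨hx.1, hx.2.1⟩)) inf_le_left (((Nat.dvd_prime Nat.prime_three).1 d).resolve_left
        (fun e => uQ (relIndex_eq_one.1 e hu).1) ▸ Nat.prime_three) with l | l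
    exacts [uQ (l.le ⟨hu, mc.2 rfl⟩).1, e (mc.1 (l.ge hv).2).symm]
  have sz := mc.1 hs.2
  have sy := E'.Qz s hs.1
  obtain ⟨m, hm, n, hn, mt, tn, rfl⟩ := E.split hy
  obtain ⟨c, hc, i, hi, ct, ti, rfl⟩ := E.split hw.1
  have n1 := E.Q1_of_inv hn tn
  have i1 := E.Q1_of_inv hi ti
  have ci := E.orth hc ct i1
  have mn := E.orth hm mt n1
  have sn : n * (s * n * s⁻¹)⁻¹ ∈ zpowers z := E.b1_01 (E.n0 sz hm mt) mt (E.n1 sz n1) n1 (by
    rw [conj_mul, sy, mul_inv_cancel_right])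
  have n0 : n ≠ 1 := by
    rintro rfl
    rw [mul_one] at *
    obtain ⟨j, hj, dZ⟩ := F.b1_sm sz (E'.Q3 s hs.1 ▸ one_mem _) sQ
    have d1 : s * j * s⁻¹ * j⁻¹ ∈ E.Q1 := mul_mem (E.n1 sz hj) (inv_mem hj)
    have d2 : s * j * s⁻¹ * j⁻¹ ∈ Q' := by
      rw [mul_assoc s, mul_assoc s]
      exact mul_mem hs.1 (E'.cj (E.orth hm mt hj).symm (inv_mem hs.1))
    generalize s * j * s⁻¹ * j⁻¹ = d at *
    have d3 := E'.cmQ s hs.1 d d2
    have d4 := triv _ (E.z_of_Q1 (mul_mem (E.n1 sz d1) (inv_mem d1)) (cm_of_mem d3 mt.symm).symm) d3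
    have l : zpowers z ⊔ zpowers m ≤ Q ⊓ Q' := sup_le ZD (zpowers_le.2 yD)
    have e := eq_of_le_of_card_ge (sup_le l (zpowers_le.2 ⟨d1.1, d2⟩) : _ ⊔ zpowers d ≤ _) (by
      rw [E.b1_sup le_sup_left (l.trans inf_le_left) d1.1 fun k => dZ (E.z_of_Q1 d1 (mc.1 ((sup_le
        (zpowers_le.2 (mc.2 E.tz.symm)) (zpowers_le.2 (mc.2 mt)) : _ ≤ centralizer {t}) k))), E.b1_sup9 hm yZ]
      exact cD)
    exact ws (mc.1 ((e.ge.trans (sup_le (sup_le (zpowers_le.2 (mc.2 sz.symm)) (zpowers_le.2 (mc.2 sy.symm)))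
      (zpowers_le.2 (mc.2 (mul_inv_eq_iff_eq_mul.1 (mul_inv_eq_one.1 d4)).symm)) : _ ≤ centralizer {s})) hw))
  have ni : i * n ≠ n * i := fun e => by
    obtain ⟨k, hk⟩ := E'.cmQ s hs.1 _ hw.2
    obtain ⟨j, rfl⟩ := F.b1_pl1 hn hi tn ti n0 e.symm
    have a1 : s * n ^ j * s⁻¹ * (n ^ j)⁻¹ ∈ zpowers z := by
      rw [← conj_zpow, show s * n * s⁻¹ = (n * (s * n * s⁻¹)⁻¹)⁻¹ * n by group,
        Commute.mul_zpow (Ex.cz (inv_mem sn) (E.Qz n hn)).symm, mul_inv_cancel_right]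
      exact zpow_mem (inv_mem sn) j
    have a2 := E.b1_01 (a := s * c * s⁻¹ * c⁻¹) (b := m ^ k) (Commute.mul_left (E.n0 sz hc ct) (Commute.inv_left ct))
      (Commute.zpow_left mt k) (E.Z_le_Q1 a1) (zpow_mem n1 k) (by
        rw [← Commute.mul_zpow mn, show (m * n) ^ k = _ from hk, mul_assoc _ c⁻¹, Ex.cz a1 (E.Qz _ (inv_mem hc))]
        group)
    have a3 := E.one_of_inv ((mul_mem_cancel_right (inv_mem a1)).1 a2) (by rw [← conj_zpow, tn, inv_zpow])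
    rw [← orderOf_dvd_iff_zpow_eq_one, ord3 (E.Q3 n hn) n0, ← E'.oz, orderOf_dvd_iff_zpow_eq_one] at a3
    exact ws (mul_inv_eq_iff_eq_mul.1 (mul_inv_eq_one.1 (hk.symm.trans a3))).symm
  have cn := E.orth hc ct n1
  obtain ⟨⟨b, hb⟩, e⟩ := (E.b1_range (zpowers_le.2 hw.1) hn fun k => ni (by
    have := mc.1 (k (mem_zpowers _))
    rwa [mul_assoc, ← mul_assoc n, ← cn, mul_assoc, mul_right_inj] at this)).ge sn
  have bD := zpowers_le.2 hw hb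
  have e1 : b * s * n = n * (b * s) := mul_inv_eq_iff_eq_mul.1 (calc
    _ = b * ((n * (s * n * s⁻¹)⁻¹)⁻¹ * n) * b⁻¹ := by group
    _ = (n * (s * n * s⁻¹)⁻¹)⁻¹ * (b * n * b⁻¹ * n⁻¹) * n := by
      rw [← mul_assoc b, Ex.cz (inv_mem sn) (E.Qz b bD.1)]; group
    _ = n := by rw [show b * n * b⁻¹ * n⁻¹ = _ from e, inv_mul_cancel, one_mul])
  refine ⟨b * s, c, i, m, n, rfl, zY, mul_mem bD.2 hs.1, ci ▸ hw.2, Commute.mul_left (E.Qz b bD.1) sz,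
    fun k => sQ ((mul_mem_cancel_left (show b ∈ Q from bD.1)).1 k), fun k => ws ?_, hc, ct, hi, ti, hm, mt, hn, tn, ni,
    fun k => ni ?_, e1, ?_⟩
  · rwa [← ci, ← mul_assoc, ab _ hw b bD, mul_assoc b, mul_assoc b, mul_right_inj] at k
  · have := ab _ hw _ yD
    rwa [mul_assoc c, ← mul_assoc i, ← E.orth hm mt i1, mul_assoc m n, ← mul_assoc n, ← cn, ← mul_assoc, ← mul_assoc,
      ← mul_assoc, ← mul_assoc, k, mul_assoc (m * c), mul_assoc (m * c), mul_right_inj] at this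
  · rw [← mul_inv_cancel_right m n]
    exact ((Commute.mul_left (ab b bD _ yD) sy).mul_right (Commute.inv_right e1)).eq

theorem b1_ab (ha : a ∈ Q) (aZ : a ∉ zpowers z) (k : ∀ s, s * z = z * s → s * a = a * s → (∃ k : ℕ, s ^ 3 ^ k = 1) → s ∈ Q)
    {B : Subgroup G} (hB : IsPGroup 3 B) (h1 : ∀ b ∈ B, b * a = a * b) (h2 : ∀ b ∈ B, ∀ b' ∈ B, b * b' = b' * b) :
    Nat.card B ≤ 27 := by
  have E := F.toHyp.ex0
  have := Fact.mk Nat.prime_three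
  obtain ⟨u, hu, v, hv, e, e'⟩ := E.b1_nc ha aZ
  have S : IsSylowIn 3 (Q ⊓ centralizer {a}) (centralizer {a}) := isSylowIn_of_loc inf_le_right
    (IsPGroup.of_card (n := 5) F.cQ).to_inf_left fun n hn nN j hj => by
      obtain ⟨l, hl⟩ := e'.ge (mem_zpowers z)
      have a1 : n * z * n⁻¹ ∈ zpowers z := by
        have := zpow_mem (F.cmQ _ (CL.Fus.conj_mem_of_mem_normalizer nN hu).1 _ (CL.Fus.conj_mem_of_mem_normalizer nN hv).1) l
        rwa [conj_inv, conj_inv, conj_mul, conj_mul, conj_mul, conj_zpow, show _ ^ l = z from hl] at this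
      refine ⟨k n (commute_of_sq_of_odd (odd_orderOf_of_pow (Odd.pow (by decide)) hj) ?_) (mc.1 hn) ⟨j, hj⟩, hn⟩
      refine mul_inv_eq_iff_eq_mul.1 ?_
      rw [show n ^ 2 * z * (n ^ 2)⁻¹ = n * (n * z * n⁻¹) * n⁻¹ by rw [pow_two]; group]
      rcases tri3 E.b1_z3 a1 with r | r | r
      · exact absurd (by simpa using r) (ne_one_of_ord3 F.oz)
      · rw [r, r]
      · rw [r, ← conj_inv, r, inv_inv]
  obtain ⟨g, -, l⟩ := S.exists_conj_le hB fun b hb => mc.2 (h1 b hb)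
  have c1 := CL.Fus.card_lt_of_lt (lt_of_le_of_ne l fun r => e (by
    have := h2 _ ((mem_conj_smul_iff _ _ _).1 (r.ge hu)) _ ((mem_conj_smul_iff _ _ _).1 (r.ge hv))
    simpa [mul_assoc] using congrArg (· * g⁻¹) this))
  have c2 := card_dvd_of_le l
  rw [E.b1_81 ha aZ, card_conj_smul] at c1 c2
  exact (by decide : ∀ d ∈ Nat.divisors 81, d < 81 → d ≤ 27) _ (Nat.mem_divisors.2 ⟨c2, by norm_num⟩) c1

end HypA

theorem b1AThm : B1AThm.{u} := fun {G} _ _ {z t Q P} F =>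
  have E := F.toHyp.ex0
  ⟨F.toHyp, fun _ => E.split, fun c hc i hi ct ti => E.orth hc ct (E.Q1_of_inv hi ti), fun c hc c' hc' ct ct' cZ e => by
    obtain ⟨u, hu, w, hw, rfl⟩ := E.b1_pl (M := Q ⊓ centralizer {t}) (le_inf E.ZleQ (zpowers_le.2 (mc.2 E.tz.symm)))
      inf_le_left F.c2 ⟨hc, mc.2 ct⟩ cZ (fun k b hb => by
        obtain ⟨d, hd, j, hj, dt, tj, rfl⟩ := E.split hb
        exact (Commute.mul_right (mc.1 (k ⟨hd, mc.2 dt⟩)).symm (E.orth hc ct (E.Q1_of_inv hj tj))).eq) ⟨hc', mc.2 ct'⟩ e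
    obtain ⟨a, rfl⟩ := mem_powers_iff_mem_zpowers.2 hu
    obtain ⟨b, rfl⟩ := mem_powers_iff_mem_zpowers.2 hw
    exact ⟨a, b, rfl⟩, fun _ hi _ hi' => F.b1_pl1 hi hi', fun _ hi _ hi' => F.b1_tr hi hi', fun g h1 h2 => by
    obtain ⟨s, c, i, m, n, a1, a2, a3, a4, a5, a6, a7, a8, a9, b1, b2, b3, b4, b5, b6, b7, b8, b9, b10⟩ :=
      F.b1_cj (E.b1_map (MulAut.conj g)) h1 h2
    exact ⟨s, c, i, m, n, a1, mem_map_equiv.1 a2, mem_map_equiv.1 a3, a5, a6, mem_map_equiv.1 a4, a7, a8, a9, b1, b2, b3,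
      b4, b5, b6, b7, b8, b9, b10⟩, fun _ ha aZ k _ => F.b1_ab ha aZ k⟩

end CL.Ast
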