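/-
Astill's theorem (helper35): normalizing the configuration and the involution `τ`.
-/
import Cfsg.Agent.Ast.Defs2

set_option autoImplicit false

namespace CL.Ast

open Subgroup Cfsg CL.Grp CL.Rec CL.Perm CL.G23 CL.McL3 CL.McL3.C27 CL.S9R Equiv
open scoped Pointwise

universe u

namespace B2aJ

variable {G : Type*} [Group G] {z t g s c i m n a b x v w τ : G} {Q P : Subgroup G}

theorem inv_cj (k : b * w = w * b) (f : b * x * b⁻¹ = x * w) : b⁻¹ * x * b⁻¹⁻¹ = x * w⁻¹ := by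
  rw [inv_inv, eq_mul_inv_iff_mul_eq, mul_assoc, k, ← mul_assoc, mul_assoc b⁻¹, ← f]; group

theorem tri (E : Ex z t Q) (ha : a ∈ Q) (hb : b ∈ Q) (hx : x ∈ Q) (nc : b * x ≠ x * b) :
    a * x = x * a ∨ a * b * x = x * (a * b) ∨ a * b⁻¹ * x = x * (a * b⁻¹) := by
  obtain ⟨v, hv, e⟩ := E.cj_eq ha hx
  obtain ⟨w, hw, f⟩ := E.cj_eq hb hx
  have k : ∀ {b w}, w ∈ zpowers z → b * x * b⁻¹ = x * w → v * w = 1 → a * b * x = x * (a * b) := fun {b w} hw f h =>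
    mul_inv_eq_iff_eq_mul.1 (by
      calc _ = a * (b * x * b⁻¹) * a⁻¹ := by group
        _ = _ := by rw [f, ← conj_mul, e, Ex.conj_z hw (E.Qz a ha), mul_assoc, h, mul_one])
  have : w = 1 ∨ v = 1 ∨ v * w = 1 ∨ v * w⁻¹ = 1 := by
    rcases (mem_zpowers_three E.oz).1 hv with rfl | rfl | rfl <;>
      rcases (mem_zpowers_three E.oz).1 hw with rfl | rfl | rfl <;> simp
  rcases this with rfl | rfl | h | h
  · exact absurd (mul_inv_eq_iff_eq_mul.1 (f.trans (mul_one _))) nc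
  · exact .inl (mul_inv_eq_iff_eq_mul.1 (e.trans (mul_one _)))
  · exact .inr (.inl (k hw f h))
  · exact .inr (.inr (k (inv_mem hw) (inv_cj (Ex.cz hw (E.Qz b hb)) f) h))

theorem key (E : Ex z t Q) {H D : Subgroup G} (HQ : H ≤ Q) (hx : x ∈ Q) (hb : b ∈ H) (nc : b * x ≠ x * b)
    (HD : ∀ a ∈ H, a * x = x * a → a ∈ D) (ha : a ∈ H) : (b ∈ D → a ∈ D) ∧ (b ∉ D → a ∈ D → a * x = x * a) := by
  rcases tri E (HQ ha) (HQ hb) hx nc with h | h | h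
  · exact ⟨fun _ => HD a ha h, fun _ _ => h⟩
  · have := HD _ (mul_mem ha hb) h
    exact ⟨fun k => (mul_mem_cancel_right k).1 this, fun k l => absurd ((mul_mem_cancel_left l).1 this) k⟩
  · have := HD _ (mul_mem ha (inv_mem hb)) h
    exact ⟨fun k => (mul_mem_cancel_right (inv_mem k)).1 this,
      fun k l => absurd (inv_mem_iff.1 ((mul_mem_cancel_left l).1 this)) k⟩

theorem cjY (E : Ex z t Q) (y : g * z * g⁻¹ = x) (ha : g⁻¹ * a * g ∈ Q) (hb : g⁻¹ * b * g ∈ Q) :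
    a * b * a⁻¹ = b ∨ a * b * a⁻¹ = b * x ∨ a * b * a⁻¹ = b * x⁻¹ := by
  obtain ⟨w, hw, e⟩ := E.cj_eq ha hb
  have k : a * b * a⁻¹ = b * (g * w * g⁻¹) := by
    calc _ = g * (g⁻¹ * a * g * (g⁻¹ * b * g) * (g⁻¹ * a * g)⁻¹) * g⁻¹ := by group
      _ = _ := by rw [e]; group
  rw [k, ← y]
  rcases (mem_zpowers_three E.oz).1 hw with rfl | rfl | rfl <;> simp [mul_assoc]

theorem cyY (E : Ex z t Q) (y : g * z * g⁻¹ = x) (ha : g⁻¹ * a * g ∈ Q) : a * x = x * a := by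
  calc _ = g * (g⁻¹ * a * g * z) * g⁻¹ := by rw [← y]; group
    _ = _ := by rw [E.Qz _ ha, ← y]; group

theorem cubeY (E : Ex z t Q) (ha : g⁻¹ * a * g ∈ Q) : a ^ 3 = 1 := by
  calc _ = g * (g⁻¹ * a * g) ^ 3 * g⁻¹ := by rw [← conj_pow]; group
    _ = _ := by rw [E.Q3 _ ha]; group

theorem mvI (E : Ex z t Q) (C : Cj z t Q g s c i m n) : Cj z t Q g s c⁻¹ i⁻¹ m n :=
  have ci : i⁻¹ * c⁻¹ = (i * c)⁻¹ := by rw [← E.orth C.cQ C.ct (E.Q1_of_inv C.iQ C.ti), mul_inv_rev]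
  { C with
    wY := (show (g⁻¹ * (i * c) * g)⁻¹ = g⁻¹ * (i⁻¹ * c⁻¹) * g by rw [ci]; group) ▸ inv_mem C.wY
    ws := fun h => C.ws (Commute.inv_left_iff.1 (ci ▸ h))
    cQ := inv_mem C.cQ
    ct := Commute.inv_left C.ct
    iQ := inv_mem C.iQ
    ti := by rw [← conj_inv, C.ti]
    ni := fun h => C.ni (Commute.inv_left_iff.1 h)
    mc := fun h => C.mc (Commute.inv_left_iff.1 h) }

theorem mvS (C : Cj z t Q g s c i m n) : Cj z t Q g s⁻¹ c i m n :=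
  { C with
    sY := by simpa [mul_assoc] using inv_mem C.sY
    sz := Commute.inv_left C.sz
    sQ := mt inv_mem_iff.1 C.sQ
    ws := fun h => C.ws (Commute.inv_right_iff.1 h)
    sn := Commute.inv_left C.sn
    sm := Commute.inv_left C.sm }

theorem mvY (E : Ex z t Q) (C : Cj z t Q g s c i m n) (hv : v ∈ zpowers (m * n)) : Cj z t Q g (s * v) c i m n :=
  have vQ : v ∈ Q := zpowers_le.2 (mul_mem C.mQ C.nQ) hv
  have mn : Commute m n := E.orth C.mQ C.mt (E.Q1_of_inv C.nQ C.tn)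
  { C with
    sY := by
      obtain ⟨k, rfl⟩ := hv
      simp only [← C.y, conj_zpow]
      simpa [mul_assoc] using mul_mem C.sY (zpow_mem E.zQ k)
    sz := Commute.mul_left C.sz (E.Qz v vQ)
    sQ := mt (mul_mem_cancel_right vQ).1 C.sQ
    ws := fun h => C.ws (by
      rwa [mul_assoc s, ← cm_of_mem hv (cyY E C.y C.wY), ← mul_assoc, ← mul_assoc s, mul_left_inj] at h)
    sn := Commute.mul_left C.sn (cm_of_mem hv (mn.symm.mul_right (.refl n))).symm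
    sm := Commute.mul_left C.sm (cm_of_mem hv ((Commute.refl m).mul_right mn)).symm }

theorem n1 (C : Cj z t Q g s c i m n) : n ≠ 1 := fun h => C.ni (by simp [h])

/-- `s` can be chosen to commute with `t` -/
theorem step1 (F : Hyp1 z t Q P) (C : Cj z t Q g s c i m n) : ∃ s, Cj z t Q g s c i m n ∧ s * t = t * s := by
  have E := F.ex0
  have mn : Commute m n := E.orth C.mQ C.mt (E.Q1_of_inv C.nQ C.tn)
  have k : Commute (t * s * t⁻¹) n⁻¹ := by rw [← C.tn, Commute, SemiconjBy, conj_mul, conj_mul, C.sn]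
  obtain ⟨k, hk⟩ := F.pl1 n C.nQ _ (inv_mem (F.tc s C.sz)) C.tn (by simp [E.tinv, mul_assoc, ← mul_assoc t t, E.t2])
    (n1 C) (by
      simpa [mul_assoc] using ((Commute.inv_right_iff.1 k).mul_left (Commute.inv_left C.sn)).symm.eq)
  have e : t * s * t⁻¹ = n ^ k * s := by simp [hk, mul_assoc]
  have sb : Commute s (n ^ k) := Commute.zpow_right C.sn k
  have b3 : n ^ k * n ^ k = (n ^ k)⁻¹ :=
    eq_inv_of_mul_eq_one_left (pow_three' (n ^ k) ▸ E.Q3 _ (zpow_mem C.nQ k))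
  refine ⟨_, mvY E C (inv_mem (zpow_mem (mem_zpowers _) k)), (mul_inv_eq_iff_eq_mul.1 ?_).symm⟩
  rw [mn.mul_zpow, mul_inv_rev, ← conj_mul, ← conj_mul, e, ← conj_inv, ← conj_inv, ← conj_zpow,
    ← conj_zpow, C.tn, ← C.mt, mul_inv_cancel_right, inv_zpow, inv_inv, ← sb.eq, mul_assoc, ← mul_assoc (n ^ k), b3]

theorem fin (E : Ex z t Q) (C : Cj z t Q g s c i m n) (st : s * t = t * s) (rn : i * n * i⁻¹ = n * z)
    (ws : i * c * s * (i * c)⁻¹ = s * (m * n)⁻¹) : Rel z t Q g s c i m n := by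
  have i1 := E.Q1_of_inv C.iQ C.ti
  have n1 := E.Q1_of_inv C.nQ C.tn
  have z3 : z * z = z⁻¹ := eq_inv_of_mul_eq_one_left (pow_three' z ▸ E.Q3 z E.zQ)
  have αQ : c * s * c⁻¹ * s⁻¹ ∈ Q := by simpa [mul_assoc] using mul_mem C.cQ (E.cj C.sz (inv_mem C.cQ))
  have αt : Commute (c * s * c⁻¹ * s⁻¹) t :=
    ((Commute.mul_left C.ct st).mul_left (Commute.inv_left C.ct)).mul_left (Commute.inv_left st)
  have sy : Commute s (m * n) := Commute.mul_right C.sm C.sn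
  have e : m * (c * s * c⁻¹ * s⁻¹) = n⁻¹ * (s * i * s⁻¹ * i⁻¹) := by
    have : c * s * c⁻¹ * s⁻¹ * (i * s * i⁻¹) = (m * n)⁻¹ * s := by
      rw [← sy.inv_right.eq, ← ws, ← mul_assoc, ← mul_assoc, E.orth αQ αt i1]; group
    calc _ = m * (c * s * c⁻¹ * s⁻¹ * (i * s * i⁻¹)) * (i * s⁻¹ * i⁻¹) := by group
      _ = _ := by rw [this, E.orth C.mQ C.mt n1]; group
  have hv : m * (c * s * c⁻¹ * s⁻¹) ∈ zpowers z := E.z_of_Q1 (e ▸ mul_mem (inv_mem n1) (mul_mem (E.n1 C.sz i1)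
    (inv_mem i1))) (Commute.mul_left C.mt αt)
  generalize hc : m * (c * s * c⁻¹ * s⁻¹) = v at e hv
  have e1 : s * i * s⁻¹ = n * v * i := by rw [e]; group
  have e2 : n⁻¹ * v * i⁻¹ = (n * v * i)⁻¹ := by
    rw [← e1, conj_inv, ← C.ti, ← C.tn, ← Ex.conj_z hv E.tz, conj_mul, conj_mul, ← e1]
    calc _ = t * s * i * (t * s)⁻¹ := by group
      _ = _ := by rw [← st]; group
  have e3 : v * v = z := by
    have k1 := Ex.cz hv (E.Qz _ C.nQ)
    have k2 := Ex.cz hv (E.Qz _ C.iQ)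
    calc _ = v * n * (n⁻¹ * v * i⁻¹) * i := by group
      _ = n * (v * i⁻¹ * v⁻¹) * n⁻¹ * i := by rw [e2, ← k1]; group
      _ = i⁻¹ * (i * n * i⁻¹ * n⁻¹) * i := by rw [← (show Commute i v from k2).inv_left.eq]; group
      _ = _ := by rw [rn, E.Qz _ C.nQ, mul_inv_cancel_right, (show Commute i z from E.Qz _ C.iQ).inv_left.eq]; group
  have e4 : v = z⁻¹ := by
    rw [← e3, inv_eq_of_mul_eq_one_left (show v * (v * v) = 1 from pow_three v ▸ E.Q3 v (E.ZleQ hv))]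
  subst e4
  refine ⟨C, st, rn, ?_, ?_, ?_⟩
  · obtain ⟨w, hw, k⟩ := E.cj_eq C.cQ C.mQ
    have l := mul_inv_eq_iff_eq_mul.2 (cyY E C.y C.wY)
    rw [show i * c * (m * n) * (i * c)⁻¹ = i * (c * m * c⁻¹) * i⁻¹ * (i * (c * n * c⁻¹) * i⁻¹) by group, k,
      E.orth C.cQ C.ct n1, mul_inv_cancel_right, rn, ← conj_mul, Ex.conj_z hw (E.Qz _ C.iQ), ← E.orth C.mQ C.mt i1,
      mul_inv_cancel_right, mul_assoc, mul_right_inj, ← mul_assoc, ← Ex.cz hw (E.Qz _ C.nQ), mul_assoc, mul_eq_left] at l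
    rw [k, eq_inv_of_mul_eq_one_left l]
  · calc _ = m⁻¹ * (m * (c * s * c⁻¹ * s⁻¹)) * s := by group
      _ = _ := by
        rw [hc, ← mul_inv_rev, ← E.Qz _ C.mQ, mul_assoc, ← mul_inv_rev,
          (Commute.mul_right C.sm C.sz).inv_right.eq]
  · calc _ = (n * (n⁻¹ * (s * i * s⁻¹ * i⁻¹)))⁻¹ * s := by group
      _ = _ := by
        rw [← e, ← (Commute.mul_right C.sn (Commute.inv_right C.sz)).inv_right.eq]; group

theorem rel (F : Hyp1 z t Q P) : ∃ g s c i m n, Rel z t Q g s c i m n := by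
  have E := F.ex0
  obtain ⟨g, h1, h2⟩ := F.ex
  obtain ⟨s, c, i, m, n, C⟩ := F.cj g h1 h2
  obtain ⟨s, C, st⟩ := step1 F C
  obtain ⟨c, i, C, rn⟩ : ∃ c i, Cj z t Q g s c i m n ∧ i * n * i⁻¹ = n * z := by
    obtain ⟨w, hw, k⟩ := E.cj_eq C.iQ C.nQ
    rcases (mem_zpowers_three E.oz).1 hw with rfl | rfl | rfl
    · exact absurd (mul_inv_eq_iff_eq_mul.1 (k.trans (mul_one _))) C.ni
    · exact ⟨c, i, C, k⟩
    · exact ⟨_, _, mvI E C, (inv_cj (Ex.cz hw (E.Qz _ C.iQ)) k).trans (by rw [inv_inv])⟩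
  rcases cjY E C.y C.wY C.sY with k | k | k
  · exact absurd (mul_inv_eq_iff_eq_mul.1 k) C.ws
  · exact ⟨_, _, _, _, _, _, fin E (mvS C) (Commute.inv_left st) rn (by
      rw [← conj_inv, k, (Commute.mul_right C.sm C.sn).eq, mul_inv_rev])⟩
  · exact ⟨_, _, _, _, _, _, fin E C st rn k⟩

/-- the properties of `τ` that persist under the normalizations -/
structure Tp (z : G) (Q P : Subgroup G) (s τ : G) : Prop where
  t2 : τ * τ = 1
  tz : τ * z = z * τ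
  tP : ∀ p ∈ P, τ * p = p * τ
  tc : ∀ g, g * z = z * g → g * τ * g⁻¹ * τ⁻¹ ∈ Q
  dec : ∀ g, g * z = z * g → ∃ a ∈ Q, ∃ p ∈ P, ∃ k : ℕ, g = a * p * s ^ k ∨ g = a * p * s ^ k * τ

theorem Tp.cc (T : Tp z Q P s τ) (a : G) : τ * (τ * a * τ⁻¹) * τ⁻¹ = a := by
  rw [← mul_assoc, ← mul_assoc, T.t2, one_mul, mul_assoc, ← mul_inv_rev, T.t2, inv_one, mul_one]

theorem cjz (hw : w ∈ zpowers z) (hg : g * z = z * g) : g * w * g⁻¹ ∈ zpowers z := (Ex.conj_z hw hg).symm ▸ hw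

/-- the elements of `Q` that `s` centralizes modulo `⟨z⟩` -/
def DD (E : Ex z t Q) (s : G) : Subgroup G where
  carrier := {a | a ∈ Q ∧ s * a * s⁻¹ * a⁻¹ ∈ zpowers z}
  one_mem' := ⟨one_mem _, by simp⟩
  mul_mem' := fun {a b} ha hb => ⟨mul_mem ha.1 hb.1, by
    simpa only [mul_inv_rev, mul_assoc, inv_mul_cancel_left] using mul_mem ha.2 (cjz hb.2 (E.Qz a ha.1))⟩
  inv_mem' := fun {a} ha => ⟨inv_mem ha.1, by
    simpa only [mul_inv_rev, inv_inv, mul_assoc, inv_mul_cancel_left] using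
      cjz (inv_mem ha.2) (E.Qz _ (inv_mem ha.1))⟩

theorem DD_of (E : Ex z t Q) (ha : a ∈ Q) (h : s * a = a * s) : a ∈ DD E s := ⟨ha, by simp [h]⟩

theorem DD_cj (E : Ex z t Q) (T : Tp z Q P s τ) (sz : s * z = z * s) (ha : a ∈ DD E s) : τ * a * τ⁻¹ ∈ DD E s := by
  have b := T.tc s sz
  refine ⟨E.cj T.tz ha.1, ?_⟩
  simpa only [mul_inv_rev, inv_inv, mul_assoc, inv_mul_cancel_left, mul_inv_cancel_left] using
    mul_mem (cjz (cjz ha.2 T.tz) (E.Qz _ b)) (E.cmQ _ b _ (E.cj T.tz ha.1))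

variable (F : Hyp1 z t Q P) (R : Rel z t Q g s c i m n) (T : Tp z Q P s τ)
include F R

theorem mz (hx : x ∈ Q) (xt : x * t = t * x) (xm : x * m = m * x) : ∃ μ ∈ zpowers m, ∃ w ∈ zpowers z, x = μ * w :=
  let ⟨_, _, h⟩ := F.pl2 m R.mQ x hx R.mt xt (fun k => R.mc (Ex.cz k (F.Qz _ R.cQ))) xm.symm
  ⟨_, pow_mem (mem_zpowers _) _, _, pow_mem (mem_zpowers _) _, h⟩

theorem cm0 (hx : x ∈ Q) (xt : x * t = t * x) (xm : x * m = m * x) (h1 : a * m = m * a) (h2 : a * z = z * a) :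
    a * x = x * a := by
  obtain ⟨μ, k, w, l, rfl⟩ := mz F R hx xt xm
  exact Commute.mul_right (cm_of_mem k h1) (cm_of_mem l h2)

include T

theorem Tp.mul_t : Tp z Q P s (τ * t) := by
  have E := F.ex0
  have k := T.tP t F.q8.mem
  refine ⟨by rw [mul_assoc, ← mul_assoc t, ← k, mul_assoc τ, E.t2, mul_one, T.t2], Commute.mul_left T.tz E.tz,
    fun p hp => Commute.mul_left (T.tP p hp) (F.q8.ct hp).symm, fun g hg => ?_, fun g hg => ?_⟩
  · simpa only [mul_inv_rev, mul_assoc, inv_mul_cancel_left] using mul_mem (T.tc g hg) (E.cj T.tz (E.tc g hg))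
  · obtain ⟨a, ha, p, hp, j, h | h⟩ := T.dec g hg
    · exact ⟨a, ha, p, hp, j, .inl h⟩
    · refine ⟨a, ha, p * t, mul_mem hp F.q8.mem, j, .inr ?_⟩
      rw [h, k, mul_assoc a, mul_assoc a, mul_assoc a, mul_assoc a, mul_assoc p t, ← (Commute.pow_left R.st j).eq,
        ← mul_assoc p, mul_assoc _ t, ← mul_assoc t, E.t2, one_mul]

theorem Tp.conj (hb : b ∈ Q) (bt : b * t = t * b) : Tp z Q P s (b * τ * b⁻¹) := by
  have E := F.ex0
  have bz := E.Qz b hb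
  have u := T.tc b bz
  refine ⟨by rw [conj_mul, T.t2]; group, (Commute.mul_left bz T.tz).mul_left (Commute.inv_left bz), fun p hp =>
    (Commute.mul_left (F.PQ p hp b hb bt).symm (T.tP p hp)).mul_left (Commute.inv_left (F.PQ p hp b hb bt).symm),
    fun g hg => ?_, fun g hg => ?_⟩
  · simpa only [mul_inv_rev, inv_inv, mul_assoc, inv_mul_cancel_left] using
      mul_mem (mul_mem (E.cj hg u) (T.tc g hg)) (inv_mem u)
  · obtain ⟨a, ha, p, hp, j, h | h⟩ := T.dec g hg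
    · exact ⟨a, ha, p, hp, j, .inl h⟩
    · exact ⟨_, mul_mem ha (E.cj (Commute.mul_left (F.Pz p hp) (Commute.pow_left R.sz j)) (inv_mem u)), p, hp, j,
        .inr (by rw [h]; group)⟩

theorem stepA (h : τ ∉ zpowers t) : ∃ τ, Tp z Q P s τ ∧ τ ≠ 1 ∧ τ * n = n * τ := by
  have E := F.ex0
  have n1 := E.Q1_of_inv R.nQ R.tn
  have tn : t * (τ * n * τ⁻¹) * t⁻¹ = (τ * n * τ⁻¹)⁻¹ := by
    calc _ = t * τ * n * (t * τ)⁻¹ := by group
      _ = τ * (t * n * t⁻¹) * τ⁻¹ := by rw [← T.tP t F.q8.mem]; group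
      _ = _ := by rw [R.tn, conj_inv]
  have k := (key E (H := E.Q1) (D := DD E s) (fun _ k => k.1) R.nQ (E.Q1_of_inv R.iQ R.ti) R.ni (fun a ha an => by
    obtain ⟨c', hc, i', hi, ct, ti, rfl⟩ := E.split ha.1
    have cZ := E.z_of_Q1 ((mul_mem_cancel_right (E.Q1_of_inv hi ti)).1 ha) ct
    refine DD_of E ha.1 (Commute.mul_right (Ex.cz cZ R.sz) (cm_of_mem (F.pl1 n R.nQ i' hi R.tn ti (B2aJ.n1 R.toCj) ?_) R.sn))
    rwa [← mul_assoc, Ex.cz cZ (E.Qz _ R.nQ), mul_assoc, mul_assoc, mul_right_inj, eq_comm] at an)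
    (E.n1 T.tz n1)).2 (fun k => R.ni (Ex.cz (by
      have := k.2
      rwa [show s * i * s⁻¹ * i⁻¹ = s * (i * s * i⁻¹)⁻¹ by group, R.ri, show s * (s * z * n⁻¹)⁻¹ = s * n * s⁻¹ *
        (s * z * s⁻¹)⁻¹ by group, R.sn, R.sz, mul_inv_cancel_right, mul_inv_cancel_right,
        mul_mem_cancel_right (inv_mem (mem_zpowers z))] at this)
      (E.Qz _ R.iQ))) (DD_cj E T R.sz (DD_of E R.nQ R.sn))
  rcases (mem_zpowers_three (ord3 (E.Q3 n R.nQ) (B2aJ.n1 R.toCj))).1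
    (F.pl1 n R.nQ _ (E.cj T.tz R.nQ) R.tn tn (B2aJ.n1 R.toCj) k.symm) with l | l | l
  · exact absurd (conj_eq_one_iff.1 l) (B2aJ.n1 R.toCj)
  · exact ⟨τ, T, fun e => h (e ▸ one_mem _), mul_inv_eq_iff_eq_mul.1 l⟩
  · refine ⟨_, T.mul_t F R, fun e => h ?_, mul_inv_eq_iff_eq_mul.1 ?_⟩
    · rw [eq_inv_of_mul_eq_one_left e]; exact inv_mem (mem_zpowers t)
    · calc _ = τ * (t * n * t⁻¹) * τ⁻¹ := by group
        _ = _ := by rw [R.tn, ← conj_inv, l, inv_inv]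

omit F R in
theorem Tp.ct (Q8 : Q8 t P) (h : a * t = t * a) : τ * a * τ⁻¹ * t = t * (τ * a * τ⁻¹) :=
  (Commute.mul_left (T.tP t Q8.mem) h).mul_left (Commute.inv_left (T.tP t Q8.mem))

theorem stepB (h1 : τ ≠ 1) (hn : τ * n = n * τ) : ∃ τ, Tp z Q P s τ ∧ τ * n = n * τ ∧ τ * m * τ⁻¹ = m⁻¹ := by
  have E := F.ex0
  have c0 : c ∈ Q ⊓ centralizer {t} := ⟨R.cQ, mc.2 R.ct⟩
  have k := (key E (H := Q ⊓ centralizer {t}) (D := DD E s) inf_le_left R.mQ c0 R.mc (fun a ha am =>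
    DD_of E ha.1 (cm0 F R ha.1 (mc.1 ha.2) am R.sm R.sz)) ⟨E.cj T.tz R.mQ, mc.2 (T.ct F.q8 R.mt)⟩).2
    (fun k => R.mc (Ex.cz (by
      have := k.2
      rwa [show s * c * s⁻¹ * c⁻¹ = s * (c * s * c⁻¹)⁻¹ by group, R.rc, show s * (s * z⁻¹ * m⁻¹)⁻¹ = s * m * s⁻¹ *
        (s * z * s⁻¹) by group, R.sm, R.sz, mul_inv_cancel_right, mul_inv_cancel_right,
        mul_mem_cancel_right (mem_zpowers z)] at this)
      (E.Qz _ R.cQ))) (DD_cj E T R.sz (DD_of E R.mQ R.sm))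
  obtain ⟨μ, hμ, w, hw, e⟩ := mz F R (E.cj T.tz R.mQ) (T.ct F.q8 R.mt) k
  rcases (mem_zpowers_three (ord3 (E.Q3 m R.mQ) fun k => R.mc (by simp [k]))).1 hμ with rfl | rfl | rfl
  · exact absurd (Ex.cz (by rwa [← T.cc m, e, one_mul, Ex.conj_z hw T.tz]) (E.Qz _ R.cQ)) R.mc
  · have l := T.cc μ
    rw [e, ← conj_mul, e, Ex.conj_z hw T.tz, mul_assoc, mul_eq_left] at l
    rw [E.one_of_sq (E.ZleQ hw) l, mul_one] at e
    have uQ := mul_mem (inv_mem R.cQ) (E.cj T.tz R.cQ)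
    have l1 := cm0 F R uQ ((Commute.inv_left R.ct).mul_left (T.ct F.q8 R.ct)) (mul_inv_eq_iff_eq_mul.1 (by
      calc _ = c⁻¹ * (τ * (c * (τ⁻¹ * (τ * μ * τ⁻¹) * τ) * c⁻¹) * τ⁻¹) * c := by rw [e]; group
        _ = c⁻¹ * (τ * (c * μ * c⁻¹) * τ⁻¹) * c := by group
        _ = _ := by rw [R.rm, ← conj_mul, e, Ex.conj_z (inv_mem (mem_zpowers z)) T.tz, ← R.rm]; group))
      (mul_inv_eq_iff_eq_mul.1 e) T.tz
    have l2 := E.one_of_sq uQ (by
      conv_lhs => congr; rw [← mul_inv_eq_iff_eq_mul.2 l1, ← conj_mul, T.cc]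
      group)
    refine absurd (E.one_of_sq (E.ZleQ (E.ZQ τ fun b hb => ?_)) T.t2) h1
    obtain ⟨c', hc, i', hi, ct, ti, rfl⟩ := E.split hb
    refine Commute.mul_right (mc.1 ((key E (H := Q ⊓ centralizer {t}) (D := centralizer {τ}) inf_le_left R.mQ c0 R.mc
      (fun a ha am => mc.2 (cm0 F R ha.1 (mc.1 ha.2) am (mul_inv_eq_iff_eq_mul.1 e) T.tz).symm) ⟨hc, mc.2 ct⟩).1
      (mc.2 (mul_inv_eq_iff_eq_mul.1 (inv_mul_eq_one.1 l2).symm).symm))).symm ?_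
    by_cases i1 : i' = 1
    · simp [i1]
    obtain ⟨p, hp, rfl⟩ := F.tr n R.nQ i' hi R.tn ti (n1 R.toCj) i1
    exact (Commute.mul_right (T.tP p hp) hn).mul_right (Commute.inv_right (T.tP p hp))
  · have l : τ * (m * w) * τ⁻¹ = (m * w)⁻¹ := by
      rw [← conj_mul, e, Ex.conj_z hw T.tz, mul_assoc, Ex.cz hw (E.Qz _ R.mQ), mul_inv_rev,
        inv_eq_of_mul_eq_one_left (show w * w * w = 1 from pow_three' w ▸ E.Q3 w (E.ZleQ hw))]
    obtain ⟨b, hb, bt, l1⟩ : ∃ b ∈ Q, b * t = t * b ∧ b * (m * w) * b⁻¹ = m := by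
      rcases (mem_zpowers_three E.oz).1 hw with rfl | rfl | rfl
      · exact ⟨1, one_mem _, by simp, by simp⟩
      · exact ⟨c, R.cQ, R.ct, by rw [← conj_mul, R.rm, Ex.conj_z hw (E.Qz _ R.cQ), inv_mul_cancel_right]⟩
      · exact ⟨c⁻¹, inv_mem R.cQ, Commute.inv_left R.ct, by rw [← R.rm]; group⟩
    have bn := E.orth hb bt (E.Q1_of_inv R.nQ R.tn)
    refine ⟨_, T.conj F R hb bt, (Commute.mul_left bn hn).mul_left (Commute.inv_left bn), ?_⟩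
    calc _ = b * (τ * (b⁻¹ * (b * (m * w) * b⁻¹) * b) * τ⁻¹) * b⁻¹ := by rw [l1]; group
      _ = b * (τ * (m * w) * τ⁻¹) * b⁻¹ := by group
      _ = _ := by rw [l, ← conj_inv, l1]

theorem stepC (hm : τ * m * τ⁻¹ = m⁻¹) : τ * s = s * τ := by
  have E := F.ex0
  have uQ : τ * s * τ⁻¹ * s⁻¹ ∈ Q := by simpa [mul_assoc] using inv_mem (T.tc s R.sz)
  have k : Commute (τ * s * τ⁻¹) m⁻¹ := by rw [← hm, Commute, SemiconjBy, conj_mul, conj_mul, R.sm]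
  have um := (Commute.inv_right_iff.1 k).mul_left (Commute.inv_left R.sm)
  obtain ⟨μ, hμ, w, hw, e⟩ := mz F R uQ (Commute.mul_left (T.ct F.q8 R.st) (Commute.inv_left R.st)) um
  have hm' : τ * m⁻¹ * τ⁻¹ = m := by rw [← conj_inv, hm, inv_inv]
  have zi := Ex.conj_z (inv_mem (mem_zpowers z)) T.tz
  have l := cm0 F R (a := τ * s * τ⁻¹) (mul_mem R.cQ (E.cj T.tz R.cQ)) (Commute.mul_left R.ct (T.ct F.q8 R.ct))
    (mul_inv_eq_iff_eq_mul.1 (by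
      calc _ = c * (τ * (c * (τ⁻¹ * (τ * m⁻¹ * τ⁻¹) * τ) * c⁻¹) * τ⁻¹) * c⁻¹ := by rw [hm']; group
        _ = c * (τ * (c * m * c⁻¹) * τ⁻¹)⁻¹ * c⁻¹ := by group
        _ = _ := by
          rw [R.rm, ← conj_mul, hm, zi, ← mul_inv_rev, inv_inv, ← conj_mul, R.rm, Ex.conj_z (mem_zpowers z) (E.Qz _ R.cQ),
            ← E.Qz _ (mul_mem R.mQ (inv_mem E.zQ)), inv_mul_cancel_right]))
    (Commute.inv_right_iff.1 k) ((Commute.mul_left T.tz R.sz).mul_left (Commute.inv_left T.tz))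
  have l1 : c * (τ * s * τ⁻¹ * s⁻¹) * c⁻¹ = τ * s * τ⁻¹ * s⁻¹ := by
    have l2 : τ * s * τ⁻¹ = c * (τ * (c * s * c⁻¹) * τ⁻¹) * c⁻¹ := by
      rw [← mul_inv_eq_iff_eq_mul.2 l.symm]; group
    have l3 : c * (s * z⁻¹ * m) * c⁻¹ = s := by
      rw [← conj_mul, ← conj_mul, R.rc, R.rm, Ex.conj_z (inv_mem (mem_zpowers z)) (E.Qz _ R.cQ), mul_assoc _ z⁻¹,
        ← mul_assoc z⁻¹ m, ← (Commute.inv_right (E.Qz _ R.mQ)).eq]
      calc _ = s * (z ^ 3)⁻¹ := by rw [pow_three]; group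
        _ = _ := by rw [E.Q3 z E.zQ]; group
    rw [R.rc, ← conj_mul (b := τ), ← conj_mul (b := τ), hm', zi] at l2
    calc _ = c * (τ * s * τ⁻¹ * z⁻¹ * m) * c⁻¹ * (c * (s * z⁻¹ * m) * c⁻¹)⁻¹ := by group
      _ = _ := by rw [← l2, l3]
  rw [e, ← conj_mul, Ex.conj_z hw (E.Qz _ R.cQ), mul_left_inj, mul_inv_eq_iff_eq_mul] at l1
  rcases (mem_zpowers_three (ord3 (E.Q3 m R.mQ) fun k => R.mc (by simp [k]))).1 hμ with rfl | rfl | rfl
  · rw [one_mul] at e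
    have l2 := Ex.conj_z hw T.tz
    rw [← e, ← conj_mul, T.cc] at l2
    rw [← mul_inv_eq_iff_eq_mul, ← mul_inv_eq_one]
    refine E.one_of_sq uQ ?_
    conv_lhs => congr; rw [← l2]
    group
  · exact absurd l1 R.mc
  · exact absurd (Commute.inv_right_iff.1 l1) R.mc

end B2aJ

open B2aJ in
theorem b2aThm : B2aThm.{u} := by
  intro G _ _ z t Q P F
  obtain ⟨g, s, c, i, m, n, R⟩ := rel F
  have s3 : s ^ 3 ∈ Q := cubeY F.ex0 R.sY ▸ one_mem Q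
  refine ⟨g, s, c, i, m, n, R, F.dec.imp (fun h => h s R.sz s3 R.sQ) fun ⟨τ, h1, h2, h3, h4, h5, h6⟩ => ?_⟩
  obtain ⟨τ, T, k1, k2⟩ := stepA F R ⟨h1, h3, h4, h5, h6 s R.sz s3 R.sQ⟩ h2
  obtain ⟨τ, T, k1, k2⟩ := stepB F R T k1 k2
  exact ⟨τ, T.t2, T.tz, T.tP, T.tc, k1, k2, stepC F R T k2, T.dec⟩

end CL.Ast
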