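/-
Astill's theorem (helper35): coordinates on `J = 3 ^ 4`.
-/
import Cfsg.Agent.Ast.Defs2

set_option autoImplicit false
set_option synthInstance.maxSize 4096

namespace CL.Ast

open Subgroup Cfsg CL.Grp CL.Rec CL.Perm CL.G23 CL.McL3 CL.McL3.C27 CL.S9R Equiv
open scoped Pointwise

universe u

variable {G : Type u} [Group G]

namespace B2b

def io (n z m s : G) (v : V) : G :=
  n ^ (v 0).val * z ^ (-v 1 - v 2).val * m ^ (v 2 - v 1).val * s ^ (v 1 + v 2 + v 3).val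

def cmb (γ : V → V) (v : V) : V :=
  (v 0).val • γ (e4 0) + (-v 1 - v 2).val • γ zv + (v 2 - v 1).val • γ mv + (v 1 + v 2 + v 3).val • γ (e4 3)

def JJ (n z m s : G) : Subgroup G := closure (Set.range (io n z m s))

def mt' (δ : Bool) : V → V := cond δ tM id
def mτ' (ε : Bool) : V → V := cond ε τM id

theorem c_b2 : (∀ v : V, v 0 = 0 → -v 1 - v 2 = 0 → v 2 - v 1 = 0 → v 1 + v 2 + v 3 = 0 → v = 0) ∧
    (∀ v, tM v = cmb tM v ∧ qM v = cmb qM v ∧ nM v = cmb nM v ∧ τM v = cmb τM v) ∧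
    (∀ (α β : Fin 3) (δ ε : Bool), nM^[α.1] (qM^[β.1] (mt' δ (mτ' ε yv))) = yv → δ = false ∧ ε = false) ∧
    (∀ α β : Fin 3, nM^[α.1] (qM^[β.1] yv) = yv → nM^[α.1] (qM^[β.1] (e4 3)) = e4 3 → α = 0 ∧ β = 0) ∧
    (∀ (α : Fin 3) (ε : Bool), qM^[α.1] (mτ' ε mv) = mv → α = 0 ∧ ε = false) ∧
    (∀ v, tM v = v → qM v = v → v = 0 ∨ v = zv ∨ v = -zv) ∧
    (∀ (ε : Bool) (v : V), mτ' ε v 0 = v 0 ∧ mτ' ε v 1 + mτ' ε v 2 + mτ' ε v 3 = v 1 + v 2 + v 3) ∧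
    ∀ v : V, v 0 = 0 → v 1 + v 2 + v 3 = 0 → ∃ a b : ZMod 3, v = a • zv + b • mv := by
  refine ⟨?_, ?_, ?_, ?_, ?_, ?_, ?_, ?_⟩ <;> decide +kernel

theorem pwa {g : G} (h3 : g ^ 3 = 1) (a b : ZMod 3) : g ^ (a + b).val = g ^ a.val * g ^ b.val := pw_add h3 a b

theorem pw0 {g : G} {K : Subgroup G} (h3 : g ^ 3 = 1) {a : ZMod 3} (h : g ^ a.val ∈ K) : g ∈ K ∨ a = 0 := by
  rcases (by decide : ∀ a : ZMod 3, a = 0 ∨ a.val = 1 ∨ a.val = 2) a with k | k | k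
  · exact .inr k
  · exact .inl (by rwa [k, pow_one] at h)
  · have := mul_mem h h
    rw [k, ← pow_add, pow_succ, h3, one_mul] at this
    exact .inl this

theorem cpw {x y w : G} (h : x * y * x⁻¹ = y * w) (hc : x * w = w * x) :
    ∀ k : ℕ, x ^ k * y * (x ^ k)⁻¹ = y * w ^ k
  | 0 => by simp
  | k + 1 => by
    calc _ = x * (x ^ k * y * (x ^ k)⁻¹) * x⁻¹ := by rw [pow_succ']; group
      _ = _ := by rw [cpw h hc k, ← conj_mul, h, ((show Commute x w from hc).pow_right k).eq, pow_succ']; group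

theorem lin_pow {ι : V → G} {g : G} {γ : V → V} (h : Lin ι g γ) : ∀ k : ℕ, Lin ι (g ^ k) γ^[k]
  | 0 => by simpa using Lin.one ι
  | k + 1 => by rw [pow_succ]; exact (lin_pow h k).mul h

theorem pow_fin {g : G} (h3 : g ^ 3 = 1) (k : ℕ) : ∃ α : Fin 3, g ^ k = g ^ α.1 :=
  ⟨⟨k % 3, Nat.mod_lt _ (by decide)⟩, pow_eq_pow_mod k h3⟩

theorem one_of_cop {K : Subgroup G} (hK : (Nat.card K).Coprime 3) {g : G} (hg : g ∈ K) (h3 : g ^ 3 = 1) : g = 1 :=
  orderOf_eq_one_iff.1 (Nat.eq_one_of_dvd_coprimes hK (K.orderOf_dvd_natCard hg) (orderOf_dvd_of_pow_eq_one h3))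

/-- the two cases of `Tau` at once -/
structure Tu (z : G) (Q P : Subgroup G) (s m n τ : G) : Prop where
  τ2 : τ * τ = 1
  τP : ∀ p ∈ P, τ * p = p * τ
  τm : τ = 1 ∨ τ * z = z * τ ∧ τ * n = n * τ ∧ τ * m * τ⁻¹ = m⁻¹ ∧ τ * s = s * τ
  dec : ∀ g, g * z = z * g → ∃ a ∈ Q, ∃ p ∈ P, ∃ k : ℕ, g = a * p * s ^ k ∨ g = a * p * s ^ k * τ

variable {z t g s c i m n τ : G} {Q P : Subgroup G} (F : Hyp1 z t Q P) (R : Rel z t Q g s c i m n)

theorem io0 : io n z m s (e4 0) = n := by simp [io, e4, ZMod.val_one]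
theorem io3 : io n z m s (e4 3) = s := by simp [io, e4, ZMod.val_one]

include F R

theorem s3 : s ^ 3 = 1 := by
  have := F.Q3 _ R.sY
  rwa [show g⁻¹ * s * g = g⁻¹ * s * g⁻¹⁻¹ by group, conj_pow, conj_eq_one_iff] at this

theorem add (v w : V) : io n z m s (v + w) = io n z m s v * io n z m s w := by
  have nz : Commute n z := F.Qz n R.nQ
  have mn : Commute m n := F.orth m R.mQ n R.nQ R.mt R.tn
  have mz : Commute m z := F.Qz m R.mQ
  have sn : Commute s n := R.sn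
  have sz : Commute s z := R.sz
  have sm : Commute s m := R.sm
  have e : ∀ {x y : G}, Commute x y → ∀ (a b : ℕ) (h : G), x ^ a * (y ^ b * h) = y ^ b * (x ^ a * h) :=
    fun k a b h => (k.pow_pow a b).left_comm h
  simp only [io, Pi.add_apply]
  rw [show -(v 1 + w 1) - (v 2 + w 2) = (-v 1 - v 2) + (-w 1 - w 2) by ring,
    show v 2 + w 2 - (v 1 + w 1) = (v 2 - v 1) + (w 2 - w 1) by ring,
    show v 1 + w 1 + (v 2 + w 2) + (v 3 + w 3) = (v 1 + v 2 + v 3) + (w 1 + w 2 + w 3) by ring,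
    pwa (F.Q3 n R.nQ), pwa (F.Q3 z F.zQ), pwa (F.Q3 m R.mQ), pwa (s3 F R)]
  simp only [mul_assoc]
  rw [e sn, e mn, e nz.symm, e sz, e mz, e sm]

omit R in
theorem z1 : z ≠ 1 := ne_one_of_ord3 F.oz

theorem mZ : m ∉ zpowers z := fun h => R.mc (Ex.cz h (F.Qz c R.cQ))

theorem nZ : n ∉ zpowers z := fun h => R.ni (Ex.cz h (F.Qz i R.iQ))

theorem ker {v : V} (h : io n z m s v = 1) : v = 0 := by
  have z3 := F.Q3 z F.zQ
  have zb : ∀ {a : ZMod 3}, z ^ a.val = 1 → a = 0 := fun k =>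
    (pw0 (K := ⊥) z3 k).resolve_left fun e => z1 F (mem_bot.1 e)
  rw [io] at h
  have k4 : v 1 + v 2 + v 3 = 0 := (pw0 (s3 F R) ((mul_mem_cancel_left (mul_mem (mul_mem (pow_mem R.nQ _)
    (pow_mem F.zQ _)) (pow_mem R.mQ _))).1 (h ▸ one_mem Q))).resolve_left R.sQ
  rw [k4, ZMod.val_zero, pow_zero, mul_one] at h
  have k3 : v 2 - v 1 = 0 := by
    have := congrArg (fun x => c * x * c⁻¹) h
    simp only [← conj_mul, ← conj_pow] at this
    rw [F.orth c R.cQ n R.nQ R.ct R.tn, F.Qz c R.cQ, mul_inv_cancel_right, mul_inv_cancel_right, R.rm,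
      (show Commute m z⁻¹ from Commute.inv_right (F.Qz m R.mQ)).mul_pow, ← mul_assoc, h, one_mul, inv_pow, mul_one,
      mul_inv_cancel, inv_eq_one] at this
    exact zb this
  rw [k3, ZMod.val_zero, pow_zero, mul_one] at h
  have k1 : v 0 = 0 := by
    have := congrArg (fun x => i * x * i⁻¹) h
    simp only [← conj_mul, ← conj_pow] at this
    rw [F.Qz i R.iQ, mul_inv_cancel_right, R.rn, (show Commute n z from F.Qz n R.nQ).mul_pow, mul_assoc,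
      ((Commute.refl z).pow_pow _ _).eq, ← mul_assoc, h, one_mul, mul_one, mul_inv_cancel] at this
    exact zb this
  rw [k1, ZMod.val_zero, pow_zero, one_mul] at h
  exact c_b2.1 v k1 (zb h) k3 k4

theorem emb : Emb (io n z m s) (JJ n z m s) := by
  have z0 : io n z m s 0 = 1 := by simp [io]
  have ng : ∀ v, io n z m s (-v) = (io n z m s v)⁻¹ := fun v =>
    eq_inv_of_mul_eq_one_left (by rw [← add F R, neg_add_cancel, z0])
  refine ⟨add F R, fun v w e => sub_eq_zero.1 (ker F R ?_), fun x => ⟨fun hx => ?_, fun hx => subset_closure hx⟩⟩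
  · rw [sub_eq_add_neg, add F R, ng, e, mul_inv_cancel]
  · induction hx using closure_induction with
    | mem y hy => exact hy
    | one => exact ⟨0, z0⟩
    | mul a b _ _ ha hb =>
      obtain ⟨v, rfl⟩ := ha
      obtain ⟨w, rfl⟩ := hb
      exact ⟨_, add F R v w⟩
    | inv a _ ha =>
      obtain ⟨v, rfl⟩ := ha
      exact ⟨_, ng v⟩

omit R in
theorem ioz : io n z m s zv = z := by
  rw [io, show (zv 0).val = 0 from rfl, show (-zv 1 - zv 2).val = 1 from rfl, show (zv 2 - zv 1).val = 0 from rfl,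
    show (zv 1 + zv 2 + zv 3).val = 0 from rfl]
  simp

omit F R in
theorem iom : io n z m s mv = m := by
  rw [io, show (mv 0).val = 0 from rfl, show (-mv 1 - mv 2).val = 0 from rfl, show (mv 2 - mv 1).val = 1 from rfl,
    show (mv 1 + mv 2 + mv 3).val = 0 from rfl]
  simp

theorem ioy : io n z m s yv = g * z * g⁻¹ := by
  rw [show yv = mv + e4 0 by decide, add F R, iom, io0, R.y]

theorem lin_of {x : G} {γ : V → V} (h : ∀ v, γ v = cmb γ v) (h1 : x * n * x⁻¹ = io n z m s (γ (e4 0)))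
    (h2 : x * z * x⁻¹ = io n z m s (γ zv)) (h3 : x * m * x⁻¹ = io n z m s (γ mv))
    (h4 : x * s * x⁻¹ = io n z m s (γ (e4 3))) : Lin (io n z m s) x γ := fun v => by
  have E := emb F R
  rw [h v, cmb, E.add, E.add, E.add, E.nsmul, E.nsmul, E.nsmul, E.nsmul, ← h1, ← h2, ← h3, ← h4, io]
  simp only [conj_pow, conj_mul]

theorem lt : Lin (io n z m s) t tM := lin_of F R (fun v => (c_b2.2.1 v).1)
  (by rw [show tM (e4 0) = -e4 0 by decide, (emb F R).neg, io0, R.tn])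
  (by rw [show tM zv = zv by decide, ioz F, F.ex0.tz, mul_inv_cancel_right])
  (by rw [show tM mv = mv by decide, iom, ← R.mt, mul_inv_cancel_right])
  (by rw [show tM (e4 3) = e4 3 by decide, io3, ← R.st, mul_inv_cancel_right])

theorem lq : Lin (io n z m s) c qM := lin_of F R (fun v => (c_b2.2.1 v).2.1)
  (by rw [show qM (e4 0) = e4 0 by decide, io0, F.orth c R.cQ n R.nQ R.ct R.tn, mul_inv_cancel_right])
  (by rw [show qM zv = zv by decide, ioz F, F.Qz c R.cQ, mul_inv_cancel_right])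
  (by rw [show qM mv = mv - zv by decide, (emb F R).sub, iom, ioz F, R.rm])
  (by rw [show qM (e4 3) = e4 3 - zv - mv by decide, (emb F R).sub, (emb F R).sub, iom, ioz F, io3, R.rc])

theorem ln : Lin (io n z m s) i nM := lin_of F R (fun v => (c_b2.2.1 v).2.2.1)
  (by rw [show nM (e4 0) = e4 0 + zv by decide, add F R, io0, ioz F, R.rn])
  (by rw [show nM zv = zv by decide, ioz F, F.Qz i R.iQ, mul_inv_cancel_right])
  (by rw [show nM mv = mv by decide, iom, ← F.orth m R.mQ i R.iQ R.mt R.ti, mul_inv_cancel_right])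
  (by rw [show nM (e4 3) = e4 3 + zv - e4 0 by decide, (emb F R).sub, add F R, io0, ioz F, io3, R.ri])

theorem lτ (h : τ * z = z * τ ∧ τ * n = n * τ ∧ τ * m * τ⁻¹ = m⁻¹ ∧ τ * s = s * τ) : Lin (io n z m s) τ τM :=
  lin_of F R (fun v => (c_b2.2.1 v).2.2.2)
    (by rw [show τM (e4 0) = e4 0 by decide, io0, h.2.1, mul_inv_cancel_right])
    (by rw [show τM zv = zv by decide, ioz F, h.1, mul_inv_cancel_right])
    (by rw [show τM mv = -mv by decide, (emb F R).neg, iom, h.2.2.1])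
    (by rw [show τM (e4 3) = e4 3 by decide, io3, h.2.2.2, mul_inv_cancel_right])

theorem nJ : n ∈ JJ n z m s := ((emb F R).mem _).2 ⟨_, io0⟩
theorem zJ : z ∈ JJ n z m s := ((emb F R).mem _).2 ⟨_, ioz F⟩
theorem mJ : m ∈ JJ n z m s := ((emb F R).mem _).2 ⟨_, iom⟩
theorem sJ : s ∈ JJ n z m s := ((emb F R).mem _).2 ⟨_, io3⟩

theorem cmJ {a b : G} (ha : a ∈ JJ n z m s) (hb : b ∈ JJ n z m s) : a * b = b * a := by
  obtain ⟨v, rfl⟩ := ((emb F R).mem a).1 ha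
  obtain ⟨w, rfl⟩ := ((emb F R).mem b).1 hb
  exact (emb F R).comm v w

variable [Finite G]

theorem bQ0 {a : G} (ha : a ∈ Q) (ht : a * t = t * a) : ∃ α : Fin 3, ∃ j ∈ JJ n z m s, a = c ^ α.1 * j := by
  obtain ⟨w, hw, e⟩ := F.ex0.cj_eq ha R.mQ
  obtain ⟨k, rfl⟩ := mem_powers_iff_mem_zpowers.2 (zpowers_inv (g := z) ▸ hw : w ∈ zpowers z⁻¹)
  obtain ⟨α, hα⟩ := pow_fin (F.Q3 c R.cQ) k
  have e2 := cpw R.rm (Commute.inv_right (F.Qz c R.cQ)) k
  rw [hα] at e2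
  obtain ⟨x, y, k⟩ := F.pl2 m R.mQ ((c ^ α.1)⁻¹ * a) (mul_mem (inv_mem (pow_mem R.cQ _)) ha) R.mt
    (((show Commute c t from R.ct).pow_left _).inv_left.mul_left ht) (mZ F R) (by
      calc _ = (c ^ α.1)⁻¹ * (c ^ α.1 * m * (c ^ α.1)⁻¹) * a := by group
        _ = _ := by rw [e2, ← e]; group)
  exact ⟨α, _, mul_mem (pow_mem (mJ F R) x) (pow_mem (zJ F R) y), by rw [← k, mul_inv_cancel_left]⟩

theorem bI {a : G} (ha : a ∈ Q) (ht : t * a * t⁻¹ = a⁻¹) : ∃ α : Fin 3, ∃ j ∈ JJ n z m s, a = i ^ α.1 * j := by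
  have E := F.ex0
  obtain ⟨w, hw, e⟩ := E.cj_eq ha R.nQ
  obtain ⟨k, rfl⟩ := mem_powers_iff_mem_zpowers.2 hw
  obtain ⟨α, hα⟩ := pow_fin (F.Q3 i R.iQ) k
  have e2 := cpw R.rn (F.Qz i R.iQ) k
  rw [hα] at e2
  have b1 : (i ^ α.1)⁻¹ * a ∈ E.Q1 := mul_mem (inv_mem (pow_mem (E.Q1_of_inv R.iQ R.ti) _)) (E.Q1_of_inv ha ht)
  have bn : n * ((i ^ α.1)⁻¹ * a) = (i ^ α.1)⁻¹ * a * n := by
    calc _ = (i ^ α.1)⁻¹ * (i ^ α.1 * n * (i ^ α.1)⁻¹) * a := by group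
      _ = _ := by rw [e2, ← e]; group
  obtain ⟨c', hc, i', hi, k1, k2, k3⟩ := F.split _ b1.1
  have cZ := E.z_of_Q1 ((mul_mem_cancel_right (E.Q1_of_inv hi k2)).1 (k3 ▸ b1)) k1
  rw [k3, ← mul_assoc, Ex.cz cZ (F.Qz n R.nQ), mul_assoc, mul_assoc, mul_right_inj] at bn
  refine ⟨α, c' * i', mul_mem (zpowers_le.2 (zJ F R) cZ) (zpowers_le.2 (nJ F R)
    (F.pl1 n R.nQ i' hi R.tn k2 (fun k => nZ F R (k ▸ one_mem _)) bn)), by rw [← k3, mul_inv_cancel_left]⟩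

theorem memQ {a : G} (ha : a ∈ Q) : ∃ j ∈ JJ n z m s, ∃ α β : Fin 3, a = j * i ^ α.1 * c ^ β.1 := by
  obtain ⟨c', hc, i', hi, k1, k2, rfl⟩ := F.split a ha
  obtain ⟨β, j, hj, rfl⟩ := bQ0 F R hc k1
  obtain ⟨α, j', hj', rfl⟩ := bI F R hi k2
  have cN := pow_mem ((emb F R).norm (lq F R)) β.1
  have iN := pow_mem ((emb F R).norm (ln F R)) α.1
  refine ⟨_, mul_mem ((mem_normalizer_iff.1 cN j).1 hj) ((mem_normalizer_iff.1 (mul_mem cN iN) j').1 hj'), α, β, ?_⟩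
  rw [mul_assoc _ (i ^ α.1), ← ((show Commute c i from F.orth c R.cQ i R.iQ R.ct R.ti).pow_pow _ _).eq]
  group

theorem QN : Q ≤ normalizer (JJ n z m s : Set G) := fun a ha => by
  obtain ⟨j, hj, α, β, rfl⟩ := memQ F R ha
  exact mul_mem (mul_mem (le_normalizer hj) (pow_mem ((emb F R).norm (ln F R)) _))
    (pow_mem ((emb F R).norm (lq F R)) _)

theorem decS {x : G} (hx : x ∈ Q ⊔ zpowers s) : ∃ a ∈ Q, ∃ k : ℕ, x = a * s ^ k := by
  obtain ⟨a, ha, b, hb, rfl⟩ := (CL.Odd.mem_sup_norm (zpowers_le.2 (F.ex0.nC R.sz))).1 hx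
  obtain ⟨k, rfl⟩ := mem_powers_iff_mem_zpowers.2 hb
  exact ⟨a, ha, k, rfl⟩

theorem memS {x : G} (hx : x ∈ Q ⊔ zpowers s) : ∃ j ∈ JJ n z m s, ∃ α β : Fin 3, x = j * i ^ α.1 * c ^ β.1 := by
  obtain ⟨a, ha, k, rfl⟩ := decS F R hx
  obtain ⟨j, hj, α, β, e⟩ := memQ F R ha
  exact ⟨_, mul_mem ((mem_normalizer_iff.1 (QN F R ha) _).1 (pow_mem (sJ F R) k)) hj, α, β, by
    rw [mul_assoc _ (i ^ α.1), mul_assoc _ j, ← mul_assoc j, ← e]; group⟩

theorem JS : JJ n z m s ≤ Q ⊔ zpowers s := fun x hx => by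
  obtain ⟨v, rfl⟩ := ((emb F R).mem x).1 hx
  exact mul_mem (mem_sup_left (mul_mem (mul_mem (pow_mem R.nQ _) (pow_mem F.zQ _)) (pow_mem R.mQ _)))
    (mem_sup_right (pow_mem (mem_zpowers s) _))

theorem syl : IsSylowIn 3 (Q ⊔ zpowers s) ⊤ := by
  have := Fact.mk Nat.prime_three
  have os := ord3 (s3 F R) fun k => R.sQ (k ▸ one_mem _)
  have k : Nat.card ↥(Q ⊔ zpowers s) = 3 ^ 6 := by
    rw [sup_comm, card_sup_of_inf_eq_bot (zpowers_le.2 (F.ex0.nC R.sz)) (eq_bot_iff.2 fun x hx => by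
      rcases (mem_zpowers_three os).1 hx.1 with rfl | rfl | rfl
      exacts [one_mem _, absurd hx.2 R.sQ, absurd (Q.inv_mem_iff.1 hx.2) R.sQ]), Nat.card_zpowers, os, F.cQ]
    rfl
  refine ⟨le_top, .of_card k, fun h => F.c3 ?_⟩
  rw [relIndex_top_right] at h
  rw [← (Q ⊔ zpowers s).card_mul_index, k, pow_succ]
  exact Nat.mul_dvd_mul_left _ h

theorem Pn {p : G} (hp : p ∈ P) (h : p * n * p⁻¹ ∈ JJ n z m s) : p ∈ zpowers t := by
  have n1 : n ≠ 1 := fun k => nZ F R (k ▸ one_mem _)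
  have k := F.pl1 n R.nQ _ (F.ex0.cj (F.Pz p hp) R.nQ) R.tn (by
    calc _ = t * p * n * (t * p)⁻¹ := by group
      _ = p * (t * n * t⁻¹) * p⁻¹ := by rw [← F.q8.ct hp]; group
      _ = _ := by rw [R.tn]; group) n1 (cmJ F R (nJ F R) h)
  by_contra h1
  have e : p * p * n * (p * p)⁻¹ = n := by
    rw [show p * p * n * (p * p)⁻¹ = p * (p * n * p⁻¹) * p⁻¹ by group]
    rcases (mem_zpowers_three (ord3 (F.Q3 n R.nQ) n1)).1 k with k | k | k
    exacts [absurd (conj_eq_one_iff.1 k) n1, by rw [k, k], by rw [k, ← conj_inv, k, inv_inv]]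
  rw [F.q8.sq' hp h1, R.tn] at e
  exact n1 (F.ex0.one_of_sq R.nQ (mul_eq_one_iff_eq_inv.2 e.symm))

theorem nqc (h : G) : h * c * h⁻¹ ∉ JJ n z m s := fun hc => by
  have := Fact.mk Nat.prime_three
  have E := F.ex0
  have m' : ∀ b ∈ MulAut.conj h⁻¹ • JJ n z m s, h * b * h⁻¹ ∈ JJ n z m s := fun b hb => by
    simpa using (mem_conj_smul_iff _ _ _).1 hb
  have k : ∀ a b, h * a * h⁻¹ ∈ JJ n z m s → h * b * h⁻¹ ∈ JJ n z m s → a * b = b * a := fun a b ha hb => by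
    have := cmJ F R ha hb
    rwa [conj_mul, conj_mul, mul_left_inj, mul_right_inj] at this
  have := F.ab c R.cQ (fun k => R.mc (Ex.cz k (F.Qz m R.mQ)).symm) (fun s0 h1 h2 ⟨j, hj⟩ => by_contra fun h3 => ?_)
    (MulAut.conj h⁻¹ • JJ n z m s) ((emb F R).isPGroup.conj_smul _) (fun b hb => k _ _ (m' b hb) hc)
    fun b hb b' hb' => k _ _ (m' b hb) (m' b' hb')
  · rw [card_conj_smul, (emb F R).card] at this
    omega
  have c3 : s0 ^ 3 ∈ Q := by
    obtain ⟨d, hd, e⟩ := ((syl F R).of_le (sup_le (fun a ha => mc.2 (F.Qz a ha)) (zpowers_le.2 (mc.2 R.sz)))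
      le_top).exists_conj_le (pg_zp hj) (zpowers_le.2 (mc.2 h1))
    obtain ⟨a, ha, k, e⟩ := decS F R (e (conj_mem_conj_smul d (mem_zpowers s0)))
    have sk : s ^ k * z = z * s ^ k := (show Commute s z from R.sz).pow_left k
    have := E.cj (Commute.inv_left (mc.1 hd)) (mul_mem (mul_mem ha (E.cj sk ha)) (E.cj sk (E.cj sk ha)))
    rwa [show a * (s ^ k * a * (s ^ k)⁻¹) * (s ^ k * (s ^ k * a * (s ^ k)⁻¹) * (s ^ k)⁻¹) =
      (a * s ^ k) ^ 3 * ((s ^ 3) ^ k)⁻¹ by rw [← pow_mul, mul_comm 3, pow_mul, pow_three, pow_three]; group, s3 F R,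
      one_pow, inv_one, mul_one, ← e, conj_pow, inv_inv, mul_assoc d, inv_mul_cancel_left, inv_mul_cancel_right] at this
  let D : Subgroup G :=
    { carrier := {x | x * z = z * x ∧ x * c * x⁻¹ * c⁻¹ ∈ zpowers z}
      one_mem' := ⟨by simp, by simp⟩
      mul_mem' := fun {x y} hx hy => ⟨Commute.mul_left hx.1 hy.1, by
        have := mul_mem hy.2 hx.2
        rw [← Ex.conj_z hy.2 hx.1] at this
        simpa only [mul_inv_rev, mul_assoc, inv_mul_cancel_left] using this⟩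
      inv_mem' := fun {x} hx => ⟨Commute.inv_left hx.1, by
        have := inv_mem hx.2
        rw [← Ex.conj_z this (Commute.inv_left hx.1)] at this
        simpa only [mul_inv_rev, mul_assoc, inv_mul_cancel_left, inv_inv, inv_mul_cancel, mul_one] using this⟩ }
  have QD : ∀ a ∈ Q, a ∈ D := fun a ha => ⟨F.Qz a ha, F.cmQ a ha c R.cQ⟩
  have bD : ∀ a ∈ Q, ∀ p ∈ P, ∀ k : ℕ, a * p * s0 ^ k ∈ D := fun a ha p hp k =>
    mul_mem (mul_mem (QD a ha) ⟨F.Pz p hp, by rw [F.PQ p hp c R.cQ R.ct]; simp⟩) (pow_mem (show s0 ∈ D from ⟨h1, by rw [h2]; simp⟩) k)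
  have sD : s * s ∈ D := by
    rcases F.dec with d | ⟨τ, t2, -, -, -, d0, d⟩
    · obtain ⟨a, ha, p, hp, k, e⟩ := d s0 h1 c3 h3 s R.sz
      exact mul_mem (e ▸ bD a ha p hp k) (e ▸ bD a ha p hp k)
    · obtain ⟨a, ha, p, hp, k, e | e⟩ := d s0 h1 c3 h3 s R.sz
      · exact mul_mem (e ▸ bD a ha p hp k) (e ▸ bD a ha p hp k)
      · have hb := bD a ha p hp k
        generalize a * p * s0 ^ k = b at e hb
        have := mul_mem (mul_mem hb hb) (QD _ (d0 b⁻¹ (Commute.inv_left hb.1)))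
        rwa [inv_eq_of_mul_eq_one_right t2, inv_inv, show b * b * (b⁻¹ * τ * b * τ) = b * τ * (b * τ) by group,
          ← e] at this
  have e1 : s * c * s⁻¹ = m * z * c := by
    calc _ = s * (m * z * s⁻¹) * (s * z⁻¹ * m⁻¹) * c * s⁻¹ := by group
      _ = s * m * z * s⁻¹ * c := by rw [← R.rc]; group
      _ = _ := by rw [R.sm, mul_assoc m s, R.sz]; group
  have := sD.2
  rw [show s * s * c * (s * s)⁻¹ = s * (s * c * s⁻¹) * s⁻¹ by group, e1, ← conj_mul, ← conj_mul, e1, R.sm, R.sz,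
    mul_inv_cancel_right, mul_inv_cancel_right, ← mul_assoc, mul_inv_cancel_right, ← mul_assoc, mul_assoc m z,
    ← F.Qz m R.mQ, ← mul_assoc, mul_mem_cancel_right (mem_zpowers z), mul_mem_cancel_right (mem_zpowers z)] at this
  exact mZ F R (E.z_of_sq R.mQ this)

theorem nc0 : ¬ IsConj z n := fun h => by
  obtain ⟨h, e⟩ := isConj_iff.1 h
  obtain ⟨s', c', i', m', n', C⟩ := F.cj h (e ▸ R.nQ) (e ▸ nZ F R)
  have k := R.tn
  rw [← e, C.y, ← conj_mul, C.tn, ← C.mt, mul_inv_cancel_right, F.orth m' C.mQ n' C.nQ C.mt C.tn, mul_inv_rev,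
    mul_left_inj] at k
  exact C.mc (by rw [F.ex0.one_of_sq C.mQ (mul_eq_one_iff_eq_inv.2 k), mul_one, one_mul])

theorem ncm : ¬ IsConj z m := fun h => by
  obtain ⟨h, e⟩ := isConj_iff.1 h
  obtain ⟨s', c', i', m', n', C⟩ := F.cj h (e ▸ R.mQ) (e ▸ mZ F R)
  have k := mul_inv_eq_iff_eq_mul.2 R.mt.symm
  rw [← e, C.y, ← conj_mul, C.tn, ← C.mt, mul_inv_cancel_right, mul_right_inj] at k
  exact C.ni (by rw [F.ex0.one_of_sq C.nQ (mul_eq_one_iff_eq_inv.2 k.symm), mul_one, one_mul])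

omit [Finite G] in
theorem ncP : ∃ p ∈ P, io n z m s (e4 1) * p ≠ p * io n z m s (e4 1) := by
  obtain ⟨p, hp, h⟩ := F.q8.ex_out
  refine ⟨p, hp, fun k => h (F.s3 s R.sz (s3 F R ▸ one_mem _) R.sQ p hp ?_)⟩
  have : Commute p (io n z m s (e4 1 + zv + mv)) := by
    rw [add F R, add F R, ioz F, iom]
    exact (Commute.mul_right k.symm (F.Pz p hp)).mul_right (F.PQ p hp m R.mQ R.mt)
  rw [show e4 1 + zv + mv = e4 3 by decide, io3] at this
  rw [← this.eq]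
  simp

variable (U : Tu z Q P s m n τ)
include U

theorem decC {x : G} (hx : x * z = z * x) : ∃ a ∈ Q, ∃ p ∈ P, ∃ k : ℕ, ∃ u, ∃ ε : Bool, x = a * p * (s ^ k * u) ∧
    Lin (io n z m s) u (mτ' ε) ∧ u * t = t * u ∧ (ε = false ∧ u = 1 ∨ ε = true ∧ u = τ) := by
  obtain ⟨a, ha, p, hp, k, e | e⟩ := U.dec x hx
  · exact ⟨a, ha, p, hp, k, 1, false, by rw [e, mul_one], Lin.one _, by simp, .inl ⟨rfl, rfl⟩⟩
  rcases U.τm with h | h
  · exact ⟨a, ha, p, hp, k, 1, false, by rw [e, h, mul_one, mul_one], Lin.one _, by simp, .inl ⟨rfl, rfl⟩⟩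
  · exact ⟨a, ha, p, hp, k, τ, true, by rw [e, mul_assoc], lτ F R h, U.τP t F.q8.mem, .inr ⟨rfl, rfl⟩⟩

theorem cz1 {x : G} {v : V} (hx : x * z = z * x) (h : x * io n z m s v = io n z m s v * x)
    (hv : ∀ a b : ZMod 3, v ≠ a • zv + b • mv) : x ∈ normalizer (JJ n z m s : Set G) := by
  have E := emb F R
  obtain ⟨a, ha, p, hp, k, u, ε, rfl, hu, -, -⟩ := decC F R U hx
  have hr := (E.lin_id (pow_mem (sJ F R) k)).mul hu
  refine mul_mem (mul_mem (QN F R ha) (zpowers_le.2 (E.norm (lt F R)) ?_)) (E.norm hr)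
  have e : p * io n z m s (mτ' ε v) * p⁻¹ = a⁻¹ * io n z m s v * a := by
    rw [← mul_inv_eq_iff_eq_mul.2 h, ← show _ = io n z m s (mτ' ε v) from hr v]; group
  obtain ⟨k0, k1⟩ := c_b2.2.2.2.2.2.2.1 ε v
  by_cases h0 : v 1 + v 2 + v 3 = 0
  · have k2 : p * io n z m s (mτ' ε v) * p⁻¹ ∈ JJ n z m s := by
      simpa [e] using (mem_normalizer_iff.1 (inv_mem (QN F R ha)) _).1 (E.memJ v)
    rw [io, k1, h0, k0, ZMod.val_zero, pow_zero, mul_one, ← conj_mul, ← conj_mul, ← conj_pow, ← conj_pow, ← conj_pow,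
      F.Pz p hp, F.PQ p hp m R.mQ R.mt, mul_inv_cancel_right, mul_inv_cancel_right,
      mul_mem_cancel_right (pow_mem (mJ F R) _), mul_mem_cancel_right (pow_mem (zJ F R) _)] at k2
    refine Pn F R hp ((pw0 (by rw [conj_pow, F.Q3 n R.nQ]; group) k2).resolve_right fun k => ?_)
    obtain ⟨a, b, k⟩ := c_b2.2.2.2.2.2.2.2 v k h0
    exact hv a b k
  · have q : ∀ a b d : ZMod 3, n ^ a.val * z ^ b.val * m ^ d.val ∈ Q := fun a b d =>
      mul_mem (mul_mem (pow_mem R.nQ _) (pow_mem F.zQ _)) (pow_mem R.mQ _)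
    rw [io, io, k1] at e
    have sz : s ^ (v 1 + v 2 + v 3).val * z = z * s ^ (v 1 + v 2 + v 3).val := (show Commute s z from R.sz).pow_left _
    refine F.s3 _ sz (by rw [← pow_mul, mul_comm, pow_mul, s3 F R, one_pow]; exact one_mem _)
      (fun k => (pw0 (s3 F R) k).elim R.sQ h0) p hp ?_
    have q1 := q (mτ' ε v 0) (-mτ' ε v 1 - mτ' ε v 2) (mτ' ε v 2 - mτ' ε v 1)
    have q2 := q (v 0) (-v 1 - v 2) (v 2 - v 1)
    generalize n ^ (mτ' ε v 0).val * z ^ (-mτ' ε v 1 - mτ' ε v 2).val * m ^ (mτ' ε v 2 - mτ' ε v 1).val = A at e q1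
    generalize n ^ (v 0).val * z ^ (-v 1 - v 2).val * m ^ (v 2 - v 1).val = B at e q2
    generalize s ^ (v 1 + v 2 + v 3).val = r at e sz
    have := mul_mem (mul_mem (inv_mem (F.ex0.cj sz ha)) (mul_mem (inv_mem q2) ha)) (F.ex0.cj (F.Pz p hp) q1)
    rwa [show (r * a * r⁻¹)⁻¹ * (B⁻¹ * a) * (p * A * p⁻¹) = r * (a⁻¹ * (B * r) * a)⁻¹ * (p * A * p⁻¹) by group, ← e,
      show r * (p * (A * r) * p⁻¹)⁻¹ * (p * A * p⁻¹) = r * p * r⁻¹ * p⁻¹ by group] at this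

theorem nf {x : G} (hN : x ∈ normalizer (JJ n z m s : Set G)) (hx : x * z = z * x) :
    ∃ y ∈ Q ⊔ zpowers s, ∃ (d u : G) (δ ε : Bool), x = y * d * u ∧ Lin (io n z m s) d (mt' δ) ∧
      Lin (io n z m s) u (mτ' ε) ∧ (δ = false ∧ d = 1 ∨ δ = true ∧ d = t) ∧ (ε = false ∧ u = 1 ∨ ε = true ∧ u = τ) := by
  have E := emb F R
  obtain ⟨a, ha, p, hp, k, u, ε, rfl, hu, -, h⟩ := decC F R U hx
  have pN := (mul_mem_cancel_left (QN F R ha)).1
    ((mul_mem_cancel_right (E.norm ((E.lin_id (pow_mem (sJ F R) k)).mul hu))).1 hN)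
  have hy : a * s ^ k ∈ Q ⊔ zpowers s := mul_mem (mem_sup_left ha) (mem_sup_right (pow_mem (mem_zpowers s) k))
  rcases (mem_zp2 F.q8.t2).1 (Pn F R hp ((mem_normalizer_iff.1 pN n).1 (nJ F R))) with rfl | rfl
  · exact ⟨_, hy, 1, u, false, ε, by group, Lin.one _, hu, .inl ⟨rfl, rfl⟩, h⟩
  · exact ⟨_, hy, p, u, true, ε, by rw [mul_assoc a (s ^ k), ((show Commute s p from R.st).pow_left k).eq]; group,
      lt F R, hu, .inr ⟨rfl, rfl⟩, h⟩

omit U in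
theorem linS {j : G} (hj : j ∈ JJ n z m s) (α β : ℕ) :
    Lin (io n z m s) (j * i ^ α * c ^ β) fun v => nM^[α] (qM^[β] v) :=
  (((emb F R).lin_id hj).mul (lin_pow (ln F R) α)).mul (lin_pow (lq F R) β)

theorem cy {x : G} (hx : x * z = z * x) (h : x * io n z m s yv = io n z m s yv * x) : x ∈ Q ⊔ zpowers s := by
  obtain ⟨y, hy, d, u, δ, ε, rfl, hd, hu, k1, k2⟩ := nf F R U (cz1 F R U hx h (by decide)) hx
  obtain ⟨j, hj, α, β, e⟩ := memS F R hy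
  obtain ⟨rfl, rfl⟩ := c_b2.2.2.1 α β δ ε ((emb F R).fix (((e ▸ linS F R hj α β).mul hd).mul hu) h)
  rwa [(k1.resolve_right fun k => nomatch k.1).2, (k2.resolve_right fun k => nomatch k.1).2, mul_one, mul_one]

theorem cen3 {x : G} (hx : x * z = z * x) (h : x * io n z m s yv = io n z m s yv * x) (hs : x * s = s * x) :
    x ∈ JJ n z m s := by
  obtain ⟨j, hj, α, β, e⟩ := memS F R (cy F R U hx h)
  have L : Lin (io n z m s) x _ := e ▸ linS F R hj α β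
  obtain ⟨rfl, rfl⟩ := c_b2.2.2.2.1 α β ((emb F R).fix L h) ((emb F R).fix L (v := e4 3) (by rw [io3]; exact hs))
  simpa [e] using hj

theorem cJ {x : G} (h : Lin (io n z m s) x id) : x ∈ JJ n z m s :=
  cen3 F R U (by simpa only [ioz F] using (h.commute (v := zv) rfl).eq) (h.commute rfl)
    (by simpa only [io3] using (h.commute (v := e4 3) rfl).eq)

theorem czP {x : G} (ht : x * t = t * x) (hx : x * z = z * x) : ∃ p ∈ P, ∃ j ∈ JJ n z m s, ∃ (α : Fin 3) (u : G) (ε : Bool),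
    x = p * (c ^ α.1 * j * u) ∧ Lin (io n z m s) u (mτ' ε) ∧ (ε = false ∧ u = 1 ∨ ε = true ∧ u = τ) := by
  obtain ⟨a, ha, p, hp, k, u, ε, rfl, hu, ut, h⟩ := decC F R U hx
  have at' : a * t = t * a := by
    have := ((show Commute _ t from ht).mul_left (((show Commute s t from R.st).pow_left k).mul_left ut).inv_left).mul_left
      (show Commute p t from F.q8.ct hp).inv_left
    rwa [mul_inv_cancel_right, mul_inv_cancel_right] at this
  obtain ⟨α, j, hj, e⟩ := bQ0 F R ha at'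
  exact ⟨p, hp, _, mul_mem hj (pow_mem (sJ F R) k), α, u, ε, by rw [← F.PQ p hp a ha at', e]; group, hu, h⟩

theorem nP {x : G} (ht : x * t = t * x) (hx : x * z * x⁻¹ ∈ zpowers z) : x ∈ normalizer (P : Set G) := by
  have E := emb F R
  refine mem_normalizer_fintype fun p hp => ?_
  have c0 : ∀ a ∈ Q, a * t = t * a → Commute (x * p * x⁻¹) a := fun a ha h => by
    have := F.PQ p hp _ ((mem_normalizer_iff.1 (inv_mem (F.nQ x hx)) a).1 ha)
      (((show Commute x t from ht).inv_left.mul_left h).mul_left (show Commute x t from ht).inv_left.inv_left)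
    calc _ = x * (p * (x⁻¹ * a * x⁻¹⁻¹)) * x⁻¹ := by group
      _ = _ := by rw [this]; group
  have ct : Commute (x * p * x⁻¹) t :=
    ((show Commute x t from ht).mul_left (F.q8.ct hp)).mul_left (show Commute x t from ht).inv_left
  obtain ⟨p', hp', j, hj, α, u, ε, e, hu, h⟩ := czP F R U ct (c0 z F.zQ F.ex0.tz.symm)
  have c1 : ∀ a ∈ Q, a * t = t * a → Commute (c ^ α.1 * j * u) a := fun a ha h => by
    have := (show Commute p' a from F.PQ p' hp' a ha h).inv_left.mul_left (c0 a ha h)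
    rwa [e, inv_mul_cancel_left] at this
  have c2 : Commute (c ^ α.1 * j * u) t := by
    have := (show Commute p' t from F.q8.ct hp').inv_left.mul_left ct
    rwa [e, inv_mul_cancel_left] at this
  obtain ⟨rfl, rfl⟩ := c_b2.2.2.2.2.1 α ε (E.fix (((lin_pow (lq F R) α).mul (E.lin_id hj)).mul hu) (v := mv)
    (by rw [iom]; exact c1 m R.mQ R.mt))
  rw [(h.resolve_right fun k => nomatch k.1).2, Fin.val_zero, pow_zero, one_mul, mul_one] at e c1 c2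
  obtain ⟨v, rfl⟩ := (E.mem j).1 hj
  have vz := E.mem_zpowers'.2 (c_b2.2.2.2.2.2.1 v (E.fix (lt F R) c2.symm) (E.fix (lq F R) (c1 c R.cQ R.ct).symm))
  rw [ioz F] at vz
  have k : _ ^ 4 = _ ^ 4 := congrArg (· ^ 4) e
  rw [conj_pow, F.q8.four hp, mul_one, mul_inv_cancel, (show Commute p' _ from Ex.cz vz (F.Pz p' hp')).mul_pow,
    F.q8.four hp', pow_succ, E.cube, one_mul, one_mul] at k
  rwa [e, ← k, mul_one]

theorem exx : ∃ x ∈ normalizer (JJ n z m s : Set G), x ^ 3 = 1 ∧ x * io n z m s yv = io n z m s yv * x ∧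
    x * z * x⁻¹ = z * io n z m s yv ∧ x * s * x⁻¹ * s⁻¹ ∈ zpowers (io n z m s yv) ∧
    x * (i * c) * x⁻¹ * (i * c)⁻¹ ∈ JJ n z m s := by
  have E := emb F R
  have cz : ∀ {w}, w ∈ zpowers z → g * w * g⁻¹ ∈ zpowers (io n z m s yv) := fun ⟨k, hk⟩ =>
    ⟨k, by rw [ioy F R, ← hk]; exact conj_zpow⟩
  have cm : ∀ b ∈ Q, ∀ w, g⁻¹ * w * g ∈ Q → g * b * g⁻¹ * w * (g * b * g⁻¹)⁻¹ * w⁻¹ ∈ zpowers (io n z m s yv) :=
    fun b hb w hw => by
      simpa only [mul_inv_rev, inv_inv, mul_assoc, mul_inv_cancel_left, mul_inv_cancel, mul_one]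
        using cz (F.cmQ b hb _ hw)
  have yJ := zpowers_le.2 (E.memJ yv)
  obtain ⟨b, hb, e⟩ : ∃ b ∈ Q, b * (g⁻¹ * z * g) * b⁻¹ = g⁻¹ * z * g * z := by
    obtain ⟨b, hb, k⟩ : ∃ b ∈ Q, g⁻¹ * z * g * b ≠ b * (g⁻¹ * z * g) := by
      by_contra! k
      have := cz (F.ZQ _ k)
      rw [show g * (g⁻¹ * z * g) * g⁻¹ = z by group] at this
      exact absurd ((E.mem_zpowers' (v := yv) (w := zv)).1 (by rwa [ioz F])) (by decide)
    obtain ⟨w, hw, e⟩ := F.ex0.cj_eq hb R.zY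
    rcases (mem_zpowers_three F.oz).1 hw with rfl | rfl | rfl
    · exact absurd (mul_inv_eq_iff_eq_mul.1 (e.trans (mul_one _))).symm k
    · exact ⟨b, hb, e⟩
    · refine ⟨b⁻¹, inv_mem hb, ?_⟩
      calc _ = b⁻¹ * (g⁻¹ * z * g * z⁻¹ * z) * b := by group
        _ = g⁻¹ * z * g * (b⁻¹ * (z * b)) := by rw [← e]; group
        _ = _ := by rw [← F.Qz b hb]; group
  refine ⟨g * b * g⁻¹, mem_normalizer_fintype fun j hj => ?_, by rw [conj_pow, F.Q3 b hb]; group,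
    by rw [ioy F R, conj_mul, conj_mul, F.Qz b hb], ?_, cm b hb s R.sY, yJ (cm b hb _ R.wY)⟩
  · have k : ∀ w ∈ JJ n z m s, g⁻¹ * w * g ∈ Q → g * b * g⁻¹ * j * (g * b * g⁻¹)⁻¹ * w =
        w * (g * b * g⁻¹ * j * (g * b * g⁻¹)⁻¹) := fun w h1 h2 => by
      have := cmJ F R hj ((mul_mem_cancel_right (inv_mem h1)).1 (yJ (cm _ (inv_mem hb) w h2)))
      calc _ = g * b * g⁻¹ * (j * (g * b⁻¹ * g⁻¹ * w * (g * b⁻¹ * g⁻¹)⁻¹)) * (g * b * g⁻¹)⁻¹ := by group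
        _ = _ := by rw [this]; group
    exact cen3 F R U (k z (zJ F R) R.zY) (k _ (E.memJ yv) (by rw [ioy F R]; simpa [mul_assoc] using F.zQ))
      (k s (sJ F R) R.sY)
  · calc _ = g * (b * (g⁻¹ * z * g) * b⁻¹) * g⁻¹ := by group
      _ = _ := by rw [e, ioy F R]; group

theorem sg {K : Subgroup G} (hK : (Nat.card K).Coprime 3) (hJ : JJ n z m s ≤ normalizer (K : Set G))
    (hz : K ≤ centralizer {z}) : K = ⊥ := eq_bot_iff.2 fun k hk => by
  have E := emb F R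
  have c1 : ∀ j ∈ JJ n z m s, k * j * k⁻¹ * j⁻¹ ∈ K := fun j hj => by
    simpa only [mul_assoc] using mul_mem hk ((mem_normalizer_iff.1 (hJ hj) _).1 (inv_mem hk))
  have J3 : ∀ j ∈ JJ n z m s, j ^ 3 = 1 := fun j hj => by
    obtain ⟨v, rfl⟩ := (E.mem j).1 hj
    exact E.cube v
  have kN := cz1 F R U (v := e4 0) (mc.1 (hz hk)) (by
    rw [io0]
    exact mul_inv_eq_iff_eq_mul.1 (mul_inv_eq_one.1 (one_of_cop hK (c1 n (nJ F R))
      (F.Q3 _ (mul_mem (F.ex0.cj (mc.1 (hz hk)) R.nQ) (inv_mem R.nQ)))))) (by decide)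
  exact one_of_cop hK hk (J3 k (cJ F R U fun v => mul_inv_eq_one.1 (one_of_cop hK (c1 _ (E.memJ v))
    (J3 _ (mul_mem ((mem_normalizer_iff.1 kN _).1 (E.memJ v)) (inv_mem (E.memJ v)))))))

theorem pre : ∃ x, Pre (io n z m s) (JJ n z m s) (Q ⊔ zpowers s) P t c i x := by
  have E := emb F R
  have hz := ioz (n := n) (m := m) (s := s) F
  obtain ⟨x, x1, x2, x3, x4, x5, x6⟩ := exx F R U
  refine ⟨x, ⟨E, fun _ => cJ F R U, lt F R, lq F R, ln F R, F.Q3 c R.cQ, F.Q3 i R.iQ, R.ct.symm, R.ti, syl F R, JS F R,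
    mem_sup_left R.iQ, mem_sup_left R.cQ, fun y hy => ?_, fun y v h => cz1 F R U (hz ▸ h), nqc F R, F.q8,
    hz.symm ▸ F.Pz, fun p hp => iom (n := n) (z := z) (m := m) (s := s).symm ▸ F.PQ p hp m R.mQ R.mt,
    fun y h1 h2 => nP F R U h1 (hz ▸ h2), fun y h1 h2 => ?_, ncP F R⟩, fun y h => cy F R U (hz ▸ h), x1, x2, x3,
    by rw [E.add, hz, x4], by rwa [io3], x6, by rw [hz, io0]; exact nc0 F R, by rw [hz, iom]; exact ncm F R,
    fun K h1 h2 h3 => sg F R U h1 h2 (hz ▸ h3), ?_⟩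
  · obtain ⟨j, hj, α, β, e⟩ := memS F R hy
    exact ⟨j, hj, _, _, e⟩
  · obtain ⟨p, hp, j, hj, α, u, ε, e, hu, -⟩ := czP F R U h1 (hz ▸ h2)
    exact ⟨p, hp, _, E.norm (((lin_pow (lq F R) α).mul (E.lin_id hj)).mul hu), e⟩
  have key : ∀ y ∈ normalizer (JJ n z m s : Set G), y * io n z m s zv = io n z m s zv * y →
      ∃ a ∈ Q ⊔ zpowers s, y = a ∨ y = a * t ∨ y = a * τ ∨ y = a * t * τ := fun y h1 h2 => by
    obtain ⟨a, ha, d, u, δ, ε, rfl, -, -, ⟨-, rfl⟩ | ⟨-, rfl⟩, ⟨-, rfl⟩ | ⟨-, rfl⟩⟩ := nf F R U h1 (hz ▸ h2) <;>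
      exact ⟨a, ha, by simp⟩
  rcases U.τm with h | h
  · exact .inl fun y h1 h2 => (key y h1 h2).imp fun a ha => ⟨ha.1, by have := ha.2; rw [h, mul_one, mul_one] at this; tauto⟩
  · exact .inr ⟨τ, U.τ2, U.τP t F.q8.mem, lτ F R h, key⟩

end B2b

theorem b2bThm : B2bThm.{u} := by
  intro G _ _ z t g s c i m n Q P F R T
  obtain ⟨τ, U⟩ : ∃ τ, B2b.Tu z Q P s m n τ := by
    rcases T with h | ⟨τ, h1, h2, h3, -, h5, h6, h7, h8⟩
    · exact ⟨1, one_mul 1, by simp, .inl rfl, fun g hg => by simpa using h g hg⟩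
    · exact ⟨τ, h1, h3, .inr ⟨h2, h5, h6, h7⟩, h8⟩
  exact ⟨_, _, _, B2b.pre F R U⟩

end CL.Ast
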