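/-
Astill's theorem (helper35): normalizing the element `x`.
-/
import Cfsg.Agent.Ast.Defs2

set_option autoImplicit false
set_option synthInstance.maxSize 4096

namespace CL.Ast

open Subgroup Cfsg CL.Grp CL.Rec CL.Perm CL.G23 CL.McL3 CL.McL3.C27 CL.S9R Equiv
open scoped Pointwise

universe u

namespace B3aJ

def Xm (u : V) (g : ZMod 3) (v : V) : V := (v 0 + v 1 + 2 * v 2) • u + (2 * v 1 + v 2) • yv +
  (2 * v 1 + 2 * v 2) • (zv + yv) + (v 1 + v 2 + v 3) • (e4 3 + g • yv)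

def σ (b : ZMod 3) (v : V) : V := v + (b * (v 1 + v 2 + v 3)) • zv

def mw (v : V) : V := nM (qM v)

def Wm (u : V) (g : ZMod 3) (v : V) : V := Xm u g (nM (Xm u g (qM (Xm u g (nM (Xm u g v))))))

theorem cert : ∀ u g, Xm u g (mw (e4 0)) = mw (Xm u g (e4 0)) → Wm u g zv = zv ∧ Wm u g yv = yv ∧
    ∀ a b : Fin 3, Wm u g (e4 0) = nM^[a] (qM^[b] (e4 0)) →
      ∃ (b : ZMod 3) (j : Fin 3), ∀ v, Xm u g (mw^[j] (σ b v)) = σ b (xM v) := by decide +kernel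

theorem d3 : (∀ v : V, v = (v 0 + v 1 + 2 * v 2) • e4 0 + (2 * v 1 + v 2) • yv + (2 * v 1 + 2 * v 2) • zv +
      (v 1 + v 2 + v 3) • e4 3) ∧
    (∀ w, w - e4 3 = 0 ∨ w - e4 3 = yv ∨ w - e4 3 = -yv → ∃ g : ZMod 3, w = e4 3 + g • yv) ∧
    (∀ b v, σ (-b) (σ b v) = v ∧ σ b (σ (-b) v) = v) ∧
    (∀ b, σ b zv = zv ∧ σ b mv = mv ∧ σ b (e4 0) = e4 0 ∧ σ b (e4 1) = e4 1 + b.val • zv ∧
      ∀ a c : ZMod 3, σ b (a • zv + c • mv) = a • zv + c • mv) ∧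
    (∀ b v, tM (σ b v) = σ b (tM v)) ∧ (∀ b v, qM (σ b v) = σ b (qM v)) ∧ (∀ b v, nM (σ b v) = σ b (nM v)) ∧
    ∀ b v, τM (σ b v) = σ b (τM v) := by
  refine ⟨?_, ?_, ?_, ?_, ?_, ?_, ?_, ?_⟩ <;> decide +kernel

theorem σ_add (b : ZMod 3) (v w : V) : σ b (v + w) = σ b v + σ b w := by
  simp only [σ, Pi.add_apply, mul_add, add_smul]; abel

variable {G : Type*} [Group G] {ι : V → G} {g : G} {γ : V → V}

theorem lin_pow (h : Lin ι g γ) : ∀ k : ℕ, Lin ι (g ^ k) γ^[k]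
  | 0 => by simpa using Lin.one ι
  | k + 1 => by rw [pow_succ]; exact (lin_pow h k).mul h

theorem lin_σ {b : ZMod 3} {γ' : V → V} (h : Lin ι g γ) (c : ∀ v, γ (σ b v) = σ b (γ' v)) :
    Lin (fun v => ι (σ b v)) g γ' := fun v => (h _).trans (congrArg ι (c v))

end B3aJ

open B3aJ in
theorem b3aThm : B3aThm.{u} := by
  intro G _ _ ι J S P t q n x F
  have E := F.toEmb
  obtain ⟨c1, c2, c3, c4, c5, c6, c7, c8⟩ := d3
  obtain ⟨γ, hγ⟩ := E.exists_lin F.xN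
  obtain ⟨g, hg⟩ := c2 (γ (e4 3)) (E.mem_zpowers'.1 (by rw [E.sub, ← hγ]; exact F.xs))
  have hx : Lin ι x (Xm (γ (e4 0)) g) := hγ.congr fun v => by
    have sm := ZMod.map_smul (n := 3) (AddMonoidHom.mk' γ (E.lin_add hγ))
    simp only [AddMonoidHom.mk'_apply] at sm
    conv_lhs => rw [c1 v]
    rw [E.lin_add hγ, E.lin_add hγ, E.lin_add hγ, sm, sm, sm, sm, E.fix hγ F.xy, E.inj ((hγ zv).symm.trans F.xz), hg, Xm]
  generalize γ (e4 0) = u at hx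
  have hw : Lin ι (n * q) mw := F.ln.mul F.lq
  obtain ⟨k1, k2, k3⟩ := cert u g (E.lin_ext (hx.mul hw) (by
    rw [show x * (n * q) = x * (n * q) * x⁻¹ * (n * q)⁻¹ * (n * q * x) by group]
    exact (E.lin_id F.xw).mul (hw.mul hx)) (e4 0))
  have hW : Lin ι (x * (n * (x * (q * (x * (n * x)))))) (Wm u g) :=
    hx.mul (F.ln.mul (hx.mul (F.lq.mul (hx.mul (F.ln.mul hx)))))
  obtain ⟨j, hj, a, b, e⟩ := F.memS _ (F.cy _ (hW.commute k1) (hW.commute k2))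
  rw [pow_eq_pow_mod a F.n3, pow_eq_pow_mod b F.q3] at e
  obtain ⟨β, l, k⟩ := k3 ⟨a % 3, Nat.mod_lt _ (by decide)⟩ ⟨b % 3, Nat.mod_lt _ (by decide)⟩ (E.lin_ext hW
    (e ▸ ((E.lin_id hj).mul (lin_pow F.ln _)).mul (lin_pow F.lq _)) (e4 0))
  obtain ⟨s1, s2, s3, s4, s5⟩ := c4 β
  have n0 : ∀ {h}, h ∈ normalizer (J : Set G) → h ^ 3 = 1 → h ∈ N0 J t := fun h1 h2 => subset_closure (.inl ⟨h1, h2⟩)
  refine ⟨fun v => ι (σ β v), x * (n * q) ^ l.1, ⟨⟨fun v w => by rw [σ_add, E.add], fun v w h => ?_, fun h => ?_⟩,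
    fun h k => F.cJ h fun v => by simpa only [id, (c3 β v).2] using k (σ (-β) v), lin_σ F.lt (c5 β), lin_σ F.lq (c6 β),
    lin_σ F.ln (c7 β), F.q3, F.n3, F.tq, F.tn, F.syl, F.JS, F.nS, F.qS, F.memS, fun h v h1 h2 h3 => ?_, F.nq, F.q8, ?_, ?_,
    ?_, ?_, ?_⟩, lin_σ (hx.mul (lin_pow hw l)) k, mul_mem (n0 F.xN F.x3) (pow_mem (mul_mem (n0 (E.norm F.ln) F.n3)
    (n0 (E.norm F.lq) F.q3)) _), ?_, ?_, ?_, ?_⟩
  · rw [← (c3 β v).1, E.inj h, (c3 β w).1]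
  · exact (E.mem h).trans ⟨fun ⟨v, k⟩ => ⟨σ (-β) v, by rwa [(c3 β v).2]⟩, fun ⟨v, k⟩ => ⟨_, k⟩⟩
  · refine F.cz1 h _ (s1 ▸ h1) h2 fun a c k => h3 a c ?_
    rw [← (c3 β v).1, k, (c4 (-β)).2.2.2.2]
  · simpa only [s1] using F.Pz
  · simpa only [s2] using F.Pm
  · simpa only [s1] using F.nP
  · simpa only [s1] using F.czP
  · obtain ⟨p, hp, k⟩ := F.ncP
    refine ⟨p, hp, fun h => k ?_⟩
    rwa [s4, E.add, E.nsmul, mul_assoc, ← ((show Commute _ _ from F.Pz p hp).pow_right _).eq, ← mul_assoc, ← mul_assoc,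
      mul_left_inj] at h
  · simpa only [s1, s3] using F.nc0
  · simpa only [s1, s2] using F.ncm
  · simpa only [s1] using F.sg
  · simp only [s1]
    exact F.dich.imp_right fun ⟨τ, h1, h2, h3, h4⟩ => ⟨τ, h1, h2, lin_σ h3 (c8 β), h4⟩

end CL.Ast
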