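/-
Astill's theorem, job B3b: finite checks on the 81 vectors.
-/
import Cfsg.Agent.Ast.Defs2

set_option autoImplicit false
set_option synthInstance.maxSize 4096

namespace CL.Ast

open CL.McL3 CL.McL3.C27 CL.S9R Equiv

/-- the action of `n ^ a * q ^ c` -/
def b3mu (p : Fin 3 × Fin 3) (v : V) : V := nM^[p.1] (qM^[p.2] v)

def b3ev (w : List (Fin 4)) (v : V) : V := w.foldr (fun i u => ![nM, qM, xM, tM] i u) v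

/-- the frame of a vector of weight two -/
def b3fr (v : V) : Fin 3 := if v 0 = 0 ↔ v 1 = 0 then 0 else if v 0 = 0 ↔ v 2 = 0 then 1 else 2

def b3W (v : V) : Prop := v 1 = v 3 + v 0 ∧ v 2 = v 3 - v 0

instance : DecidablePred b3W := fun _ => inferInstanceAs (Decidable (_ ∧ _))

theorem b3_iso : (∀ v, qf (nM v) = qf v) ∧ (∀ v, qf (qM v) = qf v) ∧ (∀ v, qf (xM v) = qf v) ∧ (∀ v, qf (tM v) = qf v) ∧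
    ∀ v, qf (τM v) = qf v := by decide +kernel

theorem b3_mu0 : (∀ v, nM (qM v) = qM (nM v)) ∧ (∀ v, nM^[3] v = v) ∧ ∀ v, qM^[3] v = v := by decide +kernel

theorem b3_mu1 (p p' : Fin 3 × Fin 3) (v : V) : b3mu p (b3mu p' v) = b3mu (p + p') v := by
  have k : ∀ {f : V → V}, (∀ v, f^[3] v = v) → ∀ (a b : Fin 3) v, f^[a.1] (f^[b.1] v) = f^[(a + b).1] v :=
    fun h a b v => by rw [← Function.iterate_add_apply, Fin.val_add, Function.IsPeriodicPt.iterate_mod_apply (h v)]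
  rw [b3mu, b3mu, b3mu, ← (Function.Commute.iterate_iterate b3_mu0.1 p'.1.1 p.2.1).eq, k b3_mu0.2.1, k b3_mu0.2.2]
  rfl

theorem b3_mu2 : ∀ p, p ≠ 0 → ∃ w ∈ [e4 0, mv, yv, ![1, 2, 1, 0]], ∀ u, b3mu p u = u →
    ∃ i j : Fin 3, u = i.1 • zv + j.1 • w := by decide +kernel

theorem b3_mu3 : ∀ p p' : Fin 3 × Fin 3, p ≠ 0 → (∃ i : Fin 3, p' = i.1 • p) ∨
    (∀ u, b3mu p u = u → b3mu p' u = u → ∃ k : Fin 3, u = k.1 • zv) ∧ ∀ p'', ∃ i j : Fin 3, p'' = i.1 • p + j.1 • p' := by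
  decide +kernel

theorem b3_diag : ∀ ε s, ∃ w ∈ [[], [1, 2, 3, 2, 2, 1, 1], [2, 3, 2, 2], [1, 2, 3, 2, 3, 2, 1, 1], [2, 2, 3, 2],
    [3, 2, 3, 1, 1, 2, 1, 1], [2, 3, 2, 3, 2], [3, 2, 1, 1, 2, 1, 1], [3], [3, 1, 2, 3, 2, 2, 1, 1], [3, 2, 3, 2, 2],
    [2, 2, 3, 1, 2, 2, 1], [3, 2, 2, 3, 2], [2, 3, 1, 1, 2, 1, 1], [3, 2, 3, 2, 3, 2], [2, 1, 1, 2, 1, 1]],
    ∀ v, b3ev w v = ext ε (1, s) v := by decide +kernel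

theorem b3_tr : ∀ v, ∃ w ∈ [[], [2], [2, 0], [2, 1], [2, 2], [2, 2, 0], [2, 2, 1], [2, 0, 2], [0, 2, 3], [2, 3, 1, 1],
    [0, 2, 3, 1], [2, 3, 2, 1, 0], [2, 3, 1, 2, 0], [0, 2, 3, 2, 0], [3, 2, 2, 3, 0], [2, 2, 3, 1, 1], [0, 2, 3, 2, 1],
    [0, 2, 2, 3, 2], [2, 2, 3, 2, 0, 0], [2, 2, 3, 1, 1, 0], [2, 2, 3, 2, 1, 0], [0, 2, 3, 1, 2, 1],
    [2, 2, 0, 3, 2, 1, 1], [0, 2, 3, 1, 2], [2, 2, 3, 1, 2], [2, 3, 2], [2, 3, 2, 2], [2, 3, 2, 2, 0], [2, 0, 3, 2, 0],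
    [2, 0, 3, 2, 1], [2, 2, 3, 2, 1], [2, 3, 0, 2, 2]],
    b3ev w v = zv ∨ v = 0 ∨ qf v ≠ 0 ∧ (b3ev w v = e4 0 ∨ b3ev w v = mv) := by decide +kernel

theorem b3_mon : (∀ (u : V) (ε : ℤˣ), qf u = 1 → qf (u + (ε : ℤ) • e4 0) = 2 →
      ∃ (j : Fin 3) (s : ℤˣ), u = (s : ℤ) • e4 j.succ) ∧
    (∀ (j : Fin 3) (s s' : ℤˣ), qf ((s : ℤ) • e4 j.succ + (s' : ℤ) • e4 j.succ) ≠ 2) ∧
    (∀ i j : Fin 3, i ≠ j → qf (e4 i.succ + e4 j.succ) = 2) ∧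
    (∀ i : Fin 3, qf (e4 i.succ) = 1 ∧ qf (e4 i.succ + e4 0) = 2 ∧ b3fr (e4 i.succ + e4 0) = i) ∧
    (∀ v : V, v = (v 0).val • e4 0 + (v 1).val • e4 (Fin.succ 0) + (v 2).val • e4 (Fin.succ 1) +
      (v 3).val • e4 (Fin.succ 2)) ∧
    (∀ u : V, qf u = 1 → u = 0 ∨ u = e4 0 ∨ u = -e4 0 → ∃ ε : ℤˣ, u = (ε : ℤ) • e4 0) ∧ qf (e4 0) = 1 := by
  decide +kernel

theorem b3_up : (∀ (a : Mo) (u : V3), up (av a u) = (u 0).val • (a.2 0 : ℤ) • e4 (a.1 0).succ +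
    (u 1).val • (a.2 1 : ℤ) • e4 (a.1 1).succ + (u 2).val • (a.2 2 : ℤ) • e4 (a.1 2).succ) ∧
    ∀ (ε : ℤˣ) (c : ZMod 3), ((ε : ℤ) • c) • e4 0 = c.val • (ε : ℤ) • e4 0 := by decide +kernel

theorem b3_ext (ε : ℤˣ) (a : Mo) (v : V) : ext ε a v = (v 0).val • (ε : ℤ) • e4 0 +
    (v 1).val • (a.2 0 : ℤ) • e4 (a.1 0).succ + (v 2).val • (a.2 1 : ℤ) • e4 (a.1 1).succ +
    (v 3).val • (a.2 2 : ℤ) • e4 (a.1 2).succ := by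
  rw [ext, b3_up.1, b3_up.2, add_comm, ← add_assoc, ← add_assoc]
  rfl

theorem b3_fr : (∀ u v : V, qf u = 2 → qf v = 2 → (b3fr u = b3fr v ↔ u = v ∨ u = -v ∨ qf (u + v) = 1)) ∧
    ∀ (ε : ℤˣ) (a : Mo) (i : Fin 3), b3fr (ext ε a (e4 i.succ + e4 0)) = a.1 i := by decide +kernel

theorem b3_W : (∀ u v, b3W u → b3W v → b3W (u + v)) ∧ (∀ u, b3W u → b3W (-u) ∧ qf u = 0) ∧ b3W 0 ∧ b3W zv ∧ b3W yv ∧
    (∀ u : V, zv = 0 ∨ zv = u ∨ zv = -u → ¬ (yv = 0 ∨ yv = u ∨ yv = -u)) ∧ zv ≠ 0 := by decide +kernel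

end CL.Ast
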