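/-
Astill's theorem, job B3b: `N(J)` acts on `J = 3 ^ 4` by isometries; fusion, signalizers, frames.
-/
import Cfsg.Agent.Ast.B3bD
import Cfsg.Agent.Even.Amb

set_option autoImplicit false
set_option synthInstance.maxSize 4096

namespace CL.Ast

open Subgroup Cfsg CL.Grp CL.Rec CL.Perm CL.G23 CL.McL3 CL.McL3.C27 CL.S9R Equiv
open scoped Pointwise

universe u

variable {G : Type u} [Group G] {ι : V → G} {J S P : Subgroup G} {t q n x g h : G} {γ : V → V}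

/-- the elements of `N(J)` that act as isometries -/
def b3Iso (E : Emb ι J) : Subgroup G where
  carrier := {g | g ∈ normalizer (J : Set G) ∧ ∀ v w, g * ι v * g⁻¹ = ι w → qf w = qf v}
  one_mem' := ⟨one_mem _, fun v w e => by rw [E.inj (show ι w = ι v by simpa using e.symm)]⟩
  mul_mem' := fun {a b} ha hb => ⟨mul_mem ha.1 hb.1, fun v w e => by
    obtain ⟨γ, hγ⟩ := E.exists_lin hb.1
    exact (ha.2 (γ v) w (by rw [← hγ, ← e]; group)).trans (hb.2 v _ (hγ v))⟩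
  inv_mem' := fun {a} ha => ⟨inv_mem ha.1, fun v w e => (ha.2 w v (by rw [← e]; group)).symm⟩

theorem b3_mem_iso [Finite G] (E : Emb ι J) (h1 : Lin ι g γ) (h2 : ∀ v, qf (γ v) = qf v) : g ∈ b3Iso E :=
  ⟨E.norm h1, fun v w e => by rw [E.inj (e.symm.trans (h1 v)), h2]⟩

theorem b3_lin_mul {p p' : Fin 3 × Fin 3} (h1 : Lin ι g (b3mu p)) (h2 : Lin ι h (b3mu p')) :
    Lin ι (g * h) (b3mu (p + p')) := (h1.mul h2).congr (b3_mu1 p p')

theorem b3_lin_pow {p : Fin 3 × Fin 3} (h1 : Lin ι g (b3mu p)) : ∀ k : ℕ, Lin ι (g ^ k) (b3mu (k • p))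
  | 0 => by rw [pow_zero, zero_smul]; exact Lin.one ι
  | k + 1 => by rw [pow_succ, succ_nsmul]; exact b3_lin_mul (b3_lin_pow h1 k) h1

namespace Cz

variable (F : Cz ι J S P t q n)
include F

theorem b3_linS (hg : g ∈ S) : ∃ p, Lin ι g (b3mu p) := by
  obtain ⟨j, hj, a, b, rfl⟩ := F.memS g hg
  exact ⟨_, b3_lin_mul (b3_lin_mul (p := 0) (F.toEmb.lin_id hj) (b3_lin_pow (p := (1, 0)) F.ln a))
    (b3_lin_pow (p := (0, 1)) F.lq b)⟩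

theorem b3_memJ (h1 : Lin ι g γ) (h2 : Lin ι h γ) : g⁻¹ * h ∈ J := F.cJ _ fun v => by
  calc _ = g⁻¹ * (h * ι v * h⁻¹) * g := by group
    _ = _ := by rw [h2, ← h1]; group; rfl

/-- `J` is the only elementary abelian subgroup of order 81 of `S`. -/
theorem b3_le_or {B : Subgroup G} (hB : B ≤ S) (hc : ∀ a ∈ B, ∀ b ∈ B, a * b = b * a) : B ≤ J ∨ Nat.card B ≤ 27 := by
  refine or_iff_not_imp_left.2 fun hn => ?_
  obtain ⟨b, hb, bJ⟩ := SetLike.not_le_iff_exists.1 hn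
  obtain ⟨p, hp⟩ := F.b3_linS (hB hb)
  have p0 : p ≠ 0 := fun e => bJ (F.cJ b (by rw [e] at hp; exact hp))
  have key : ∀ {c d}, c ∈ B → d ∈ B → ∀ {γ}, Lin ι c γ → Lin ι d γ → ∃ u, d = c * ι u ∧
      ∀ {b' γ'}, b' ∈ B → Lin ι b' γ' → γ' u = u := fun hc' hd _ h1 h2 => by
    obtain ⟨u, hu⟩ := (F.mem _).1 (F.b3_memJ h1 h2)
    exact ⟨u, by rw [hu, mul_inv_cancel_left], fun hb' h3 =>
      F.toEmb.fix h3 (hu ▸ hc _ hb' _ (mul_mem (inv_mem hc') hd))⟩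
  by_cases h1 : ∀ c ∈ B, ∀ p', Lin ι c (b3mu p') → ∃ i : Fin 3, p' = i.1 • p
  · obtain ⟨w, -, hw⟩ := b3_mu2 p p0
    refine le_trans (Nat.card_mono (Set.toFinite _) fun c hc' => ?_) ((Finite.card_range_le
      fun r : Fin 3 × Fin 3 × Fin 3 => b ^ r.1.1 * ι (r.2.1.1 • zv + r.2.2.1 • w)).trans (by simp))
    obtain ⟨p', hp'⟩ := F.b3_linS (hB hc')
    obtain ⟨i, rfl⟩ := h1 c hc' p' hp'
    obtain ⟨u, rfl, hu⟩ := key (pow_mem hb i.1) hc' (b3_lin_pow hp i.1) hp'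
    obtain ⟨j, k, rfl⟩ := hw u (hu hb hp)
    exact ⟨(i, j, k), rfl⟩
  · push Not at h1
    obtain ⟨b', hb', p', hp', h1⟩ := h1
    obtain ⟨h2, h3⟩ := (b3_mu3 p p' p0).resolve_left fun ⟨i, e⟩ => h1 i e
    refine le_trans (Nat.card_mono (Set.toFinite _) fun c hc' => ?_) ((Finite.card_range_le
      fun r : Fin 3 × Fin 3 × Fin 3 => b ^ r.1.1 * b' ^ r.2.1.1 * ι (r.2.2.1 • zv)).trans (by simp))
    obtain ⟨p'', hp''⟩ := F.b3_linS (hB hc')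
    obtain ⟨i, j, rfl⟩ := h3 p''
    obtain ⟨u, rfl, hu⟩ := key (mul_mem (pow_mem hb i.1) (pow_mem hb' j.1)) hc'
      (b3_lin_mul (b3_lin_pow hp i.1) (b3_lin_pow hp' j.1)) hp''
    obtain ⟨k, rfl⟩ := h2 u (hu hb hp) (hu hb' hp')
    exact ⟨(i, j, k), rfl⟩

theorem b3_comm {a b : G} (ha : a ∈ J) (hb : b ∈ J) : a * b = b * a := by
  obtain ⟨v, rfl⟩ := (F.mem a).1 ha
  obtain ⟨w, rfl⟩ := (F.mem b).1 hb
  exact F.toEmb.comm v w

variable [Finite G]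

theorem b3_SN : S ≤ normalizer (J : Set G) := fun _ hs => let ⟨_, h⟩ := F.b3_linS hs; F.toEmb.norm h

theorem b3_wc (hg : ∀ j ∈ J, g * j * g⁻¹ ∈ normalizer (J : Set G)) : g ∈ normalizer (J : Set G) := by
  have := Fact.mk Nat.prime_three
  obtain ⟨k, hk, e⟩ := (F.syl.of_le F.b3_SN le_top).exists_conj_le (U := MulAut.conj g • J)
    (F.toEmb.isPGroup.conj_smul g) ((conj_smul_le_iff _ _ _).2 hg)
  rw [conj_smul_conj_smul] at e
  rcases F.b3_le_or e (fun a ha b hb => by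
      have := F.b3_comm ((mem_conj_smul_iff _ _ _).1 ha) ((mem_conj_smul_iff _ _ _).1 hb)
      generalize k * g = c at this
      simpa [← mul_assoc] using (by simpa [mul_assoc] using this : a * (b * c) = b * (a * c))) with e | e
  · exact (mul_mem_cancel_left hk).1 (mem_normalizer_fintype fun j hj => e (conj_mem_conj_smul _ hj))
  · rw [card_conj_smul, F.toEmb.card] at e; omega

theorem b3_leN {B : Subgroup G} (hP : IsPGroup 3 B) (hJ : J ≤ B) : B ≤ normalizer (J : Set G) := by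
  have := Fact.mk Nat.prime_three
  by_contra hn
  obtain ⟨k, hk, h1, h2⟩ := CL.Inv.exists_mem_normalizer_of_lt_pgroup hP
    (lt_of_le_of_ne inf_le_left fun e : B ⊓ normalizer (J : Set G) = B => hn (e ▸ inf_le_right))
  exact h1 ⟨hk, F.b3_wc fun j hj => ((mem_normalizer_iff.1 h2 j).1 ⟨hJ hj, le_normalizer hj⟩).2⟩

theorem b3_fus {v w : V} (h : IsConj (ι v) (ι w)) : ∃ k ∈ normalizer (J : Set G), k * ι v * k⁻¹ = ι w := by
  have := Fact.mk Nat.prime_three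
  obtain ⟨g, h⟩ := isConj_iff.1 h
  obtain ⟨T, hT, hJT⟩ := exists_isSylowIn_ge (H := centralizer {ι w}) F.toEmb.isPGroup fun k hk =>
    mc.2 (F.b3_comm hk (F.toEmb.memJ w))
  obtain ⟨c, hc, e⟩ := hT.exists_conj_le (U := MulAut.conj g • J) (F.toEmb.isPGroup.conj_smul g) fun b hb => mc.2 (by
    rw [show b = g * (g⁻¹ * b * g) * g⁻¹ by group, ← h, conj_mul, conj_mul,
      F.b3_comm ((mem_conj_smul_iff _ _ _).1 hb) (F.toEmb.memJ v)])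
  refine ⟨c * g, F.b3_wc fun j hj => F.b3_leN hT.isPGroup hJT ?_, ?_⟩
  · simpa [mul_assoc] using e (conj_mem_conj_smul c (conj_mem_conj_smul g hj))
  · calc _ = c * (g * ι v * g⁻¹) * c⁻¹ := by group
      _ = _ := by rw [h, mc.1 hc]; group

theorem b3_n : n ∈ N0 J t ⊓ b3Iso F.toEmb :=
  ⟨subset_closure (.inl ⟨F.toEmb.norm F.ln, F.n3⟩), b3_mem_iso _ F.ln b3_iso.1⟩

theorem b3_q : q ∈ N0 J t ⊓ b3Iso F.toEmb :=
  ⟨subset_closure (.inl ⟨F.toEmb.norm F.lq, F.q3⟩), b3_mem_iso _ F.lq b3_iso.2.1⟩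

theorem b3_t : t ∈ N0 J t ⊓ b3Iso F.toEmb := ⟨subset_closure (.inr rfl), b3_mem_iso _ F.lt b3_iso.2.2.2.1⟩

theorem b3_S : S ≤ N0 J t ⊓ b3Iso F.toEmb := fun s hs => by
  obtain ⟨j, hj, a, b, rfl⟩ := F.memS s hs
  refine mul_mem (mul_mem ⟨subset_closure (.inl ⟨le_normalizer hj, ?_⟩), b3_mem_iso _ (F.toEmb.lin_id hj) fun _ => rfl⟩
    (pow_mem F.b3_n a)) (pow_mem F.b3_q b)
  obtain ⟨v, rfl⟩ := (F.mem j).1 hj
  exact F.toEmb.cube v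

end Cz

namespace Pr2

variable [Finite G] (F : Pr2 ι J S P t q n x)
include F

theorem b3_word : ∀ w : List (Fin 4), ∃ g ∈ N0 J t ⊓ b3Iso F.toEmb, Lin ι g (b3ev w)
  | [] => ⟨1, one_mem _, Lin.one ι⟩
  | i :: w => by
    obtain ⟨g, hg, h1⟩ := b3_word w
    fin_cases i
    exacts [⟨_, mul_mem F.toCz.b3_n hg, F.ln.mul h1⟩, ⟨_, mul_mem F.toCz.b3_q hg, F.lq.mul h1⟩,
      ⟨_, mul_mem ⟨F.x0, b3_mem_iso _ F.lx b3_iso.2.2.1⟩ hg, F.lx.mul h1⟩, ⟨_, mul_mem F.toCz.b3_t hg, F.lt.mul h1⟩]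

theorem b3_cz (hg : g ∈ normalizer (J : Set G)) :
    ∃ h ∈ N0 J t ⊓ b3Iso F.toEmb, h * g ∈ normalizer (J : Set G) ∧ h * g * ι zv = ι zv * (h * g) := by
  obtain ⟨γ, hγ⟩ := F.toEmb.exists_lin hg
  obtain ⟨w, -, hw⟩ := b3_tr (γ zv)
  obtain ⟨h, hh, h1⟩ := F.b3_word w
  have e := (h1.mul hγ) zv
  refine ⟨h, hh, mul_mem hh.2.1 hg, ?_⟩
  rcases hw with hw | hw | ⟨-, hw | hw⟩
  · exact mul_inv_eq_iff_eq_mul.1 (e.trans (congrArg ι hw))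
  · have := hγ zv
    rw [hw, F.toEmb.zero, conj_eq_one_iff, F.toEmb.eq_one] at this
    exact absurd this b3_W.2.2.2.2.2.2
  · exact absurd (isConj_iff.2 ⟨_, e.trans (congrArg ι hw)⟩) F.nc0
  · exact absurd (isConj_iff.2 ⟨_, e.trans (congrArg ι hw)⟩) F.ncm

theorem b3_dich : normalizer (J : Set G) ≤ N0 J t ⊓ b3Iso F.toEmb ∨ ∃ τ, τ * τ = 1 ∧ τ * t = t * τ ∧ Lin ι τ τM ∧
    ∀ g ∈ normalizer (J : Set G), g ∈ N0 J t ⊓ b3Iso F.toEmb ∨ g * τ ∈ N0 J t ⊓ b3Iso F.toEmb := by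
  refine F.dich.imp (fun h g hg => ?_) fun ⟨τ, h1, h2, h3, h⟩ => ⟨τ, h1, h2, h3, fun g hg => ?_⟩
  · obtain ⟨k, hk, k1, k2⟩ := F.b3_cz hg
    obtain ⟨s, hs, e | e⟩ := h _ k1 k2 <;> refine (mul_mem_cancel_left hk).1 (e ▸ ?_)
    exacts [F.toCz.b3_S hs, mul_mem (F.toCz.b3_S hs) F.toCz.b3_t]
  · obtain ⟨k, hk, k1, k2⟩ := F.b3_cz hg
    rw [← mul_mem_cancel_left hk, ← mul_mem_cancel_left (y := g * τ) hk, ← mul_assoc]
    obtain ⟨s, hs, e | e | e | e⟩ := h _ k1 k2 <;> rw [e]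
    · exact .inl (F.toCz.b3_S hs)
    · exact .inl (mul_mem (F.toCz.b3_S hs) F.toCz.b3_t)
    · exact .inr (by rw [mul_assoc, h1, mul_one]; exact F.toCz.b3_S hs)
    · exact .inr (by rw [mul_assoc, h1, mul_one]; exact mul_mem (F.toCz.b3_S hs) F.toCz.b3_t)

theorem b3_N_iso : normalizer (J : Set G) ≤ b3Iso F.toEmb := by
  rcases F.b3_dich with h | ⟨τ, -, -, h3, h⟩
  · exact h.trans inf_le_right
  · exact fun g hg => (h g hg).elim (fun e => e.2) fun e =>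
      (mul_mem_cancel_right (b3_mem_iso _ h3 b3_iso.2.2.2.2)).1 e.2

theorem b3_hom (hg : g ∈ normalizer (J : Set G)) : ∃ γ : V →+ V, Lin ι g γ ∧ ∀ v, qf (γ v) = qf v := by
  obtain ⟨γ, hγ⟩ := F.toEmb.exists_lin hg
  exact ⟨AddMonoidHom.mk' γ (F.toEmb.lin_add hγ), hγ, fun v => (F.b3_N_iso hg).2 v _ (hγ v)⟩

theorem b3_mon4 (hg : g ∈ normalizer (J : Set G)) (h0 : g * ι (e4 0) * g⁻¹ ∈ zpowers (ι (e4 0))) :
    ∃ ε a, Lin ι g (ext ε a) := by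
  obtain ⟨d1, d2, d3, d4, d5, d6, d7⟩ := b3_mon
  obtain ⟨γ, hγ, hq⟩ := F.b3_hom hg
  rw [hγ, F.toEmb.mem_zpowers'] at h0
  obtain ⟨ε, hε⟩ := d6 _ ((hq _).trans d7) h0
  choose f s hf using fun i : Fin 3 => d1 (γ (e4 i.succ)) ε ((hq _).trans (d4 i).1)
    (by rw [← hε, ← map_add, hq, (d4 i).2.1])
  have hi : Function.Injective f := fun i j e => by_contra fun ne => d2 (f j) (s i) (s j) (by
    rw [← hf j, ← e, ← hf i, ← map_add, hq, d3 i j ne])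
  refine ⟨ε, (Equiv.ofBijective f (Finite.injective_iff_bijective.1 hi), s), hγ.congr fun v => ?_⟩
  conv_lhs => rw [d5 v]
  rw [b3_ext, map_add, map_add, map_add, map_nsmul, map_nsmul, map_nsmul, map_nsmul, hε, hf, hf, hf]
  rfl

theorem b3_sig {K : Subgroup G} (hK : (Nat.card K).Coprime 3) (hJ : J ≤ normalizer (K : Set G)) : K = ⊥ := by
  obtain ⟨d1, d2, d3, d4, d5, d6, -⟩ := b3_W
  let W : Subgroup G :=
    { carrier := {g | ∃ v, b3W v ∧ ι v = g}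
      one_mem' := ⟨0, d3, F.toEmb.zero⟩
      mul_mem' := by
        rintro _ _ ⟨u, hu, rfl⟩ ⟨v, hv, rfl⟩
        exact ⟨u + v, d1 u v hu hv, F.add u v⟩
      inv_mem' := by
        rintro _ ⟨u, hu, rfl⟩
        exact ⟨-u, (d2 u hu).1, F.toEmb.neg u⟩ }
  have WJ : W ≤ J := by
    rintro _ ⟨u, -, rfl⟩
    exact F.toEmb.memJ u
  haveI : IsMulCommutative W := ⟨⟨fun a b => Subtype.ext (F.toCz.b3_comm (WJ a.2) (WJ b.2))⟩⟩
  refine le_bot_iff.1 (le_of_forall_centralizer_le (A := W) (fun hc => ?_) (WJ.trans hJ)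
    (Nat.Coprime.coprime_dvd_left (card_dvd_of_le WJ) (F.toEmb.card ▸ hK.symm.pow_left 4)) ?_)
  · obtain ⟨⟨_, u, hu, rfl⟩, hg⟩ := hc.exists_generator
    have k : ∀ v, b3W v → v = 0 ∨ v = u ∨ v = -u := fun v hv => by
      obtain ⟨k, hk⟩ := hg ⟨_, v, hv, rfl⟩
      exact F.toEmb.mem_zpowers'.1 ⟨k, congrArg Subtype.val hk⟩
    exact d6 u (k _ d4) (k _ d5)
  rintro _ ⟨u, hu, rfl⟩ h1
  obtain ⟨w, -, hw⟩ := b3_tr u
  obtain ⟨h, hh, h2⟩ := F.b3_word w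
  replace hw := (hw.resolve_right fun e => e.elim (fun e => h1 (F.toEmb.eq_one.2 e)) fun e => e.1 (d2 u hu).2)
  refine (CL.Even.cj_eq_bot.1 (F.sg _ ?_ ?_ ?_ : Subgroup.map (MulAut.conj h).toMonoidHom _ = ⊥)).le
  · rw [CL.Even.card_cj]
    exact Nat.Coprime.coprime_dvd_left (card_dvd_of_le inf_le_left) hK
  · rw [← CL.Even.cj_norm, CL.Even.le_cj_iff, CL.Even.cj_eq (inv_mem hh.2.1)]
    exact CL.Even.le_norm_inf hJ (CL.Even.le_norm_of_le fun j hj => mc.2 (F.toCz.b3_comm hj (F.toEmb.memJ u)))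
  · rintro _ ⟨k, hk, rfl⟩
    refine mc.2 ?_
    rw [← hw, ← h2]
    exact (conj_mul.trans (by rw [mc.1 hk.2])).trans conj_mul.symm

theorem b3_psi : ∃ ψ : G → Perm (Fin 3),
    (∀ g ∈ normalizer (J : Set G), ∀ h ∈ normalizer (J : Set G), ψ (g * h) = ψ g * ψ h) ∧
    ∀ g ε a, Lin ι g (ext ε a) → ψ g = a.1 := by
  obtain ⟨-, -, -, d4, -⟩ := b3_mon
  have ex : ∀ g ∈ normalizer (J : Set G), ∃ p : Perm (Fin 3), ∀ v w, qf v = 2 → g * ι v * g⁻¹ = ι w →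
      b3fr w = p (b3fr v) := fun g hg => by
    obtain ⟨γ, hγ, hq⟩ := F.b3_hom hg
    have k : ∀ u v, qf u = 2 → qf v = 2 → (b3fr (γ u) = b3fr (γ v) ↔ b3fr u = b3fr v) := fun u v hu hv => by
      rw [b3_fr.1 _ _ ((hq u).trans hu) ((hq v).trans hv), b3_fr.1 u v hu hv, ← map_neg, ← map_add, hq,
        (F.toEmb.lin_inj hγ).eq_iff, (F.toEmb.lin_inj hγ).eq_iff]
    refine ⟨Equiv.ofBijective (fun i : Fin 3 => b3fr (γ (e4 i.succ + e4 0))) (Finite.injective_iff_bijective.1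
      fun i j e => ?_), fun v w hv e => ?_⟩
    · rwa [k _ _ (d4 i).2.1 (d4 j).2.1, (d4 i).2.2, (d4 j).2.2] at e
    · rw [F.inj (e.symm.trans (hγ v))]
      exact (k _ _ hv (d4 _).2.1).2 (d4 _).2.2.symm
  choose! ψ hψ using ex
  refine ⟨ψ, fun g hg h hh => Equiv.ext fun i => ?_, fun g ε a h1 => Equiv.ext fun i => ?_⟩
  · obtain ⟨γ, hγ, hq⟩ := F.b3_hom hh
    obtain ⟨δ, hδ⟩ := F.toEmb.exists_lin hg
    rw [Perm.mul_apply, ← (d4 i).2.2, ← hψ _ (mul_mem hg hh) _ _ (d4 i).2.1 (hδ.mul hγ _),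
      ← hψ h hh _ _ (d4 i).2.1 (hγ _), ← hψ g hg _ _ ((hq _).trans (d4 i).2.1) (hδ _)]
  · rw [← b3_fr.2 ε a i, hψ g (F.toEmb.norm h1) _ _ (d4 i).2.1 (h1 _), (d4 i).2.2]

end Pr2

theorem b3bThm : B3bThm.{u} := fun F =>
  ⟨F.toCz, fun _ => F.toCz.b3_wc, fun _ => F.toCz.b3_leN,
    fun v w h => let ⟨_, hk, e⟩ := F.toCz.b3_fus h; ((F.b3_N_iso hk).2 v w e).symm, ⟨_, F.lx⟩,
    fun ε s => let ⟨w, _, hw⟩ := b3_diag ε s; let ⟨g, _, hg⟩ := F.b3_word w; ⟨g, hg.congr hw⟩,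
    fun _ => F.b3_mon4, fun _ => F.b3_sig,
    F.b3_dich.imp (fun h => h.trans inf_le_left) fun ⟨τ, h1, h2, h3, h⟩ =>
      ⟨τ, h1, h2, h3, fun g hg => (h g hg).imp And.left And.left⟩, F.b3_psi⟩

end CL.Ast
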