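/-
Astill's theorem (helper35): the involutions of `R N(X)` modulo `t`.
-/
import Cfsg.Agent.Ast.Base

set_option autoImplicit false
set_option synthInstance.maxSize 4096

namespace CL.Ast

open Subgroup Cfsg CL.Grp CL.Rec CL.Perm CL.G23 CL.McL3 CL.McL3.C27 CL.S9R Equiv
open scoped Pointwise

universe u

namespace ClsJ

/-- equal up to sign -/
def Pm (v w : V3) : Prop := v = w ∨ v = -w

instance (v w : V3) : Decidable (Pm v w) := inferInstanceAs (Decidable (_ ∨ _))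

theorem tri : ∀ a : Mo, mm a a = m1 → a = m1 ∨ (a ≠ m1 ∧ (∃ k, av a (Pi.single k 1) = Pi.single k 1) ∧
    ∃ A ∈ [w1, w2, w3, w4], ∃ B ∈ [w1, w2, w3, w4], ∃ C ∈ [w1, w2, w3, w4], ∃ D ∈ [w1, w2, w3, w4], Qd A B C D ∧
      Pm (av a A) B ∧ Pm (av a B) A ∧ (Pm (av a C) D ∧ Pm (av a D) C ∨ a.1 ≠ 1 ∧ Pm (av a C) C ∧ Pm (av a D) D)) ∨
    ((∀ k, av a (Pi.single k 1) ≠ Pi.single k 1) ∧ ∃ w ∈ [w1, w2, w3, w4], Sg w ∧ Pm (av a w) w ∧
      ∃ x, av a x = -x ∧ dot x w ≠ 0) := by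
  decide +kernel

theorem dot_single : ∀ (k : Fin 3) (w : V3), Sg w → dot (Pi.single k 1) w ≠ 0 := by decide +kernel

variable {G : Type*} [Group G] {t : G} {X : Subgroup G} {e : Fin 3 → G} {q : G} {P : V3 → Subgroup G} {n p v z : G}
  {a : Mo} {A B C D w w' : V3}

theorem sort8 {a b c d a' b' c' d' : G} (h1 : Commute b a') (h2 : Commute c a') (h3 : Commute d a') (h4 : Commute c b')
    (h5 : Commute d b') (h6 : Commute d c') :
    a * b * c * d * (a' * b' * c' * d') = a * a' * (b * b') * (c * c') * (d * d') := by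
  simp only [mul_assoc]
  rw [h3.left_comm, h2.left_comm, h1.left_comm, h5.left_comm, h4.left_comm, h6.left_comm]

/-- the elements that act trivially on `K` modulo `t` -/
def Tz (F : HB t X e q) (K : Subgroup G) : Subgroup G where
  carrier := {g | ∀ p ∈ K, g * p * g⁻¹ * p⁻¹ ∈ zpowers t}
  one_mem' := fun p _ => by simp
  mul_mem' := fun {g h} hg hh p hp => by
    rw [show g * h * p * (g * h)⁻¹ * p⁻¹ = g * (h * p * h⁻¹ * p⁻¹) * g⁻¹ * (g * p * g⁻¹ * p⁻¹) by group]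
    exact mul_mem (F.conj_z_iff.2 (hh p hp)) (hg p hp)
  inv_mem' := fun {g} hg p hp => by
    rw [show g⁻¹ * p * g⁻¹⁻¹ * p⁻¹ = g⁻¹ * (g * p * g⁻¹ * p⁻¹)⁻¹ * g⁻¹⁻¹ by group]
    exact F.conj_z_iff.2 (inv_mem (hg p hp))

variable (F : HS3 t X e q P)
include F

theorem P_eq (hw : Sg w') (h : Pm w w') : P w = P w' := h.elim (congrArg P) fun k => k ▸ F.negP w' hw

theorem cj (hn : Act e n a) (hw : Sg w) (hw' : Sg w') (h : Pm (av a w) w') (hp : p ∈ P w) : n * p * n⁻¹ ∈ P w' :=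
  P_eq F hw' h ▸ F.cjP w hn hw p hp

theorem X_nrm {x : G} (hx : x ∈ X) (hw : Sg w) : x ∈ normalizer (P w : Set G) :=
  F.nz w x hw (by rw [(F.comm x hx _ (F.toMn.mJ w)).eq, mul_inv_cancel_right]; exact mem_zpowers _)

theorem ind2 (h : Qd A B C D) {a b c d a' b' c' d' : G} (ha : a ∈ P A) (hb : b ∈ P B) (hc : c ∈ P C) (hd : d ∈ P D)
    (ha' : a' ∈ P A) (hb' : b' ∈ P B) (hc' : c' ∈ P C) (hd' : d' ∈ P D)
    (k : a * b * c * d * (a' * b' * c' * d') ∈ zpowers t) : b * b' ∈ zpowers t ∧ d * d' ∈ zpowers t := by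
  have ⟨s1, s2, s3, s4, n1, n2, n3, n4, n5, n6⟩ := h
  rw [sort8 (F.cm A B s1 s2 n1 _ ha' _ hb).symm (F.cm A C s1 s3 n2 _ ha' _ hc).symm (F.cm A D s1 s4 n3 _ ha' _ hd).symm
    (F.cm B C s2 s3 n4 _ hb' _ hc).symm (F.cm B D s2 s4 n5 _ hb' _ hd).symm (F.cm C D s3 s4 n6 _ hc' _ hd).symm] at k
  have := F.ind h _ (mul_mem ha ha') _ (mul_mem hb hb') _ (mul_mem hc hc') _ (mul_mem hd hd') k
  exact ⟨this.2.1, this.2.2.2⟩

theorem z_mul (hz : z ∈ zpowers t) : z * n = n ∨ z * n = n * t := by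
  rcases (mem_zp2 F.t2).1 hz with rfl | rfl
  exacts [.inl (one_mul _), .inr (F.cen n).symm]

variable [Finite G]

theorem cl_of_neg (hv : v ∈ RR P) (hn : Act e n a) (h2 : v * n * (v * n) ∈ zpowers t) (hw : Sg w) (h : Pm (av a w) w)
    {x : V3} (hx : av a x = -x) (hd : dot x w ≠ 0) : Cl t (v * n) := by
  have M := F.toMn
  have hy : v * n ∈ normalizer (P w : Set G) := mem_normalizer_fintype fun p hp =>
    P_eq F hw h ▸ F.mu_cj ⟨v, hv, n, M.memH hn, hn, rfl⟩ hw hp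
  by_cases k : ∃ p ∈ P w, v * n * p ≠ p * (v * n)
  · obtain ⟨p, -, k⟩ := (F.q8 w hw).ex_inv hy (fun p _ => F.toHB.cz h2 p) k
    refine ⟨p⁻¹, ?_⟩
    calc _ = p⁻¹ * (v * n * p * (v * n)⁻¹) * (v * n) := by group
      _ = _ := by rw [k, inv_mul_cancel_left, F.cen]
  push Not at k
  have h1 : n ∈ Tz F.toHB (P w) := (mul_mem_cancel_left (show v ∈ Tz F.toHB (P w) from fun p hp =>
    F.cmR v hv p (F.PR w hw hp))).1 fun p hp => by
      rw [k p hp, mul_inv_cancel_right, mul_inv_cancel]; exact one_mem _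
  have h3 : mon e x * n * (mon e x)⁻¹ ∈ Tz F.toHB (P w) := fun p hp => by
    have := F.toHB.conj_z_iff (h := mon e x).2 (h1 _ ((mem_normalizer_iff.1 (X_nrm F (inv_mem (M.mJ x)) hw) p).1 hp))
    simpa only [mul_inv_rev, inv_inv, mul_assoc, mul_inv_cancel, mul_one] using this
  have h4 : mon e x * n * (mon e x)⁻¹ * n⁻¹ = mon e x * mon e x := by
    rw [mul_assoc, mul_assoc, ← mul_assoc n, ← M.neg, M.app hn, (c_sg.2.1 a x).2.2.1, hx, neg_neg]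
  have h5 := pow_mem (h4 ▸ mul_mem h3 (inv_mem h1)) 2
  rw [show (mon e x * mon e x) ^ 2 = mon e x ^ 3 * mon e x by simp [pow_succ, mul_assoc], F.cube _ (M.mJ x),
    one_mul] at h5
  obtain ⟨p, hp, p1⟩ := (F.q8 w hw).ex_out
  exact absurd (F.fp x w hw hd p hp (h5 p hp)) p1

theorem cent_fix (hn : Act e n a) (n2 : n * n = 1) {k : Fin 3} (hk : n * e k = e k * n) (hw : Sg w) (h : Pm (av a w) w) :
    ∀ p ∈ P w, n * p = p * n :=
  (F.q8 w hw).cent_of_comm (mem_normalizer_fintype fun _ hp => cj F hn hw hw h hp) (by simp [n2])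
    (X_nrm F (F.toMn.xm k) hw) hk (mon_single (x := e) k ▸ F.fp _ w hw (dot_single k w hw))

end ClsJ

open ClsJ in
theorem clsThm : ClsThm.{u} := by
  intro G _ _ t X e q P F v hv n a hn h2
  have M := F.toMn
  have nN := M.memH hn
  have v' := (mem_normalizer_iff.1 (F.nR nN) v).1 hv
  have e1 : v * n * (v * n) = v * (n * v * n⁻¹) * (n * n) := by group
  have n2 : n * n = 1 := F.toHB.sq_one nN (F.RN _ ((mul_mem_cancel_left (mul_mem hv v')).1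
    (e1 ▸ zpowers_le.2 F.tR h2)) (mul_mem nN nN))
  have fx : ∀ k, n * e k = e k * n ↔ av a (Pi.single k 1) = Pi.single k 1 := fun k => by
    rw [← M.fix hn, mon_single]
  refine ⟨n2, ?_⟩
  rcases tri a (M.uniq (hn.mul hn) (n2 ▸ M.actJ (one_mem _))) with rfl | ⟨a1, ⟨k, hk⟩, A, -, B, -, C, -, D, -, Q, hA, hB, h⟩ |
    ⟨h1, w, -, hw, h, x, hx, hd⟩
  · have nz := F.toHB.z_of_sq ((M.C_iff hn).2 rfl) (n2 ▸ one_mem _)
    refine ⟨or_iff_not_imp_left.2 fun k => .inl ?_, fun k => absurd nz k.2.2.1⟩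
    obtain ⟨w, -, k⟩ := F.clR _ (mul_mem hv (zpowers_le.2 F.tR nz)) k
    exact ⟨w, k⟩
  swap
  · exact ⟨.inr (.inl (cl_of_neg F hv hn h2 hw h hx hd)), fun ⟨_, _, _, k, hk⟩ => absurd ((fx k).1 hk) (h1 k)⟩
  have gd : Good t X e n := ⟨nN, n2, fun l => a1 ((M.C_iff hn).1 (F.toHB.zC l)), k, (fx k).2 hk⟩
  obtain ⟨p1, m1, p2, m2, p3, m3, p4, m4, rfl⟩ := F.dec Q v hv
  have ⟨s1, s2, s3, s4, n1, _, _, n4, n5, n6⟩ := Q
  have c1 := cj F hn s1 s2 hA m1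
  have c2 := cj F hn s2 s1 hB m2
  rw [e1, n2, mul_one, ← conj_mul, ← conj_mul, ← conj_mul, ← F.cm A B s1 s2 n1 _ c2 _ c1] at h2
  have e2 : p1⁻¹ * (p1 * p2 * p3 * p4 * n) * p1⁻¹⁻¹ = p2 * (n * p1 * n⁻¹) * p3 * p4 * n := by
    rw [mul_assoc p2, F.cm B C s2 s3 n4 _ c1 _ m3, mul_assoc p2, mul_assoc p3, F.cm B D s2 s4 n5 _ c1 _ m4]; group
  have r1 := inv_mem (F.PR A s1 m1)
  rcases h with ⟨hC, hD⟩ | ⟨a2, hC, hD⟩
  · have c3 := cj F hn s3 s4 hC m3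
    have c4 := cj F hn s4 s3 hD m4
    rw [mul_assoc _ (n * p3 * n⁻¹), ← F.cm C D s3 s4 n6 _ c4 _ c3, ← mul_assoc _ (n * p4 * n⁻¹)] at h2
    obtain ⟨z1, z2⟩ := ind2 F Q m1 m2 m3 m4 c2 c1 c4 c3 h2
    have : ∃ w ∈ RR P, w * (p1 * p2 * p3 * p4 * n) * w⁻¹ = n ∨ w * (p1 * p2 * p3 * p4 * n) * w⁻¹ = n * t := by
      refine ⟨p3⁻¹ * p1⁻¹, mul_mem (inv_mem (F.PR C s3 m3)) r1, ?_⟩
      rw [show p3⁻¹ * p1⁻¹ * (p1 * p2 * p3 * p4 * n) * (p3⁻¹ * p1⁻¹)⁻¹ =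
        p2 * (n * p1 * n⁻¹) * (p4 * (n * p3 * n⁻¹)) * n by
          rw [mul_inv_rev, mul_assoc p3⁻¹, ← mul_assoc _ p1⁻¹⁻¹, mul_assoc p3⁻¹, e2, F.toHB.cz z1 p3]; group]
      exact z_mul F (mul_mem z1 z2)
    exact ⟨.inr (.inr ⟨gd, this⟩), fun _ _ => this⟩
  refine ⟨.inr ?_, fun _ k => absurd k a2⟩
  have z1 := (ind2 F Q m1 m2 m3 m4 c2 c1 (cj F hn s3 s3 hC m3) (cj F hn s4 s4 hD m4) h2).1
  have cl : Cl t (p2 * (n * p1 * n⁻¹) * p3 * p4 * n) → Cl t (p1 * p2 * p3 * p4 * n) := fun k => by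
    have := k.conj F.toHB p1
    rwa [← e2, show p1 * (p1⁻¹ * (p1 * p2 * p3 * p4 * n) * p1⁻¹⁻¹) * p1⁻¹ = p1 * p2 * p3 * p4 * n by group] at this
  generalize p2 * (n * p1 * n⁻¹) = z at z1 cl e2
  by_cases z3 : p3 ∈ zpowers t
  · by_cases z4 : p4 ∈ zpowers t
    · exact .inr ⟨gd, _, r1, e2 ▸ z_mul F (mul_mem (mul_mem z1 z3) z4)⟩
    obtain ⟨w, hw, k1⟩ := (F.q8 D s4).ex_anti m4 z4
    refine .inl (cl ⟨w, ?_⟩)
    rw [← conj_mul, ← conj_mul, F.toHB.conj_z (mul_mem z1 z3), k1, ← cent_fix F hn n2 ((fx k).2 hk) s4 hD w hw,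
      mul_inv_cancel_right, ← mul_assoc, mul_assoc _ t, ← F.cen, ← mul_assoc]
  · obtain ⟨w, hw, k1⟩ := (F.q8 C s3).ex_anti m3 z3
    refine .inl (cl ⟨w, ?_⟩)
    rw [← conj_mul, ← conj_mul, ← conj_mul, F.toHB.conj_z z1, k1, ← cent_fix F hn n2 ((fx k).2 hk) s3 hC w hw,
      mul_inv_cancel_right, F.cm C D s3 s4 n6 _ hw _ m4, mul_inv_cancel_right, ← mul_assoc, mul_assoc _ t, ← F.cen,
      ← mul_assoc, mul_assoc _ t, ← F.cen, ← mul_assoc]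

end CL.Ast
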