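/-
Astill's theorem, part H1 (helper17): fusion of good involutions, signalizers, elements of order three.
-/
import Cfsg.Agent.Ast.Base
import Cfsg.Agent.Grp.Coprime2
import Cfsg.Agent.Grp.Cores

set_option autoImplicit false
set_option synthInstance.maxSize 4096

namespace CL.Ast

open Subgroup Cfsg CL.Grp CL.Rec CL.Perm CL.G23 CL.McL3 CL.McL3.C27 CL.S9R Equiv
open scoped Pointwise

universe u

theorem c_h1 : (∀ a : Mo, a ≠ m1 → mm a a = m1 → ∀ k, av a (Pi.single k 1) = Pi.single k 1 →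
      ∀ b, mm a b = mm b a → b.1 * b.1 = 1) ∧
    (∀ v w : V3, v ≠ 0 → ¬ (w = 0 ∨ w = v ∨ w = -v) → ∃ i j : Fin 3, Sg (i.1 • v + j.1 • w) ∨
      ∃ k, i.1 • v + j.1 • w = Pi.single k 1) ∧
    (∀ a : Mo, mm a (mm a a) = m1 → a.1 * a.1 ≠ 1 → ∃ s, mm (mm (1, s) a) (mi (1, s)) = mr ∨
      mm (mm (1, s) (mi a)) (mi (1, s)) = mr) ∧
    ∀ v : V3, av mr v + av mr (av mr v) + v = 0 → ∃ u, v = av (mi mr) u + -u := by
  refine ⟨?_, ?_, ?_, ?_⟩ <;> decide +kernel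

variable {G : Type*} [Group G] [Finite G] {t : G} {X : Subgroup G} {e : Fin 3 → G} {q : G} {g u : G}

namespace HB

variable (F : HB t X e q)
include F

theorem memN_of_long {k : Fin 3} (h : g * e k * g⁻¹ ∈ X) : g ∈ normalizer (X : Set G) := by
  have M := F.toMn
  obtain ⟨v, hv⟩ := M.exm h
  obtain ⟨a, ha, rfl⟩ := M.conj_v (v := Pi.single k 1) (w := v) (isConj_iff.2 ⟨g, by rw [mon_single, hv]⟩)
  exact M.mem_of_conj (M.xm k) (hv ▸ M.cent_av ha (by rw [mon_single]; exact F.long k))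

theorem good_syl (hu : Good t X e u) : IsSylowIn 3 (X ⊓ centralizer {u}) (centralizer {u}) := by
  have M := F.toMn
  obtain ⟨h1, h2, h3, k, h4⟩ := hu
  refine M.cls3 fun n hn hN j hj => ?_
  have nN : n ∈ normalizer (X : Set G) :=
    F.memN_of_long ((mem_normalizer_iff.1 hN (e k)).1 ⟨M.xm k, mc.2 h4.symm⟩).1
  obtain ⟨a, ha⟩ := M.mono u h1
  obtain ⟨b, hb⟩ := M.mono n nN
  refine M.mem3 hb (c_h1.1 a (fun k => h3 (F.z_of_sq ((M.C_iff ha).2 k) (h2 ▸ one_mem _)))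
    (M.uniq (ha.mul ha) (h2 ▸ M.actJ (one_mem _))) k ((M.fix ha).1 (by rw [mon_single, h4])) b
    (M.uniq (ha.mul hb) (hn ▸ hb.mul ha))) (k := j) (hj ▸ one_mem _)

theorem good_fus {u' : G} (hu : Good t X e u) (hu' : Good t X e u') (h : g * u * g⁻¹ = u') :
    ∃ n ∈ normalizer (X : Set G), n * u * n⁻¹ = u' := by
  have := Fact.mk Nat.prime_three
  have M := F.toMn
  obtain ⟨c, hc, k⟩ := (F.good_syl hu').exists_conj_le (U := MulAut.conj g • (X ⊓ centralizer {u}))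
    ((F.good_syl hu).isPGroup.conj_smul g) fun b hb => mc.2 (by
      rw [show b = g * (g⁻¹ * b * g) * g⁻¹ by group, ← h, conj_mul, conj_mul, mc.1 ((mem_conj_smul_iff _ _ _).1 hb).2])
  obtain ⟨-, -, -, i, h4⟩ := hu
  refine ⟨c * g, F.memN_of_long (k := i) ?_, ?_⟩
  · simpa [mul_assoc] using (k (conj_mem_conj_smul c (conj_mem_conj_smul g (x := e i) ⟨M.xm i, mc.2 h4.symm⟩))).1
  · calc _ = c * (g * u * g⁻¹) * c⁻¹ := by group
      _ = _ := by rw [h, mc.1 hc]; group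

omit [Finite G] in
theorem conj_q (h3 : g ^ 3 = 1) (h : Act e g mr) : IsConj q g := by
  have M := F.toMn
  have key : ∀ v, (q * mon e v) ^ 3 = mon e (av mr v + av mr (av mr v) + v) := fun v => by
    rw [M.add, M.add, ← M.app F.ar, ← M.app F.ar, ← M.app F.ar]
    calc _ = q * mon e v * q⁻¹ * (q * (q * mon e v * q⁻¹) * q⁻¹) * (q ^ 3 * mon e v) := by rw [pow_three, pow_three]; group
      _ = _ := by rw [F.q3, one_mul]
  obtain ⟨x, hx, k | k⟩ := F.C_cases (M.memC h F.ar) <;> obtain ⟨v, rfl⟩ := M.exm hx <;>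
    rw [inv_mul_eq_iff_eq_mul] at k <;> subst k
  · obtain ⟨u, rfl⟩ := c_h1.2.2.2 v (M.one_iff.1 (key v ▸ h3))
    refine isConj_iff.2 ⟨mon e u, ?_⟩
    rw [M.add, M.neg, ← M.app F.ar.inv]; group
  · rw [← mul_assoc, (show Commute _ t from F.cen _).mul_pow, key, pow_three' t, F.t2, one_mul] at h3
    exact absurd (F.X_z (eq_inv_of_mul_eq_one_right h3 ▸ inv_mem (M.mJ _)) (mem_zpowers t)) F.t1

theorem cls_three (h3 : g ^ 3 = 1) : (∃ k, k * g * k⁻¹ ∈ X) ∨ IsConj q g ∨ IsConj q⁻¹ g := by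
  have M := F.toMn
  obtain ⟨c, hc⟩ := M.conj3 (g := g) (k := 1) (by simpa using h3)
  obtain ⟨a, ha⟩ := M.mono _ hc
  have c3 : (c * g * c⁻¹) ^ 3 = 1 := by rw [conj_pow, h3]; group
  by_cases h2 : a.1 * a.1 = 1
  · exact .inl ⟨c, M.mem3 ha h2 (k := 1) (by simp [c3])⟩
  obtain ⟨s, hs⟩ := c_h1.2.2.1 a (M.uniq (ha.mul (ha.mul ha)) (by rw [← pow_three, c3]; exact M.actJ (one_mem _))) h2
  obtain ⟨d, hd⟩ := F.diag s
  rcases hs with k | k
  · refine .inr (.inl ((F.conj_q (by rw [conj_pow, c3]; group) (k ▸ (hd.mul ha).mul hd.inv)).trans ?_))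
    exact isConj_iff.2 ⟨(d * c)⁻¹, by group⟩
  · obtain ⟨y, hy⟩ := isConj_iff.1 (F.conj_q (by rw [conj_pow, inv_pow, c3]; group) (k ▸ (hd.mul ha.inv).mul hd.inv))
    refine .inr (.inr (isConj_iff.2 ⟨(d * c)⁻¹ * y, ?_⟩))
    calc _ = (d * c)⁻¹ * (y * q * y⁻¹)⁻¹ * (d * c) := by group
      _ = _ := by rw [hy]; group

omit [Finite G] in
/-- a cocyclic subgroup of `X` contains a long or a singular vector -/
theorem cocyc {B : Subgroup G} (hB : B ≤ X) {a : G} (ha : a ∈ X) (h : B ⊔ zpowers a = X) :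
    (∃ w, Sg w ∧ mon e w ∈ B) ∨ ∃ k, e k ∈ B := by
  have M := F.toMn
  by_contra hn
  obtain ⟨x, hx, k⟩ : ∃ x ∈ X, B ≤ zpowers x := by
    by_cases h0 : B = ⊥
    · exact ⟨1, one_mem _, h0 ▸ bot_le⟩
    obtain ⟨⟨x, hx⟩, x1⟩ := ne_bot_iff_exists_ne_one.1 h0
    obtain ⟨v, rfl⟩ := M.exm (hB hx)
    have v0 : v ≠ 0 := fun k => x1 (Subtype.ext (M.one_iff.2 k))
    refine ⟨_, hB hx, fun y hy => ?_⟩
    obtain ⟨w, rfl⟩ := M.exm (hB hy)
    by_contra hw
    obtain ⟨i, j, k⟩ := c_h1.2.1 v w v0 (mt (M.mzp v0).2 hw)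
    have m : mon e (i.1 • v + j.1 • w) ∈ B := by rw [M.add, M.smul, M.smul]; exact mul_mem (pow_mem hx _) (pow_mem hy _)
    rcases k with k | ⟨l, k⟩
    exacts [hn (.inl ⟨_, k, m⟩), hn (.inr ⟨l, by rwa [k, mon_single] at m⟩)]
  have e1 : X = zpowers x ⊔ zpowers a := le_antisymm (h ▸ sup_le_sup_right k _)
    (sup_le ((zpowers_le ..).2 hx) ((zpowers_le ..).2 ha))
  have d := card_sup_dvd (H := zpowers x) (K := zpowers a) ((zpowers_le ..).2 (centralizer_le_normalizer _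
    fun y hy => cm_of_mem hy (M.comm x hx a ha).eq |>.symm))
  rw [← e1, M.card, Nat.card_zpowers, Nat.card_zpowers] at d
  exact absurd (d.trans (mul_dvd_mul (orderOf_dvd_of_pow_eq_one (M.cube x hx)) (orderOf_dvd_of_pow_eq_one (M.cube a ha))))
    (by decide)

end HB

theorem HS.gen_K {P : V3 → Subgroup G} (F : HS t X e q P) (K M : Subgroup G) (hK : (Nat.card K).Coprime 3)
    (hX : X ≤ normalizer (K : Set G)) (ht : t ∈ M) (hP : ∀ w, Sg w → ∀ p ∈ K, p ∈ P w → p ∈ M) : K ≤ M := by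
  have N := F.toMn
  have : IsMulCommutative X := ⟨⟨fun a b => Subtype.ext (N.comm a a.2 b b.2)⟩⟩
  refine le_of_forall_cocyclic_centralizer_le hX (by rw [N.card]; exact (hK.pow_right 3).symm) ?_
  rintro B hB ⟨a, ha, h⟩ k ⟨hk, kc⟩
  rcases F.toHB.cocyc hB ha h with ⟨w, hw, m⟩ | ⟨i, m⟩
  · have c : k * mon e w = mon e w * k := (kc _ m).symm
    obtain ⟨p, hp, n, hn, e1⟩ := F.cz w k hw c
    have nz : ∀ g, g * mon e w = mon e w * g → g ∈ normalizer (P w : Set G) := fun g hg =>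
      F.nz w g hw (by rw [hg, mul_inv_cancel_right]; exact mem_zpowers _)
    have c2 : (Nat.card (K ⊓ centralizer {mon e w} ⊔ P w : Subgroup G)).Coprime 3 := by
      refine .of_dvd_left (card_sup_dvd fun g hg => nz g (mc.1 hg.2)) (Nat.Coprime.mul_left
        (hK.of_dvd_left (card_dvd_of_le inf_le_left)) ?_)
      rw [(F.q8 w hw).card]; decide
    have n2 : X ≤ normalizer ((K ⊓ centralizer {mon e w} ⊔ P w : Subgroup G) : Set G) := fun x hx =>
      normalizer_inf_normalizer_le_normalizer_sup _ _ ⟨inf_normalizer_le_normalizer_inf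
        ⟨hX hx, le_normalizer (N.Jc (N.mJ w) hx)⟩, nz x (N.comm x hx _ (N.mJ w))⟩
    have := F.toHB.s1 c2 n2 (g := n) (by
      rw [show n = p⁻¹ * k by rw [e1]; group]
      exact mul_mem (mem_sup_right (inv_mem hp)) (mem_sup_left ⟨hk, mc.2 c⟩)) hn
    exact hP w hw k hk (e1 ▸ mul_mem hp ((F.q8 w hw).zp_le this))
  · exact (zpowers_le ..).2 ht (F.toHB.s1 hK hX hk (F.long i (mc.2 (kc _ m).symm)))

theorem h1Thm : H1Thm.{u} := fun F =>
  ⟨F, fun _ _ _ hu hu' h => F.toHB.good_fus hu hu' h, F.gen_K, fun _ h => F.toHB.cls_three h⟩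

end CL.Ast
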