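/-
Astill's theorem: the four quaternion groups commute.
-/
import Cfsg.Agent.Ast.Base

set_option autoImplicit false
set_option synthInstance.maxSize 4096
set_option linter.unusedSectionVars false

namespace CL.Ast

open Subgroup Cfsg CL.Grp CL.Rec CL.Perm CL.G23 CL.McL3 CL.McL3.C27 CL.S9R CL.Transfer Equiv
open scoped Pointwise

universe u

namespace H2

variable {G : Type*} [Group G] {t : G} {X : Subgroup G} {e : Fin 3 → G} {q : G}

/-- `u` acts trivially on `P` modulo `t` -/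
def Tr (t : G) (P : Subgroup G) (u : G) : Prop := ∀ p ∈ P, u * p * u⁻¹ * p⁻¹ ∈ zpowers t

theorem dec2 : ∀ x w : QuaternionGroup 2, (∀ a b, q8Fun x w (a * b) = q8Fun x w a * q8Fun x w b) →
    (∀ a, q8Fun x w (q8Fun x w a) = a) → (∀ b, q8Fun x w b * b⁻¹ = 1 ∨ q8Fun x w b * b⁻¹ = .a 2) ∨
      (∀ p, p * q8Fun x w p ≠ .a 2) ∧ ∀ y v : QuaternionGroup 2, (∀ a, q8Fun y v (q8Fun y v (q8Fun y v a)) = a) →
      (∀ a, q8Fun y v a * a⁻¹ = 1 ∨ q8Fun y v a * a⁻¹ = .a 2 → a = 1 ∨ a = .a 2) →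
      (∀ a b, q8Fun y v (a * b) = q8Fun y v a * q8Fun y v b) →
      ∀ b, q8Fun x w (q8Fun y v (q8Fun x w (q8Fun y v b))) * b⁻¹ = 1 ∨
        q8Fun x w (q8Fun y v (q8Fun x w (q8Fun y v b))) * b⁻¹ = .a 2 := by
  decide +kernel

theorem q8u {P : Subgroup G} (h : Q8 t P) {u : G} (hu : u ∈ normalizer (P : Set G))
    (h2 : ∀ p ∈ P, u * u * p = p * (u * u)) (h3 : ¬ Tr t P u) : (∀ p ∈ P, p * (u * p * u⁻¹) ≠ t) ∧
      ∀ x ∈ normalizer (P : Set G), x ^ 3 = 1 → (∀ p ∈ P, x * p * x⁻¹ * p⁻¹ ∈ zpowers t → p ∈ zpowers t) →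
        Tr t P (u * x * u * x) := by
  obtain ⟨f, fi, fm, ft, k⟩ := h.model
  obtain ⟨a, b, k1, k2⟩ := k u hu
  have z := Q8.tr_fp fi ft h.t2
  obtain ⟨d1, d2⟩ := (dec2 a b k1 fun a => fi (by
    rw [← k2, ← k2]
    calc _ = u * u * f a * (u * u)⁻¹ := by group
      _ = _ := by rw [h2 _ ((fm _).2 ⟨a, rfl⟩), mul_inv_cancel_right])).resolve_left fun d => h3 fun p hp => by
    obtain ⟨c, rfl⟩ := (fm p).1 hp
    rw [k2, ← map_inv, ← map_mul]
    exact (z _).2 (d c)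
  refine ⟨fun p hp e => ?_, fun x hx x3 hf p hp => ?_⟩
  · obtain ⟨c, rfl⟩ := (fm p).1 hp
    exact d1 c (fi (by rw [map_mul, ← k2, e, ft]))
  · obtain ⟨y, v, k3, k4⟩ := k x hx
    obtain ⟨c, rfl⟩ := (fm p).1 hp
    have := (z _).2 (d2 y v (fun a => fi (by
      rw [← k4, ← k4, ← k4]
      calc _ = x ^ 3 * f a * (x ^ 3)⁻¹ := by simp only [pow_three, mul_inv_rev, mul_assoc]
        _ = _ := by rw [x3]; simp)) (fun a ha => (z _).1 (hf _ ((fm _).2 ⟨a, rfl⟩) (by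
      rw [k4, ← map_inv, ← map_mul]; exact (z _).2 ha))) k3 c)
    rw [map_mul, map_inv, ← k2, ← k4, ← k2, ← k4] at this
    simpa only [mul_inv_rev, mul_assoc] using this

/-- the long root orthogonal to `w1` and `w2` -/
def mu : V3 := ![1, 2, 0]

theorem dec3 : (∀ a : Mo, av a mu = mu → a.1 * a.1 = 1 ∧ (av a w1 = w1 → a = m1) ∧
      (av a w1 = -w1 → dot (av a (Pi.single 2 1) + -Pi.single 2 1) w1 ≠ 0)) ∧
    (∀ w, Sg w → dot w w1 = 0 → w = w1 ∨ w = -w1) ∧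
    (∀ v, dot v w1 = 0 ∨ dot (v + w2) w1 = 0 ∨ dot (v + -w2) w1 = 0) ∧
    ∀ v w, Sg v → Sg w → Nq v w → ∃ p ∈ [m1, mr, mm mr mr], ∃ s, av (mm (1, s) p) w1 = v ∧
      (av (mm (1, s) p) w2 = w ∨ av (mm (1, s) p) w2 = -w) := by decide +kernel

variable {P : V3 → Subgroup G} (F : HS1 t X e q P)

/-- the elements of `C(m)` that act trivially on `P w1` modulo `t` -/
def Ca : Subgroup G where
  carrier := {g | g ∈ centralizer {mon e mu} ∧ Tr t (P w1) g}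
  one_mem' := ⟨one_mem _, fun p _ => by simp⟩
  mul_mem' {g h} a b := ⟨mul_mem a.1 b.1, fun p hp => by
    have := mul_mem ((F.toHB.conj_z_iff (h := g)).2 (b.2 p hp)) (a.2 p hp)
    simpa [mul_assoc] using this⟩
  inv_mem' {g} a := ⟨inv_mem a.1, fun p hp => by
    have := (F.toHB.conj_z_iff (h := g⁻¹)).2 (inv_mem (a.2 p hp))
    simpa [mul_assoc] using this⟩

variable [Finite G] {g n : G} {v w : V3}
include F

theorem XN (hw : Sg w) : X ≤ normalizer (P w : Set G) := fun x hx =>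
  F.nz w x hw (by rw [(F.comm x hx _ (F.toMn.mJ w)).eq, mul_inv_cancel_right]; exact mem_zpowers _)

theorem PG (hw : Sg w) (h : dot mu w = 0) : P w ≤ centralizer {mon e mu} := fun p hp => mc.2 (F.cP _ _ hw h p hp).symm

theorem P1C : P w1 ≤ Ca F := fun p hp =>
  ⟨PG F (by decide) (by decide) hp, fun _ h => (F.q8 w1 (by decide)).cm hp h⟩

theorem CaN (h : g ∈ Ca F) : g ∈ normalizer (P w1 : Set G) := mem_normalizer_fintype fun p hp => by
  simpa using mul_mem ((F.q8 w1 (by decide)).zp_le (h.2 p hp)) hp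

theorem cjC (h1 : n ∈ centralizer {mon e mu}) (h2 : n ∈ normalizer (P w1 : Set G)) (h : g ∈ Ca F) :
    n * g * n⁻¹ ∈ Ca F := ⟨mul_mem (mul_mem h1 h.1) (inv_mem h1), fun p hp => by
  have := (F.toHB.conj_z_iff (h := n)).2 (h.2 _ ((mem_normalizer_iff''.1 h2 p).1 hp))
  simpa [mul_assoc] using this⟩

theorem XC : mon e v ∈ Ca F ↔ dot v w1 = 0 := ⟨fun h => by_contra fun k => by
  obtain ⟨b, hb, b1⟩ := (F.q8 w1 (by decide)).ex_out
  exact b1 (F.fp v w1 (by decide) k b hb (h.2 b hb)), fun h => ⟨F.toMn.Jc (F.toMn.mJ _) (F.toMn.mJ _), fun p hp => by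
  rw [F.cP v w1 (by decide) h p hp]; simp⟩⟩

theorem YP (h : g ∈ X ⊓ Ca F) {p : G} (hp : p ∈ P w1) : Commute g p := by
  obtain ⟨v, rfl⟩ := F.toMn.exm h.1
  exact F.cP v w1 (by decide) ((XC F).1 h.2) p hp

theorem key (h : n ∈ Ca F) (hw : w = w1 ∨ w = -w1) (e1 : n * mon e w1 * n⁻¹ = mon e w) :
    ∃ p ∈ P w1, ∃ y ∈ X ⊓ Ca F, n = p * y := by
  have M := F.toMn
  have s1 : Sg w1 := by decide
  obtain ⟨p, hp, n', hn, rfl⟩ : ∃ p ∈ P w1, ∃ n' ∈ normalizer (X : Set G), n = p * n' := by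
    rcases hw with rfl | rfl
    · exact F.cz w1 n s1 (mul_inv_eq_iff_eq_mul.1 e1)
    · obtain ⟨i, hi⟩ := F.diag ![-1, -1, -1]
      obtain ⟨p, hp, k, hk, e2⟩ := F.cz w1 (i * n) s1 (mul_inv_eq_iff_eq_mul.1 (by
        rw [show i * n * mon e w1 * (i * n)⁻¹ = i * (n * mon e w1 * n⁻¹) * i⁻¹ by group, e1, M.app hi]
        exact congrArg _ (by decide)))
      have := F.cjP w1 hi.inv s1 p hp
      rw [show av (mi (1, ![-1, -1, -1])) w1 = -w1 by decide, F.negP _ s1] at this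
      exact ⟨_, this, i⁻¹ * k, mul_mem (inv_mem (M.memH hi)) hk, by rw [eq_inv_mul_of_mul_eq e2]; group⟩
  have h1 := (mul_mem_cancel_left (P1C F hp)).1 h
  obtain ⟨a, ha⟩ := M.mono n' hn
  obtain ⟨-, d1, d2⟩ := dec3.1 a ((M.fix ha).1 (mc.1 h1.1))
  have e2 : av a w1 = w := M.inj (by
    have c := F.cP w w1 s1 (by rcases hw with rfl | rfl <;> decide) p hp
    rw [← M.app ha, ← mul_right_inj p, ← c, ← e1]; group)
  rcases hw with rfl | rfl
  · obtain ⟨x, hx, rfl | rfl⟩ := F.toHB.C_cases ((M.C_iff ha).2 (d1 e2))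
    · exact ⟨p, hp, _, ⟨hx, h1⟩, rfl⟩
    · have tP := (F.q8 w1 s1).mem
      exact ⟨p * t, mul_mem hp tP, x, ⟨hx, (mul_mem_cancel_right (P1C F tP)).1 h1⟩, by rw [F.cen x, mul_assoc]⟩
  · have hx := M.mJ (Pi.single 2 1)
    refine absurd ((XC F).1 ?_) (d2 e2)
    rw [M.add, M.neg, ← M.app ha, mul_assoc, mul_assoc, ← mul_assoc (mon _ _)]
    exact mul_mem h1 (cjC F (M.Jc (M.mJ _) hx) (XN F s1 hx) (inv_mem h1))

theorem main : ∀ a ∈ P w1, ∀ b ∈ P w2, a * b = b * a := by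
  have M := F.toMn
  have B := F.toHB
  have s1 : Sg w1 := by decide
  have s2 : Sg w2 := by decide
  have Q1 := F.q8 w1 s1
  have Q2 := F.q8 w2 s2
  have XG := M.Jc (M.mJ mu)
  have z1 : mon e w1 ∈ X ⊓ Ca F := ⟨M.mJ _, (XC F).2 (by decide)⟩
  by_cases hc : ∃ p ∈ P w2, p ∈ Ca F ∧ p ∉ zpowers t
  · obtain ⟨p, hp, h1, h2⟩ := hc
    have n2 := XN F s2 z1.1
    have f2 := F.fp w1 w2 s2 (by decide)
    have h3 := cjC F (XG z1.1) (XN F s1 z1.1) h1
    have zc : ∀ {x}, x ∈ zpowers t → x ∈ Ca F := fun h => P1C F (Q1.zp_le h)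
    intro a ha b hb
    refine (mc.1 (Q2.le_of_fp n2 f2 (K := centralizer {a}) (fun b hb => mc.2 ?_) hb)).symm
    have h4 : b ∈ Ca F := by
      rcases Q2.cover hp ((mem_normalizer_iff.1 n2 p).1 hp) h2 (mt B.conj_z_iff.1 h2) (fun k => h2 (f2 p hp (by
        have := mul_mem ((B.conj_z_iff (h := p⁻¹)).2 k) (mem_zpowers t)
        rw [Q2.inv_eq hp h2]
        simpa [mul_assoc] using this))) hb with k | k | k | k
      exacts [zc k, (mul_mem_cancel_left h1).1 (zc k), (mul_mem_cancel_left h3).1 (zc k),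
        (mul_mem_cancel_left (mul_mem h1 h3)).1 (zc k)]
    have c1 := (YP F z1 ((mem_normalizer_iff''.1 (CaN F h4) a).1 ha)).inv_left.eq
    calc _ = mon e w1 * b * ((mon e w1)⁻¹ * (b⁻¹ * a * b)) * b⁻¹ := by group
      _ = mon e w1 * a * (b * (mon e w1)⁻¹ * b⁻¹) := by rw [c1]; group
      _ = _ := by rw [(YP F z1 ha).eq]; group
  exfalso
  push Not at hc
  obtain ⟨K, K1, K2, -, K3, K4⟩ := exists_compl (p := 3) (D := Ca F) inf_le_right (M.three.to_inf_left (K := Ca F))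
    (fun n hn k => by
      have h1 := (mem_normalizer_iff.1 k _).1 z1
      obtain ⟨w, hw⟩ := M.exm h1.1
      obtain ⟨a, -, rfl⟩ := M.conj_v (isConj_iff.2 ⟨n, hw.symm⟩)
      obtain ⟨p, hp, y, hy, rfl⟩ := key F hn (dec3.2.1 _ ((c_sg.1 w1 s1).2.2.2 a) ((XC F).1 (hw ▸ h1.2))) hw.symm
      exact mul_mem (fun x hx => YP F hx hp) fun x hx => M.comm x hx.1 y hy.1)
    fun n hn k j hj => by
      obtain ⟨p, hp, y, hy, rfl⟩ := key F hn (.inl rfl) (mul_inv_eq_iff_eq_mul.2 (k _ z1).symm)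
      have h1 : p ^ (3 ^ j * 3) = 1 := by
        have := congrArg (· ^ 3) hj
        simp only [← pow_mul] at this
        rwa [(YP F hy hp).symm.mul_pow, mul_comm _ 3, pow_mul y, M.cube y hy.1, one_pow, one_pow, mul_one, mul_comm] at this
      have h2 := pow_gcd_eq_one.2 ⟨h1, Q1.four hp⟩
      rw [← pow_succ, Nat.Coprime.gcd_eq_one (Nat.Coprime.pow_left _ (by norm_num)), pow_one] at h2
      rwa [h2, one_mul]
  have K5 : K ≤ P w1 := F.genK K _ K2 (fun x hx => mem_normalizer_fintype fun k hk =>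
    K3 _ (cjC F (XG hx) (XN F s1 hx) (K1 hk)) (by
      rw [show orderOf (x * k * x⁻¹) = orderOf k from (MulAut.conj x).orderOf_eq k]
      exact K2.coprime_dvd_left (K.orderOf_dvd_natCard hk))) Q1.mem fun w hw p hp hp' => by
    obtain ⟨w', h1, h2⟩ := c_sg.2.2.2.1 w hw
    have f := fun w hw h hp' => Q1.zp_le (F.fp mu w hw h p hp' (by rw [← mc.1 (K1 hp).1]; simp))
    replace hp' : p ∈ P w' := h2.elim (fun k => k ▸ hp') fun k =>
      (F.negP w' ((show ∀ w ∈ [w1, w2, w3, w4], Sg w by decide) w' h1)).le (k ▸ hp')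
    simp only [List.mem_cons, List.not_mem_nil, or_false] at h1
    rcases h1 with rfl | rfl | rfl | rfl
    exacts [hp', Q1.zp_le (hc p hp' (K1 hp)), f _ (by decide) (by decide) hp', f _ (by decide) (by decide) hp']
  have K6 : ∀ u ∈ Ca F, u ^ 4 = 1 → u ∈ P w1 := fun u hu h =>
    K5 (K3 u hu (Nat.Coprime.coprime_dvd_left (orderOf_dvd_of_pow_eq_one h) (by norm_num)))
  have G1 := PG F s1 (by decide)
  have U : ∀ u ∈ centralizer {mon e mu}, u ∈ normalizer (P w1 : Set G) → u * u = t → u ∈ P w1 := fun u h1 h2 h3 => by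
    refine K6 u ⟨h1, by_contra fun h4 => ?_⟩ (by rw [show 4 = 2 + 2 from rfl, pow_add, pow_two, h3, F.t2])
    have z2 := M.mJ w2
    have h5 : u * mon e w2 * u * mon e w2 ∈ Ca F := ⟨mul_mem (mul_mem (mul_mem h1 (XG z2)) h1) (XG z2),
      (q8u Q1 h2 (fun p _ => h3 ▸ (F.cen p).symm) h4).2 _ (XN F s1 z2) (M.cube _ z2) (F.fp w2 w1 s1 (by decide))⟩
    have cL : Ca F ≤ P w1 ⊔ X := fun d hd => by
      obtain ⟨r, hr, y, hy, rfl⟩ := K4 d hd
      exact mul_mem_sup (K5 hr) hy.1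
    have h6 : mon e w2 ∈ (P w1 ⊔ X).comap (MulAut.conj u).toMonoidHom := by
      have := mul_mem (mul_mem (cL h5) (inv_mem (mem_sup_right z2))) (inv_mem (mem_sup_left (h3 ▸ Q1.mem)))
      simpa [mul_assoc] using this
    have h7 : ∀ v, dot v w1 = 0 → mon e v ∈ (P w1 ⊔ X).comap (MulAut.conj u).toMonoidHom := fun v hv =>
      cL (cjC F h1 h2 ((XC F).2 hv))
    obtain ⟨l, hl, h8⟩ := ((isSylowIn_of_loc XG M.three fun n a b k c => by
      obtain ⟨a', ha⟩ := M.mono n b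
      exact M.mem3 ha (dec3.1 a' ((M.fix ha).1 (mc.1 a))).1 (c ▸ one_mem X)).of_le le_sup_right
      (sup_le G1 XG)).exists_conj_le (IsPGroup.conj_smul M.three u) ((conj_smul_le_iff _ _ _).2 fun x hx => by
        obtain ⟨v, rfl⟩ := M.exm hx
        rcases dec3.2.2.1 v with k | k | k
        · exact h7 v k
        · exact (mul_mem_cancel_right h6).1 (M.add _ _ ▸ h7 _ k)
        · exact (mul_mem_cancel_right (inv_mem h6)).1 (M.neg _ ▸ M.add _ _ ▸ h7 _ k))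
    rw [conj_smul_conj_smul, conj_smul_le_iff] at h8
    obtain ⟨p, hp, x, hx, e1⟩ := (CL.Odd.mem_sup_norm (XN F s1)).1 (inv_mem hl)
    have h9 : p⁻¹ * u ∈ normalizer (X : Set G) := by
      have := mul_mem (le_normalizer hx) (mem_normalizer_fintype h8)
      rwa [← inv_inv l, e1, mul_inv_rev, ← mul_assoc, mul_inv_cancel_left] at this
    have n1 := mul_mem (le_normalizer (inv_mem hp)) h2
    have n2 : p⁻¹ * u * (p⁻¹ * u) = 1 := B.sq_one h9 (B.s1 (K := P w1) (by rw [Q1.card]; norm_num) (XN F s1) (by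
      have := mul_mem (mul_mem (inv_mem hp) ((mem_normalizer_iff.1 h2 _).1 (inv_mem hp))) (h3 ▸ Q1.mem)
      simpa [mul_assoc] using this) (mul_mem h9 h9))
    refine h4 ((mul_mem_cancel_left (inv_mem (P1C F hp))).1 (⟨mul_mem (inv_mem (G1 hp)) h1, by_contra fun k =>
      (q8u Q1 n1 (fun p _ => by rw [n2, one_mul, mul_one]) k).1 p hp ?_⟩ : p⁻¹ * u ∈ Ca F)).2
    rw [inv_eq_of_mul_eq_one_right n2, ← h3]; group
  obtain ⟨T, hT, h1⟩ := exists_isSylowIn_ge Q1.two G1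
  have h2 : T ≤ normalizer (P w1 : Set G) := by_contra fun k => by
    obtain ⟨y, y1, y2, y3⟩ := CL.Inv.exists_mem_normalizer_of_lt_pgroup hT.isPGroup (inf_lt_left.2 k)
    refine y2 ⟨y1, mem_normalizer_fintype fun p hp => ?_⟩
    by_cases c : p ∈ zpowers t
    · rwa [B.conj_z c]
    · have := (mem_normalizer_iff.1 y3 p).1 ⟨h1 hp, le_normalizer hp⟩
      exact U _ (hT.le this.1) this.2 (by rw [conj_mul, Q1.sq' hp c, B.conj_z (mem_zpowers t)])
  obtain ⟨s, s2, hs⟩ := B.ex_inv (F.diag ![1, 1, -1]) (by decide)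
  have s3 : s ∉ zpowers t := fun k => absurd ((M.C_iff hs).1 (B.zC k)) (by decide)
  obtain ⟨c, -, h3⟩ := hT.exists_conj_le (pg_zp (k := 1) ((pow_two s).trans s2))
    (zpowers_le.2 (mc.2 ((M.fix hs).2 (by decide))))
  have h4 := (conj_smul_le_iff _ _ _).1 h3 s (mem_zpowers s)
  have h5 : c * s * c⁻¹ * (c * s * c⁻¹) = 1 := by rw [conj_mul, s2]; simp
  obtain ⟨p, -, h6⟩ := Q1.ex_inv (h2 h4) (fun p _ => by rw [h5, one_mul, mul_one]) (by
    by_contra! k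
    exact F.t1 ((Q1.sq' (K6 _ ⟨hT.le h4, fun p hp => by
      rw [k p hp, mul_inv_cancel_right, mul_inv_cancel]; exact one_mem _⟩ (by
      rw [show 4 = 2 + 2 from rfl, pow_add, pow_two, h5, one_mul])) (mt B.conj_z_iff.1 s3)).symm.trans h5))
  refine F.not_cl ⟨M.memH hs, s2, s3, 0, mul_inv_eq_iff_eq_mul.1 (by simpa using hs 0)⟩ ?_
  simpa [mul_assoc] using Cl.conj B (u := c * s * c⁻¹) ⟨p⁻¹, by
    rw [inv_inv, mul_assoc, mul_inv_eq_iff_eq_mul.1 h6, mul_assoc, inv_mul_cancel_left, F.cen]⟩ c⁻¹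

end H2

open H2

theorem h2Thm : H2Thm.{u} := by
  intro G _ _ t X e q P F
  refine ⟨F, fun v w hv hw h a ha b hb => ?_⟩
  obtain ⟨p, hp, s, rfl, h2⟩ := dec3.2.2.2 v w hv hw h
  obtain ⟨n, hn⟩ : Re e (mm (1, s) p) := (F.diag s).mul (by
    simp only [List.mem_cons, List.not_mem_nil, or_false] at hp
    rcases hp with rfl | rfl | rfl
    exacts [⟨1, F.toMn.actJ (one_mem X)⟩, ⟨q, F.ar⟩, ⟨_, F.ar.mul F.ar⟩])
  have k : ∀ w, Sg w → ∀ a ∈ P (av (mm (1, s) p) w), n⁻¹ * a * n⁻¹⁻¹ ∈ P w := fun w hw a ha =>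
    (c_sg.2.1 _ w).1 ▸ F.cjP _ hn.inv ((c_sg.1 w hw).2.2.2 _) a ha
  have := main F _ (k w1 (by decide) a ha) _ (k w2 (by decide) b (h2.elim (fun e => e ▸ hb) fun e =>
    e ▸ (F.negP w hw).ge hb))
  rwa [conj_mul, conj_mul, mul_left_inj, mul_right_inj] at this

end CL.Ast
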