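/-
Astill's theorem, part H3 (helper17): the extraspecial group `R` of order `2 ^ 9`.
-/
import Cfsg.Agent.Ast.Base
import Cfsg.Agent.Grp.Cores
import Cfsg.Agent.Grp.ExtraIndex

set_option autoImplicit false
set_option synthInstance.maxSize 4096

namespace CL.Ast

open Subgroup Cfsg CL.Grp CL.Rec CL.Perm CL.G23 CL.McL3 CL.McL3.C27 CL.S9R Equiv
open scoped Pointwise commutatorElement

universe u

theorem c_h3 : (∀ A : V3, Sg A → dot A A = 0 ∧ ∀ B, Sg B → Nq A B → dot A B ≠ 0 ∧ Nq B A) ∧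
    (∀ A : V3, Sg A → ∀ B, Sg B → Nq A B → ∀ C, Sg C → Nq A C → Nq B C → ∀ D, Sg D → Nq A D → Nq B D → Nq C D →
      (∃ v, dot v C = 0 ∧ dot v D = 0 ∧ dot v A ≠ 0 ∧ dot v B ≠ 0) ∧
      ∀ w, Sg w → ¬ Nq w A ∨ ¬ Nq w B ∨ ¬ Nq w C ∨ ¬ Nq w D) := by
  refine ⟨?_, ?_⟩ <;> decide +kernel

variable {G : Type*} [Group G] {t : G} {X : Subgroup G} {e : Fin 3 → G} {q : G} {P : V3 → Subgroup G}
  {A B C D : V3} {a b c d p : G}

namespace HS

variable (F : HS t X e q P)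
include F

theorem eqP (hB : Sg B) (h : ¬ Nq A B) : P A = P B := by
  rcases not_and_or.1 h with k | k <;> rw [not_not.1 k]
  exact F.negP B hB

theorem inf_z (hA : Sg A) (hB : Sg B) (h : Nq A B) (h1 : p ∈ P A) (h2 : p ∈ P B) : p ∈ zpowers t :=
  F.fp A B hB ((c_h3.1 A hA).2 B hB h).1 p h2 (by
    rw [F.cP A A hA (c_h3.1 A hA).1 p h1, mul_inv_cancel_right, mul_inv_cancel]; exact one_mem _)

theorem le_sup4 (h : Qd A B C D) {w : V3} (hw : Sg w) : P w ≤ P A ⊔ P B ⊔ P C ⊔ P D := by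
  obtain ⟨h1, h2, h3, h4, k1, k2, k3, k4, k5, k6⟩ := h
  rcases (c_h3.2 A h1 B h2 k1 C h3 k2 k4 D h4 k3 k5 k6).2 w hw with k | k | k | k
  · rw [F.eqP h1 k]; exact le_sup_of_le_left (le_sup_of_le_left le_sup_left)
  · rw [F.eqP h2 k]; exact le_sup_of_le_left (le_sup_of_le_left le_sup_right)
  · rw [F.eqP h3 k]; exact le_sup_of_le_left le_sup_right
  · rw [F.eqP h4 k]; exact le_sup_right

theorem leR {w : V3} (hw : Sg w) : P w ≤ RR P := F.le_sup4 c_sg.2.2.2.2.1 hw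

theorem nzX (hA : Sg A) {x : G} (hx : x ∈ X) : x ∈ normalizer (P A : Set G) :=
  F.nz A x hA (by rw [(F.comm x hx _ (F.toMn.mJ A)).eq, mul_inv_cancel_right]; exact mem_zpowers _)

end HS

namespace HS2

variable (F : HS2 t X e q P)
include F

theorem cenP (hA : Sg A) (hB : Sg B) (h : Nq A B) : P A ≤ centralizer (P B : Set G) :=
  fun a ha b hb => (F.cm A B hA hB h a ha b hb).symm

theorem nrm3 (h : Qd A B C D) : P B ≤ normalizer (P A : Set G) ∧ P C ≤ normalizer ((P A ⊔ P B : Subgroup G) : Set G) ∧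
    P D ≤ normalizer ((P A ⊔ P B ⊔ P C : Subgroup G) : Set G) := by
  obtain ⟨h1, h2, h3, h4, k1, k2, k3, k4, k5, k6⟩ := h
  refine ⟨?_, ?_, ?_⟩ <;> refine le_trans (le_centralizer_iff.1 ?_) (centralizer_le_normalizer _)
  exacts [F.cenP h1 h2 k1, sup_le (F.cenP h1 h3 k2) (F.cenP h2 h3 k4),
    sup_le (sup_le (F.cenP h1 h4 k3) (F.cenP h2 h4 k5)) (F.cenP h3 h4 k6)]

theorem dec' (h : Qd A B C D) {v : G} (hv : v ∈ RR P) : ∃ a ∈ P A, ∃ b ∈ P B, ∃ c ∈ P C, ∃ d ∈ P D, v = a * b * c * d := by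
  have k : RR P ≤ P A ⊔ P B ⊔ P C ⊔ P D := sup_le (sup_le (sup_le (F.toHS.le_sup4 h (by decide))
    (F.toHS.le_sup4 h (by decide))) (F.toHS.le_sup4 h (by decide))) (F.toHS.le_sup4 h (by decide))
  obtain ⟨n1, n2, n3⟩ := F.nrm3 h
  obtain ⟨y, hy, d, hd, rfl⟩ := (mem_sup_iff_of_le_normalizer n3).1 (k hv)
  obtain ⟨z, hz, c, hc, rfl⟩ := (mem_sup_iff_of_le_normalizer n2).1 hy
  obtain ⟨a, ha, b, hb, rfl⟩ := (mem_sup_iff_of_le_normalizer n1).1 hz
  exact ⟨a, ha, b, hb, c, hc, d, hd, rfl⟩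

theorem ind' (h : Qd A B C D) (ha : a ∈ P A) (hb : b ∈ P B) (hc : c ∈ P C) (hd : d ∈ P D)
    (hz : a * b * c * d ∈ zpowers t) : a ∈ zpowers t ∧ b ∈ zpowers t ∧ c ∈ zpowers t ∧ d ∈ zpowers t := by
  obtain ⟨h1, h2, h3, h4, k1, k2, k3, k4, k5, k6⟩ := h
  obtain ⟨v, v1, v2, v3, v4⟩ := (c_h3.2 A h1 B h2 k1 C h3 k2 k4 D h4 k3 k5 k6).1
  have H := F.toHB
  have xa := (mem_normalizer_iff.1 (F.toHS.nzX h1 (F.toMn.mJ v)) a).1 ha
  have xb := (mem_normalizer_iff.1 (F.toHS.nzX h2 (F.toMn.mJ v)) b).1 hb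
  have e1 := H.conj_z hz (mon e v)
  have fa := F.fp v A h1 v3 a ha
  have fb := F.fp v B h2 v4 b hb
  rw [← conj_mul, ← conj_mul, ← conj_mul, F.cP v C h3 v1 c hc, F.cP v D h4 v2 d hd, mul_inv_cancel_right,
    mul_inv_cancel_right, mul_left_inj, mul_left_inj] at e1
  generalize mon e v * a * (mon e v)⁻¹ = a' at *
  generalize mon e v * b * (mon e v)⁻¹ = b' at *
  have e2 : a⁻¹ * a' = b * b'⁻¹ := by rw [inv_mul_eq_iff_eq_mul, ← mul_assoc, ← e1, mul_inv_cancel_right]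
  have z := F.toHS.inf_z h1 h2 k1 (mul_mem (inv_mem ha) xa) (e2 ▸ mul_mem hb (inv_mem xb))
  have za := fa (by rw [← H.conj_z_iff (h := a⁻¹)]; simpa [mul_assoc] using z)
  have zb := fb (by rw [e2, ← inv_mem_iff, mul_inv_rev, inv_inv] at z; exact z)
  have zc : c * d ∈ zpowers t := by rwa [mul_assoc, mul_mem_cancel_left (mul_mem za zb)] at hz
  have zd := F.toHS.inf_z h3 h4 k6 hc ((mul_mem_cancel_right hd).1 ((F.q8 D h4).zp_le zc))
  exact ⟨za, zb, zd, (mul_mem_cancel_left zd).1 zc⟩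

theorem card' [Finite G] : Nat.card (RR P) = 512 := by
  have h := c_sg.2.2.2.2.1
  obtain ⟨n1, n2, n3⟩ := F.nrm3 h
  have s := fun w hw => (F.q8 w hw).zp_le
  have cz : Nat.card (zpowers t) = 2 := by
    rw [Nat.card_zpowers]; exact orderOf_eq_prime (by rw [pow_two, F.t2]) F.t1
  have e1 : P w2 ⊓ P w1 = zpowers t := le_antisymm (fun p hp => F.toHS.inf_z h.1 h.2.1 h.2.2.2.2.1 hp.2 hp.1)
    (le_inf (s _ h.2.1) (s _ h.1))
  have e2 : P w3 ⊓ (P w1 ⊔ P w2) = zpowers t := le_antisymm (fun p hp => by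
      obtain ⟨a, ha, b, hb, rfl⟩ := (mem_sup_iff_of_le_normalizer n1).1 hp.2
      exact (inv_mem_iff ..).1 (F.ind' h ha hb (inv_mem hp.1) (one_mem _) (by simp)).2.2.1)
    (le_inf (s _ h.2.2.1) ((s _ h.1).trans le_sup_left))
  have e3 : P w4 ⊓ (P w1 ⊔ P w2 ⊔ P w3) = zpowers t := le_antisymm (fun p hp => by
      obtain ⟨v, hv, c, hc, rfl⟩ := (mem_sup_iff_of_le_normalizer n2).1 hp.2
      obtain ⟨a, ha, b, hb, rfl⟩ := (mem_sup_iff_of_le_normalizer n1).1 hv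
      exact (inv_mem_iff ..).1 (F.ind' h ha hb hc (inv_mem hp.1) (by simp)).2.2.2)
    (le_inf (s _ h.2.2.2.1) ((s _ h.2.2.1).trans le_sup_right))
  have c1 := card_sup_mul_card_inf n1
  have c2 := card_sup_mul_card_inf n2
  have c3 := card_sup_mul_card_inf n3
  rw [e1, cz, sup_comm, (F.q8 _ h.1).card, (F.q8 _ h.2.1).card] at c1
  rw [e2, cz, sup_comm, (F.q8 _ h.2.2.1).card] at c2
  rw [e3, cz, sup_comm, (F.q8 _ h.2.2.2.1).card] at c3
  rw [RR]; omega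

theorem sq_cm : (∀ v ∈ RR P, v * v ∈ zpowers t) ∧ ∀ v ∈ RR P, ∀ w ∈ RR P, v * w * v⁻¹ * w⁻¹ ∈ zpowers t := by
  have : (zpowers t).Normal := ⟨fun n hn g => (F.toHB.conj_z hn g).symm ▸ hn⟩
  have h := c_sg.2.2.2.2.1
  set π := QuotientGroup.mk' (zpowers t)
  have k : ∀ g, π g = 1 ↔ g ∈ zpowers t := fun g => QuotientGroup.eq_one_iff g
  have c1 : ∀ {A B a b}, Sg A → Sg B → a ∈ P A → b ∈ P B → Commute (π a) (π b) := fun {A B a b} hA hB ha hb => by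
    by_cases l : Nq A B
    · exact (show Commute a b from F.cm A B hA hB l a ha b hb).map π
    · rw [F.toHS.eqP hB l] at ha
      have := (k _).2 ((F.q8 B hB).cm ha hb)
      rwa [map_mul, map_mul, map_mul, map_inv, map_inv, mul_inv_eq_one, mul_inv_eq_iff_eq_mul] at this
  have s : ∀ {A a}, Sg A → a ∈ P A → π a ^ 2 = 1 := fun {A a} hA ha => by
    rw [← map_pow, k, pow_two]; exact (F.q8 A hA).sq_mem ha
  have c2 : ∀ {v B b}, v ∈ RR P → Sg B → b ∈ P B → Commute (π v) (π b) := fun {v B r} hv hB hr => by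
    obtain ⟨a, ha, b, hb, c, hc, d, hd, rfl⟩ := F.dec' h hv
    rw [map_mul, map_mul, map_mul]
    exact (((c1 h.1 hB ha hr).mul_left (c1 h.2.1 hB hb hr)).mul_left (c1 h.2.2.1 hB hc hr)).mul_left (c1 h.2.2.2.1 hB hd hr)
  refine ⟨fun v hv => ?_, fun v hv w hw => ?_⟩
  · obtain ⟨a, ha, b, hb, c, hc, d, hd, rfl⟩ := F.dec' h hv
    have l := fun {A a} (hA : Sg A) (ha : a ∈ P A) => F.toHS.leR hA ha
    rw [← k, ← pow_two, map_pow, map_mul, (c2 (mul_mem (mul_mem (l h.1 ha) (l h.2.1 hb)) (l h.2.2.1 hc)) h.2.2.2.1 hd).mul_pow,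
      map_mul, (c2 (mul_mem (l h.1 ha) (l h.2.1 hb)) h.2.2.1 hc).mul_pow, map_mul, (c1 h.1 h.2.1 ha hb).mul_pow,
      s h.1 ha, s h.2.1 hb, s h.2.2.1 hc, s h.2.2.2.1 hd, one_mul, one_mul, one_mul]
  · obtain ⟨a, ha, b, hb, c, hc, d, hd, rfl⟩ := F.dec' h hw
    rw [← k, map_mul, map_mul, map_mul, map_inv, map_inv, mul_inv_eq_one, mul_inv_eq_iff_eq_mul, map_mul, map_mul, map_mul]
    exact (((c2 hv h.1 ha).mul_right (c2 hv h.2.1 hb)).mul_right (c2 hv h.2.2.1 hc)).mul_right (c2 hv h.2.2.2.1 hd)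

theorem cl' {v : G} (hv : v ∈ RR P) (h0 : v ∉ zpowers t) : ∃ w ∈ RR P, w * v * w⁻¹ = v * t := by
  obtain ⟨a, ha, b, hb, c, hc, d, hd, rfl⟩ := F.dec' c_sg.2.2.2.2.1 hv
  have key : ∀ W, Sg W → ∀ p ∈ P W, p ∉ zpowers t → ∃ w ∈ RR P, w * p * w⁻¹ = p * t ∧
      ∀ V, Sg V → Nq W V → ∀ r ∈ P V, w * r * w⁻¹ = r := fun W hW p hp h1 => by
    obtain ⟨w, hw, k⟩ := (F.q8 W hW).ex_anti hp h1
    exact ⟨w, F.toHS.leR hW hw, k, fun V hV l r hr => by rw [F.cm W V hW hV l w hw r hr, mul_inv_cancel_right]⟩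
  have ct : ∀ x y : G, x * t * y = x * y * t := fun x y => by rw [mul_assoc, ← F.cen, mul_assoc]
  by_cases za : a ∈ zpowers t
  · by_cases zb : b ∈ zpowers t
    · by_cases zc : c ∈ zpowers t
      · obtain ⟨w, hw, k, l⟩ := key w4 (by decide) d hd fun zd => h0 (mul_mem (mul_mem (mul_mem za zb) zc) zd)
        exact ⟨w, hw, by rw [← conj_mul, ← conj_mul, ← conj_mul, k, l w1 (by decide) (by decide) a ha,
          l w2 (by decide) (by decide) b hb, l w3 (by decide) (by decide) c hc, ← mul_assoc]⟩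
      · obtain ⟨w, hw, k, l⟩ := key w3 (by decide) c hc zc
        exact ⟨w, hw, by rw [← conj_mul, ← conj_mul, ← conj_mul, k, l w1 (by decide) (by decide) a ha,
          l w2 (by decide) (by decide) b hb, l w4 (by decide) (by decide) d hd, ← mul_assoc, ct]⟩
    · obtain ⟨w, hw, k, l⟩ := key w2 (by decide) b hb zb
      exact ⟨w, hw, by rw [← conj_mul, ← conj_mul, ← conj_mul, k, l w1 (by decide) (by decide) a ha,
        l w3 (by decide) (by decide) c hc, l w4 (by decide) (by decide) d hd, ← mul_assoc, ct, ct]⟩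
  · obtain ⟨w, hw, k, l⟩ := key w1 (by decide) a ha za
    exact ⟨w, hw, by rw [← conj_mul, ← conj_mul, ← conj_mul, k, l w2 (by decide) (by decide) b hb,
      l w3 (by decide) (by decide) c hc, l w4 (by decide) (by decide) d hd, ct, ct, ct]⟩

theorem extra' [Finite G] : IsExtraspecial 2 (RR P) := by
  have H := F.toHB
  have zc : zpowers t ≤ centralizer (RR P : Set G) := fun g hg x _ => (H.cz hg x).symm
  have nc : ∀ v ∈ RR P, v ∉ zpowers t → ¬ ∀ w ∈ RR P, w * v = v * w := fun v hv h0 k => by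
    obtain ⟨w, hw, l⟩ := F.cl' hv h0
    rw [k w hw, mul_inv_cancel_right, left_eq_mul] at l
    exact F.t1 l
  refine isExtraspecial_subgroup_of (.of_card (n := 9) F.card') ?_
    (commutator_le.2 fun v hv w hw => zc (F.sq_cm.2 v hv w hw)) fun k => ?_
  · rw [show RR P ⊓ centralizer (RR P : Set G) = zpowers t from le_antisymm
      (fun v hv => by_contra fun h0 => nc v hv.1 h0 hv.2)
      (le_inf (((F.q8 w1 (by decide)).zp_le).trans (F.toHS.leR (by decide))) zc), Nat.card_zpowers]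
    exact orderOf_eq_prime (by rw [pow_two, F.t2]) F.t1
  · obtain ⟨b, hb, h0⟩ := (F.q8 w1 (by decide)).ex_out
    have hb' := F.toHS.leR (by decide) hb
    exact nc b hb' h0 fun w hw => congrArg Subtype.val (k.is_comm.comm ⟨w, hw⟩ ⟨b, hb'⟩)

theorem nR' [Finite G] : normalizer (X : Set G) ≤ normalizer (RR P : Set G) := fun n hn => by
  obtain ⟨m, hm⟩ := F.mono n hn
  have h := c_sg.2.2.2.2.1
  have l : ∀ {A a}, Sg A → a ∈ P A → n * a * n⁻¹ ∈ RR P := fun {A a} hA ha =>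
    F.toHS.leR ((c_sg.1 A hA).2.2.2 m) (F.cjP A hm hA a ha)
  refine mem_normalizer_fintype fun v hv => ?_
  obtain ⟨a, ha, b, hb, c, hc, d, hd, rfl⟩ := F.dec' h hv
  rw [← conj_mul, ← conj_mul, ← conj_mul]
  exact mul_mem (mul_mem (mul_mem (l h.1 ha) (l h.2.1 hb)) (l h.2.2.1 hc)) (l h.2.2.2.1 hd)

end HS2

theorem h3Thm : H3Thm.{u} := fun F =>
  ⟨F, fun h _ hv => F.dec' h hv, fun h _ ha _ hb _ hc _ hd => F.ind' h ha hb hc hd, fun _ hw => F.toHS.leR hw, F.card',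
    F.extra', F.nR', fun _ hv hn => F.toHB.s1 (by rw [F.card']; decide) (le_normalizer.trans F.nR') hv hn,
    F.sq_cm.1, F.sq_cm.2, fun _ => F.cl'⟩

end CL.Ast
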