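/-
Astill's theorem (helper35): `N(R) = R N(X)`.
-/
import Cfsg.Agent.Ast.Base
import Cfsg.Agent.Loc.PGen

set_option autoImplicit false
set_option synthInstance.maxSize 4096

namespace CL.Ast

open Subgroup Cfsg CL.Grp CL.Rec CL.Perm CL.G23 CL.McL3 CL.McL3.C27 CL.S9R Equiv
open scoped Pointwise

universe u

namespace H4J

variable {G L Q : Type*} [Group G] [Group L] [Group Q]

theorem act_map (f : L →* Q) {x : Fin 3 → L} {g : L} {a : Mo} (h : Act x g a) : Act (fun i => f (x i)) (f g) a :=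
  fun i => by rw [← map_inv, ← map_mul, ← map_mul, h i, map_zpow]

theorem mon_map (f : L →* Q) (x : Fin 3 → L) (v : V3) : mon (fun i => f (x i)) v = f (mon x v) := by simp [mon]

variable {t : G} {X : Subgroup G} {e : Fin 3 → G} {q : G} {P : V3 → Subgroup G}

/-- The hypotheses of the normality lemma hold in `N(R) / R`. -/
theorem sy [Finite G] (F : HS3 t X e q P) {L : Subgroup G} (hN : normalizer (X : Set G) ≤ L) (hR : RR P ≤ L) (π : L →* Q)
    (hs : Function.Surjective π) (hk : π.ker = (RR P).subgroupOf L) :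
    Sy ((X.subgroupOf L).map π) (fun i => π ⟨e i, hN (le_normalizer (F.toMn.xm i))⟩) (π ⟨q, hN (F.toMn.memH F.ar)⟩) := by
  have := Fact.mk Nat.prime_three
  have M := F.toMn
  have hX : X ≤ L := le_normalizer.trans hN
  have ck : Nat.card π.ker = 512 := by rw [hk, Nat.card_congr (subgroupOfEquivOfLe hR).toEquiv, F.cardR]
  have co : (Nat.card π.ker).Coprime 3 := by rw [ck]; norm_num
  have cX : Nat.card (X.subgroupOf L) = 27 := by rw [Nat.card_congr (subgroupOfEquivOfLe hX).toEquiv, F.card]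
  have X3 : IsPGroup 3 (X.subgroupOf L) := .of_card (n := 3) cX
  have one : ∀ g : L, (g : G) ∈ RR P → π g = 1 := fun g hg => (hk.ge hg : g ∈ π.ker)
  have act : ∀ (g : L) a, Act e g a → Act (fun i => π ⟨e i, hX (M.xm i)⟩) (π g) a := fun g a h =>
    act_map π (x := fun i => ⟨e i, hX (M.xm i)⟩) fun i => Subtype.ext (by simpa using h i)
  have nrm : ∀ g : L, (g : G) ∈ normalizer (X : Set G) ↔ g ∈ normalizer (X.subgroupOf L : Set L) := fun g => by
    rw [← subgroupOf_normalizer_eq hX, mem_subgroupOf]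
  have cent : centralizer (((X.subgroupOf L).map π : Subgroup Q) : Set Q) ≤ (X.subgroupOf L).map π := fun g hg => by
    obtain ⟨g, rfl⟩ := hs g
    obtain ⟨n, h1, h2⟩ := CL.Loc.exists_cent_of_map co X3 hg
    rw [← h2]
    rcases F.cent n fun x hx => congrArg Subtype.val (h1 ⟨x, hX hx⟩ hx) with k | k
    · exact ⟨n, k, rfl⟩
    · exact ⟨n * ⟨t, hR F.tR⟩, k, by rw [map_mul, one ⟨t, _⟩ F.tR, mul_one]⟩
  refine ⟨⟨?_, ?_, ?_, ?_, fun g hg _ _ => cent hg, fun g hg => ?_⟩, cent, fun s => ?_, act _ _ F.ar, ?_, fun g hg => ?_,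
    fun g hg => ?_, fun K h1 h2 => ?_⟩
  · have := card_eq_card_inf_ker_mul_card_map π (X.subgroupOf L)
    rw [cX, inf_comm, CL.Loc.inf_eq_bot_of_isPGroup X3 co, card_bot, one_mul] at this
    exact this.symm
  · have : X.subgroupOf L = closure (Set.range fun i => (⟨e i, hX (M.xm i)⟩ : L)) := map_injective L.subtype_injective (by
      rw [map_subgroupOf_eq_of_le hX, MonoidHom.map_closure, ← Set.range_comp]; exact F.gen)
    rw [this, MonoidHom.map_closure, ← Set.range_comp]; rfl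
  · rintro _ ⟨a, ha, rfl⟩
    rw [← map_pow, show a ^ 3 = 1 from Subtype.ext (F.cube a ha), map_one]
  · rintro _ ⟨a, ha, rfl⟩ _ ⟨b, hb, rfl⟩
    exact (show Commute a b from Subtype.ext (F.comm a ha b hb).eq).map π
  · obtain ⟨g, rfl⟩ := hs g
    obtain ⟨n, h1, h2⟩ := CL.Loc.exists_norm_of_map co X3 hg
    exact h2 ▸ (F.mono n ((nrm n).2 h1)).imp (act n)
  · obtain ⟨g, hg⟩ := F.diag s
    exact ⟨_, act ⟨g, hN (M.memH hg)⟩ _ hg⟩
  · rw [← map_pow, show (⟨q, _⟩ : L) ^ 3 = 1 from Subtype.ext F.q3, map_one]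
  · obtain ⟨g, rfl⟩ := hs g
    obtain ⟨x, hx, k⟩ := hg
    rw [← map_inv, ← map_mul, ← map_mul, eq_comm, ← inv_mul_eq_one, ← map_inv, ← map_mul, ← MonoidHom.mem_ker, hk] at k
    have hS : IsSylowIn 3 X (X ⊔ RR P) := ⟨le_sup_left, M.three, fun d => by
      have := d.trans (CL.Loc.relIndex_sup_dvd_card (le_normalizer.trans F.nR))
      rw [F.cardR] at this
      omega⟩
    obtain ⟨h, -, l⟩ := hS.exists_conj_le (U := zpowers (g * q * (g : G)⁻¹)) (CL.Even.isPGroup_zpowers (k := 1)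
      (by rw [pow_one, conj_pow, F.q3]; simp)) (zpowers_le.2 (inv_mem_iff.1 ((mul_mem_cancel_right
        (mem_sup_left (show (x : G) ∈ X from hx))).1 (mem_sup_right (show (g * q * (g : G)⁻¹)⁻¹ * x ∈ RR P from k)))))
    exact F.nq (h * g) (by simpa only [mul_inv_rev, mul_assoc] using l (conj_mem_conj_smul h (mem_zpowers _)))
  · have e1 : mon e 1 = (mon (fun i => (⟨e i, hX (M.xm i)⟩ : L)) 1 : L) :=
      mon_map L.subtype (fun i => (⟨e i, hX (M.xm i)⟩ : L)) 1
    rw [mon_map π, ← CL.Loc.map_cent_singleton_of_coprime (p := 3) (k := 1) hs co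
      (Subtype.ext (by rw [Subgroup.coe_pow, ← e1]; exact F.cube _ (M.mJ 1)))] at hg
    obtain ⟨c, hc, rfl⟩ := hg
    obtain ⟨p, hp, n, hn, k⟩ := F.cz 1 c (by decide)
      (e1 ▸ congrArg Subtype.val (mem_centralizer_singleton_iff.1 hc))
    have hp' := F.PR 1 (by decide) hp
    rw [show c = ⟨p, hR hp'⟩ * ⟨n, hN hn⟩ from Subtype.ext k, map_mul, one ⟨p, _⟩ hp', one_mul]
    exact le_normalizer_map π ⟨_, (nrm ⟨n, _⟩).1 hn, rfl⟩
  · have := F.genK ((K.comap π).map L.subtype) (RR P) (by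
      rw [card_map_of_injective L.subtype_injective, card_comap_of_surjective hs]
      exact Nat.Coprime.mul_left co h1) (fun x hx => le_normalizer_map L.subtype
        ⟨⟨x, hX hx⟩, le_normalizer_comap π (h2 ⟨_, hx, rfl⟩), rfl⟩) F.tR fun w hw p _ hp => F.PR w hw hp
    refine eq_bot_iff.2 fun k hk => ?_
    obtain ⟨k, rfl⟩ := hs k
    exact one k (this ⟨k, hk, rfl⟩)

end H4J

theorem h4Thm (m : M27Thm.{u}) : H4Thm.{u} := by
  intro G _ _ t X e q P F
  have := Fact.mk Nat.prime_three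
  refine ⟨F, fun g hg => ?_⟩
  have hX : X ≤ normalizer (RR P : Set G) := le_normalizer.trans F.nR
  let π := QuotientGroup.mk' ((RR P).subgroupOf (normalizer (RR P : Set G)))
  have hk : π.ker = _ := QuotientGroup.ker_mk' _
  have := m (H4J.sy F F.nR le_normalizer π (QuotientGroup.mk'_surjective _) hk)
  obtain ⟨n, h1, h2⟩ := CL.Loc.exists_norm_of_map (p := 3) (f := π) (R := X.subgroupOf _) (g := ⟨g, hg⟩) (by
    rw [hk, Nat.card_congr (subgroupOfEquivOfLe le_normalizer).toEquiv, F.cardR]; norm_num)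
    F.toMn.three.comap_subtype ((normalizer_eq_top _).ge (mem_top _))
  rw [← subgroupOf_normalizer_eq hX, mem_subgroupOf] at h1
  obtain ⟨a, ha⟩ := F.mono n h1
  rw [eq_comm, ← mul_inv_eq_one, ← map_inv, ← map_mul, ← MonoidHom.mem_ker, hk] at h2
  exact ⟨a, g * (n : G)⁻¹, h2, n, h1, ha, by simp⟩

end CL.Ast
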