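/-
Astill's theorem: the normalizer of `R` has odd index.
-/
import Cfsg.Agent.Ast.Base

set_option autoImplicit false
set_option synthInstance.maxSize 4096

namespace CL.Ast

open Subgroup Cfsg CL.Grp CL.Rec CL.Perm CL.G23 CL.McL3 CL.McL3.C27 CL.S9R Equiv
open scoped Pointwise

universe u

variable {G : Type*} [Group G] {t : G} {X : Subgroup G} {e : Fin 3 → G} {q : G} {g h n s y : G} {a b : Mo} {v w : V3}
  {P : V3 → Subgroup G}

theorem c_h5 : (∀ a : Mo, a.1 = 1 → a = m1 ∨ a = mι ∨ a ≠ m1 ∧ ∃ k, av a (Pi.single k 1) = Pi.single k 1) ∧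
    (∀ a : Mo, mm a a = m1 → a.1 = 1 ∨ ∃ s ∈ [((1, ![-1, 1, 1]) : Mo), (1, ![1, -1, 1])],
      (mm (mm (mm s a) (mi s)) (mi a)).1 = 1 ∧ mm (mm (mm s a) (mi s)) (mi a) ≠ m1 ∧ mm (mm (mm s a) (mi s)) (mi a) ≠ mι) ∧
    (∀ w, Sg w → dot (Pi.single 0 1 + Pi.single 0 1) w ≠ 0 ∧ (av mι w = w ∨ av mι w = -w)) ∧
    av mι (Pi.single 0 1) = -Pi.single 0 1 ∧ mm mι mι = m1 ∧ mι ≠ m1 := by
  refine ⟨?_, ?_, ?_, ?_, ?_, ?_⟩ <;> decide +kernel

theorem HB.good [Finite G] (F : HB t X e q) (ha : Act e n a) (h2 : n * n = 1) (h1 : a ≠ m1) {k : Fin 3}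
    (hk : av a (Pi.single k 1) = Pi.single k 1) : Good t X e n :=
  ⟨F.toMn.memH ha, h2, fun l => h1 ((F.toMn.C_iff ha).1 (F.zC l)), k, mon_single (x := e) k ▸ (F.toMn.fix ha).2 hk⟩

theorem HS1.no_good (F : HS1 t X e q P) (hy : y ∈ zpowers t ∨ Cl t y) (hn : Good t X e n)
    (h : g * y * g⁻¹ = n ∨ g * y * g⁻¹ = n * t) : False := by
  have k : Good t X e (g * y * g⁻¹) := h.elim (· ▸ hn) (· ▸ hn.mul_t F.toHB)
  exact hy.elim (fun l => k.2.2.1 (F.toHB.conj_z_iff.2 l)) fun l => F.not_cl k (l.conj F.toHB g)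

theorem HS.ex_nc (F : HS t X e q P) (hn : Act e n mι) (hw : Sg w) : ∃ p ∈ P w, n * p * n⁻¹ * p⁻¹ ∉ zpowers t := by
  by_contra! h
  have M := F.toMn
  obtain ⟨p, hp, h1⟩ := (F.q8 w hw).ex_out
  have h2 := M.app hn (Pi.single 0 1)
  rw [c_h5.2.2.2.1, M.neg] at h2
  have h3 := F.nz w (mon e (Pi.single 0 1)) hw (by
    rw [(M.comm _ (M.mJ _) _ (M.mJ w)).eq, mul_inv_cancel_right]; exact mem_zpowers _)
  refine h1 (F.fp _ w hw (c_h5.2.2.1 w hw).1 p hp ?_)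
  rw [M.add]
  generalize mon e (Pi.single 0 1) = x at h2 h3
  convert mul_mem ((F.toHB.conj_z_iff (h := x)).2 (inv_mem (h _ ((mem_normalizer_iff.1 h3 p).1 hp)))) (h p hp) using 1
  calc _ = x * (x * p * x⁻¹) * x⁻¹ * (n * p⁻¹ * n⁻¹) * x⁻¹⁻¹ * x⁻¹ * (n * p * n⁻¹ * p⁻¹) := by group
    _ = _ := by nth_rw 2 3 [← h2]; group

theorem HS3.mem_R (F : HS3 t X e q P) (h1 : Mu X e P y m1) (h2 : y * y ∈ zpowers t) : y ∈ RR P := by
  obtain ⟨v, hv, x, hx, rfl⟩ := F.mu_one h1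
  have h3 : x * x ∈ RR P := by
    have := mul_mem (inv_mem (mul_mem hv ((mem_normalizer_iff.1 (F.nR (le_normalizer hx)) v).1 hv))) (zpowers_le.2 F.tR h2)
    simpa [mul_assoc] using this
  rwa [eq_one_of_two_three (F.toHB.X_z (mul_mem hx hx) (F.RN _ h3 (le_normalizer (mul_mem hx hx)))) (F.cube x hx), mul_one]

theorem HS4.le_R [Finite G] (F : HS4 t X e q P) (C : Cls t X e P) {R : Subgroup G} (h1 : R ≤ normalizer (RR P : Set G))
    (h2 : ∀ y ∈ R, y * y ∈ zpowers t) (h3 : ∀ y ∈ R, y ∈ zpowers t ∨ Cl t y)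
    (h4 : ∀ y ∈ R, ∀ z ∈ R, y * z * y⁻¹ * z⁻¹ ∈ zpowers t) (h5 : Nat.card R = 512)
    (h6 : ∀ s ∈ [((1, ![-1, 1, 1]) : Mo), (1, ![1, -1, 1])], ∃ d, Act e d s ∧ ∀ y ∈ R, d * y * d⁻¹ ∈ R) : R ≤ RR P := by
  have k1 : ∀ y ∈ R, ∀ a, Mu X e P y a → a.1 = 1 → a = m1 ∨ a = mι := by
    rintro _ hy a ⟨v, hv, n, hn, ha, rfl⟩ h
    obtain ⟨l1, -, l2⟩ := C v hv n a ha (h2 _ hy)
    refine (c_h5.1 a h).imp_right fun l => l.resolve_right fun ⟨l3, k, l4⟩ => ?_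
    have l5 := F.toHB.good ha l1 l3 l4
    obtain ⟨w, -, l6⟩ := l2 l5 h
    exact F.toHS1.no_good (h3 _ hy) l5 l6
  have k2 : ∀ y ∈ R, y ∈ RR P ∨ Mu X e P y mι := fun y hy => by
    obtain ⟨a, ha⟩ := F.nrm y (h1 hy)
    have l1 : mm a a = m1 := F.mu_uniq (F.mu_mul ha ha) (F.muR (zpowers_le.2 F.tR (h2 y hy)))
    obtain l | ⟨s, hs, l2, l3, l4⟩ := c_h5.2.1 a l1
    · rcases k1 y hy a ha l with rfl | rfl
      exacts [.inl (F.mem_R ha (h2 y hy)), .inr ha]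
    · obtain ⟨d, hd, l5⟩ := h6 s hs
      have l6 := F.muN hd
      exact ((k1 _ (mul_mem (l5 y hy) (inv_mem hy)) _ (F.mu_mul (F.mu_mul (F.mu_mul l6 ha) (F.mu_inv l6)) (F.mu_inv ha))
        l2).elim l3 l4).elim
  refine fun y hy => (k2 y hy).resolve_right fun k3 => ?_
  have k4 : (RR P).relIndex R = 2 := relIndex_eq_two_iff_exists_notMem_and.2 ⟨y, hy,
    fun l => c_h5.2.2.2.2.2 (F.mu_uniq k3 (F.muR l)), fun b hb => (k2 b hb).symm.imp_left fun l =>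
      F.mem_R (c_h5.2.2.2.2.1 ▸ F.mu_mul l k3) (h2 _ (mul_mem hb hy))⟩
  have k5 : R.relIndex (RR P) = 2 := by
    have l1 := card_inf_mul_relIndex (RR P) R
    have l2 := card_inf_mul_relIndex R (RR P)
    rw [k4, h5] at l1
    rw [inf_comm, F.cardR, show Nat.card (RR P ⊓ R : Subgroup G) = 256 by omega] at l2
    omega
  obtain ⟨v, hv, n, hn, ha, rfl⟩ := k3
  have k6 : ∀ r ∈ RR P, r ∈ R → n * r * n⁻¹ * r⁻¹ ∈ zpowers t := fun r hr hr' => by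
    convert mul_mem (inv_mem (F.cmR v hv _ ((mem_normalizer_iff.1 (F.nR hn) r).1 hr))) (h4 _ hy r hr') using 1
    group
  have s1 : Sg w1 := by decide
  have s2 : Sg w2 := by decide
  obtain ⟨p, hp, l1⟩ := F.toHS.ex_nc ha s1
  obtain ⟨p', hp', l2⟩ := F.toHS.ex_nc ha s2
  have l3 : ∀ w, Sg w → ∀ p ∈ P w, n * p * n⁻¹ * p⁻¹ ∈ P w := fun w hw p hp => by
    have := F.cjP w ha hw p hp
    rcases (c_h5.2.2.1 w hw).2 with l | l <;> rw [l] at this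
    · exact mul_mem this (inv_mem hp)
    · exact mul_mem (F.negP w hw ▸ this) (inv_mem hp)
  have l4 := k6 _ (mul_mem (F.PR _ s1 hp) (F.PR _ s2 hp')) ((mul_mem_iff_of_index_two k5 (a := ⟨p, F.PR _ s1 hp⟩)
    (b := ⟨p', F.PR _ s2 hp'⟩)).2 (iff_of_false (fun l => l1 (k6 p (F.PR _ s1 hp) l)) fun l => l2 (k6 p' (F.PR _ s2 hp') l)))
  refine l1 (F.ind c_sg.2.2.2.2.1 _ (l3 _ s1 p hp) _ (l3 _ s2 p' hp') 1 (one_mem _) 1 (one_mem _) ?_).1
  rw [mul_one, mul_one, mul_assoc _ p⁻¹, F.cm _ _ s1 s2 (by decide) _ (inv_mem hp) _ (l3 _ s2 p' hp')]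
  convert l4 using 1
  group

theorem h5Thm : H5Thm.{u} := fun {G _ _ t X e q P} F C => by
  refine ⟨F, C, ?_⟩
  obtain ⟨d, d2, hd⟩ := F.toHB.ex_inv (F.diag ![-1, 1, 1]) (by decide)
  obtain ⟨d', hd', c, d2'⟩ := F.toHB.lift hd d2 (F.diag ![1, -1, 1]) (by decide)
  have k1 : zpowers d ⊔ zpowers d' ≤ normalizer (RR P : Set G) :=
    sup_le (zpowers_le.2 (F.nR (F.toMn.memH hd))) (zpowers_le.2 (F.nR (F.toMn.memH hd')))
  obtain ⟨T, hT, k2⟩ := exists_isSylowIn_ge ((IsPGroup.of_card (p := 2) (n := 9) F.cardR).to_sup_of_normal_left'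
    ((pg_zp (k := 1) (by simpa [sq] using d2)).to_sup_of_normal_left' (pg_zp (k := 1) (by simpa [sq] using d2' (by decide)))
      (zpowers_le.2 (centralizer_le_normalizer _ fun x hx => (cm_of_mem hx c).symm))) k1) (sup_le le_normalizer k1)
  have k3 : normalizer (T : Set G) ≤ normalizer (RR P : Set G) := fun g hg => by
    have l1 : ∀ d ∈ T, ∀ y ∈ MulAut.conj g • RR P, d * y * d⁻¹ ∈ MulAut.conj g • RR P := fun d hd y hy => by
      rw [mem_conj_smul_iff] at hy ⊢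
      simpa [mul_assoc] using (mem_normalizer_iff.1 (hT.le ((mem_normalizer_iff''.1 hg d).1 hd)) _).1 hy
    refine mem_normalizer_fintype fun r hr => F.le_R C (R := MulAut.conj g • RR P) (fun y hy => hT.le ?_) (fun y hy => ?_)
      (fun y hy => ?_) (fun y hy z hz => ?_) ((card_conj_smul g _).trans F.cardR) ?_ (conj_mem_conj_smul g hr)
    · exact (mem_normalizer_iff''.1 hg y).2 (k2 (mem_sup_left ((mem_conj_smul_iff _ _ _).1 hy)))
    · rw [← F.toHB.conj_z_iff (h := g⁻¹)]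
      simpa [mul_assoc] using F.sqR _ ((mem_conj_smul_iff _ _ _).1 hy)
    · refine or_iff_not_imp_left.2 fun l => ?_
      obtain ⟨w, -, l2⟩ := F.clR _ ((mem_conj_smul_iff _ _ _).1 hy) fun l' => l ((F.toHB.conj_z_iff (h := g⁻¹)).1 (by simpa using l'))
      simpa [mul_assoc] using Cl.conj F.toHB ⟨w, l2⟩ g
    · rw [← F.toHB.conj_z_iff (h := g⁻¹)]
      simpa [mul_assoc] using F.cmR _ ((mem_conj_smul_iff _ _ _).1 hy) _ ((mem_conj_smul_iff _ _ _).1 hz)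
    · simp only [List.mem_cons, List.not_mem_nil, or_false, forall_eq_or_imp, forall_eq]
      exact ⟨⟨d, hd, l1 d (k2 (mem_sup_right (mem_sup_left (mem_zpowers _))))⟩,
        d', hd', l1 d' (k2 (mem_sup_right (mem_sup_right (mem_zpowers _))))⟩
  have k4 := (isSylowIn_of_loc le_top hT.isPGroup fun n _ hn k hk => mem_syl hT (k3 hn) hn hk).not_dvd_relIndex_of_le hT.le le_top
  rwa [relIndex_top_right, ← even_iff_two_dvd, Nat.not_even_iff_odd] at k4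

end CL.Ast
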