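/-
Astill's theorem: `R` is strongly closed in its normalizer.
-/
import Cfsg.Agent.Ast.H5

set_option autoImplicit false
set_option synthInstance.maxSize 4096

namespace CL.Ast

open Subgroup Cfsg CL.Grp CL.Rec CL.Perm CL.G23 CL.McL3 CL.McL3.C27 CL.S9R Equiv
open scoped Pointwise

universe u

variable {G : Type*} [Group G] {t : G} {X : Subgroup G} {e : Fin 3 → G} {q : G} {P : V3 → Subgroup G}

theorem c_h6 : (∀ a : Mo, ∃ s, ∃ p ∈ [m1, mr, mm mr mr], a = mm (1, s) p ∨ a = mm (mm (1, s) p) mτ) ∧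
    (∀ a : Mo, mm (mi a) (mm a mτ) = mτ) ∧ (∀ a b : Mo, S9R.pr (mm a b) = S9R.pr a * S9R.pr b) ∧
    (∀ a : Mo, mm a a = m1 → S9R.pr a = 1 → Perm.sign a.1 = 1 →
      a = m1 ∨ a.1 = 1 ∧ a ≠ m1 ∧ ∃ k, av a (Pi.single k 1) = Pi.single k 1) ∧ ∀ s, mm (1, s) (1, s) = m1 := by
  refine ⟨?_, ?_, ?_, ?_, ?_⟩ <;> decide +kernel

theorem units_eq_one {a : ℤˣ} (h : a * (a * a) = 1) : a = 1 := by rwa [Int.units_mul_self, mul_one] at h

theorem HS5.ex_hom [Finite G] (F : HS5 t X e q P) {c : Mo → ℤˣ} (hc : ∀ a b, c (mm a b) = c a * c b) :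
    ∃ ε : G →* ℤˣ, ∀ g a, Mu X e P g a → ε g = c a := by
  have M := F.toMn
  choose μ hμ using fun g : normalizer (RR P : Set G) => F.nrm g g.2
  let χ : normalizer (RR P : Set G) →* ℤˣ := .mk' (fun g => c (μ g)) fun g h => by
    rw [← hc, F.mu_uniq (hμ (g * h)) (F.mu_mul (hμ g) (hμ h))]
  have k1 : ∀ {x y k : G} (hx hy), k ∈ normalizer (RR P : Set G) → k * x * k⁻¹ = y → χ ⟨y, hy⟩ = χ ⟨x, hx⟩ := by
    rintro x _ k hx hy hk rfl
    rw [show (⟨_, hy⟩ : normalizer (RR P : Set G)) = ⟨k, hk⟩ * ⟨x, hx⟩ * ⟨k, hk⟩⁻¹ from rfl, map_mul, map_mul, map_inv,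
      mul_inv_cancel_comm]
  refine ⟨χ.transfer, ?_⟩
  have k2 : ∀ u a, Good t X e u → Act e u a → χ.transfer u = c a := fun u a hu ha => by
    obtain ⟨m, hm⟩ := F.odd
    have l1 : χ ⟨u, F.nR hu.1⟩ = c a := congrArg c (F.mu_uniq (hμ _) (F.muN ha))
    rw [Transfer.transfer_eq_pow_of_conj χ u (c a) fun k g h => ?_, hm, pow_succ, pow_mul, Int.units_sq, one_pow, one_mul]
    obtain ⟨j, rfl | rfl⟩ := k.even_or_odd'
    · simp only [pow_mul, sq, hu.2.1, one_pow, mul_one, inv_mul_cancel, Int.units_mul_self]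
      exact map_one χ
    simp only [pow_succ _ (2 * j), pow_mul, sq, hu.2.1, one_pow, one_mul, Int.units_mul_self] at h ⊢
    obtain ⟨b, v, hv, n, hn, hb, l2⟩ := F.nrm _ h
    have l3 : g * (v * n) * g⁻¹ = u := by rw [← l2]; group
    obtain ⟨-, l4, -⟩ := F.cls v hv n b hb (by
      rw [← F.toHB.conj_z_iff (h := g), ← conj_mul, l3, hu.2.1]; exact one_mem _)
    obtain ⟨l5, w, hw, l6⟩ := (or_assoc.2 l4).resolve_left fun l => F.toHS1.no_good l hu (.inl l3)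
    have l7 : Good t X e (w * (v * n) * w⁻¹) := l6.elim (fun l => by rwa [l]) fun l => l ▸ l5.mul_t F.toHB
    obtain ⟨k, hk, l8⟩ := F.fu u _ (w * g⁻¹) hu l7 (by rw [← l3]; group)
    rw [← l1, ← k1 _ (F.nR l7.1) (F.nR hk) l8, k1 h (F.nR l7.1) (le_normalizer hw) (by rw [l2])]
  generalize χ.transfer = ε at k2
  have c1 : c m1 = 1 := by simpa [show mm m1 m1 = m1 by decide] using hc m1 m1
  have k3 : ∀ g, g ^ 3 = 1 → ε g = 1 := fun g h => units_eq_one (by rw [← pow_three, ← map_pow, h, map_one])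
  have k4 : ∀ w, Sg w → P w ≤ ε.ker := fun w hw => (F.q8 w hw).le_of_fp (F.nz w _ hw (by
    rw [(M.comm _ (M.mJ _) _ (M.mJ w)).eq, mul_inv_cancel_right]; exact mem_zpowers _))
    (F.fp _ w hw (c_h5.2.2.1 w hw).1) fun p _ => by
      rw [MonoidHom.mem_ker, map_mul, map_mul, map_mul, map_inv, map_inv, mul_inv_cancel_comm, mul_inv_cancel]
  have k5 : RR P ≤ ε.ker := sup_le (sup_le (sup_le (k4 _ (by decide)) (k4 _ (by decide))) (k4 _ (by decide))) (k4 _ (by decide))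
  let Z := fun a => ∃ n, Act e n a ∧ ε n = c a
  have zm : ∀ {a b}, Z a → Z b → Z (mm a b) := fun ⟨_, h1, h2⟩ ⟨_, h3, h4⟩ => ⟨_, h1.mul h3, by rw [map_mul, hc, h2, h4]⟩
  have z1 : Z m1 := ⟨1, M.actJ (one_mem _), by rw [map_one, c1]⟩
  have zr : Z mr := ⟨q, F.ar, by
    rw [k3 q F.q3, units_eq_one (a := c mr) (by rw [← hc, ← hc, show mm mr (mm mr mr) = m1 by decide, c1])]⟩
  have zg : ∀ {a k}, Re e a → mm a a = m1 → a ≠ m1 → av a (Pi.single k 1) = Pi.single k 1 → Z a := fun h1 h2 h3 h4 =>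
    let ⟨n, l1, l2⟩ := F.toHB.ex_inv h1 h2
    ⟨n, l2, k2 n _ (F.toHB.good l2 l1 h3 h4) l2⟩
  have zd : ∀ s, Z (1, s) := fun s => by
    obtain l | l | ⟨l, k, l'⟩ := c_h5.1 (1, s) rfl
    · exact l ▸ z1
    · rw [l, show mι = mm (1, ![-1, 1, 1]) (1, ![1, -1, -1]) by decide]
      exact zm (zg (k := 1) (F.diag _) (by decide) (by decide) (by decide)) (zg (k := 0) (F.diag _) (by decide) (by decide) (by decide))
    · exact zg (F.diag s) (c_h6.2.2.2.2 s) l l'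
  rintro _ a ⟨v, hv, n, -, ha, rfl⟩
  obtain ⟨m, l1, l2⟩ : Z a := by
    obtain ⟨s, p, hp, l⟩ := c_h6.1 a
    have l1 : Z (mm (1, s) p) := zm (zd s) (by
      simp only [List.mem_cons, List.not_mem_nil, or_false] at hp
      rcases hp with rfl | rfl | rfl
      exacts [z1, zr, zm zr zr])
    rcases l with rfl | rfl
    · exact l1
    · exact zm l1 (zg (k := 2) (l1.elim fun _ l => ⟨_, c_h6.2.1 _ ▸ l.1.inv.mul ha⟩) (by decide) (by decide) (by decide))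
  rw [map_mul, k5 hv, one_mul, ← l2, ← inv_mul_eq_one, ← map_inv, ← map_mul]
  obtain ⟨x, hx, l | l⟩ := F.toHB.C_cases (M.memC l1 ha) <;> rw [l]
  · exact k3 x (F.cube x hx)
  · rw [map_mul, k3 x (F.cube x hx), k5 F.tR, one_mul]

theorem h6Thm : H6Thm.{u} := fun {G _ _ t X e q P} F => by
  refine ⟨F.toHS4, fun v hv y hy h => ?_, F.odd⟩
  obtain ⟨g, rfl⟩ := isConj_iff.1 h
  by_cases h1 : v ∈ zpowers t
  · rwa [F.toHB.conj_z h1]
  obtain ⟨ε, h2⟩ := F.ex_hom c_h6.2.2.1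
  obtain ⟨ε', h3⟩ := F.ex_hom (c := fun a => Perm.sign a.1) fun a b => map_mul _ _ _
  obtain ⟨a, ha⟩ := F.nrm _ hy
  have h4 := h2 _ a ha
  have h5 := h3 _ a ha
  simp only [map_mul, map_inv, mul_inv_cancel_comm, h2 v _ (F.muR hv), h3 v _ (F.muR hv)] at h4 h5
  have h6 : g * v * g⁻¹ * (g * v * g⁻¹) ∈ zpowers t := by rw [conj_mul]; exact F.toHB.conj_z_iff.2 (F.sqR v hv)
  obtain rfl | ⟨l1, l2, k, l3⟩ := c_h6.2.2.2.1 a (F.mu_uniq (F.mu_mul ha ha) (F.muR (zpowers_le.2 F.tR h6)))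
    (h4.symm.trans (by decide)) (h5.symm.trans (by decide))
  · exact F.mem_R ha h6
  obtain ⟨w, -, h7⟩ := F.clR v hv h1
  have h8 := Cl.conj F.toHB ⟨w, h7⟩ g
  obtain ⟨v', hv', n, -, ha, l⟩ := ha
  rw [l] at h6 h8
  obtain ⟨l4, -, l5⟩ := F.cls v' hv' n a ha h6
  obtain ⟨w', -, l6⟩ := l5 (F.toHB.good ha l4 l2 l3) l1
  exact (F.toHS1.no_good (.inr h8) (F.toHB.good ha l4 l2 l3) l6).elim

end CL.Ast
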