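/-
Astill's theorem (job AST-HC, helper62): the structure of `C(t)` inside `G`, and the sign character by transfer.
-/
import Cfsg.Agent.Ast.Base
import Cfsg.Agent.Transfer.Mackey

set_option autoImplicit false
set_option synthInstance.maxSize 4096

namespace CL.Ast

open Subgroup Cfsg CL.Grp CL.Rec CL.Perm CL.G23 CL.McL3 CL.McL3.C27 CL.S9R CL.Transfer Equiv
open scoped Pointwise

universe u

variable {G : Type*} [Group G]

attribute [local instance] finiteIndex_comap_of_finiteIndex in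
/-- a central involution of a 2-group with a single fixed coset transfers faithfully -/
theorem hc_transfer [Finite G] {H K : Subgroup G} (hK : IsPGroup 2 K) (χ : H →* ℤˣ) (τ : K)
    (hc : ∀ k : K, k * τ = τ * k) (h2 : τ * τ = 1) (KH : K ≤ H) (hχ : extOne χ τ = -1)
    (key : ∀ g, (∀ k ∈ K, g⁻¹ * k * g ∈ H) → g ∈ H) : MonoidHom.transfer χ τ = -1 := by
  have hodd : Odd H.index := by
    have h1 := hK.card_modEq_card_fixedPoints (G ⧸ H)
    have h3 : Nat.card (MulAction.fixedPoints K (G ⧸ H)) = 1 := by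
      refine Nat.card_eq_one_iff_exists.2 ⟨⟨((1 : G) : G ⧸ H), fun k => ?_⟩, fun y => Subtype.ext ?_⟩
      · exact QuotientGroup.eq.2 (by simpa using KH k.2)
      · obtain ⟨y, hy⟩ := y
        obtain ⟨g, rfl⟩ := QuotientGroup.mk_surjective y
        refine QuotientGroup.eq.2 (by
          simpa using key g fun k hk => by simpa [mul_assoc] using QuotientGroup.eq.1 (hy ⟨k, hk⟩).symm)
    rw [h3] at h1
    exact Nat.odd_iff.2 h1
  rw [transfer_eq_pow_of_doubleCoset χ K τ (-1) fun g => ?_, hodd.neg_one_pow]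
  by_cases hg : H.comap (conjInto K g) = ⊤
  · have hgH := key g fun k hk => mem_comap_conjInto.1 (hg ▸ mem_top (⟨k, hk⟩ : K))
    rw [transfer_of_eq_top _ hg, extOne_pull, conjInto_apply, extOne_conj χ hgH, hχ, index_eq_one.2 hg, pow_one]
  · obtain ⟨n, hn⟩ := hK.index (H.comap (conjInto K g))
    have he : Even (H.comap (conjInto K g)).index := by
      rw [hn]
      refine (Nat.even_pow' fun h0 => hg (index_eq_one.1 ?_)).2 even_two
      rw [hn, h0, pow_zero]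
    rw [transfer_eq_pow_of_extOne _ τ (extOne (pull χ (conjInto K g)) τ) fun k x hx => ?_, he.neg_one_pow]
    · obtain ⟨m, hm⟩ := he
      rw [hm, pow_add, Int.units_mul_self]
    · have e1 : x⁻¹ * τ ^ k * x = τ ^ k := by
        rw [mul_assoc, ← (Commute.pow_right (hc x) k).eq, inv_mul_cancel_left]
      rw [e1] at hx ⊢
      by_cases hτ : τ ∈ H.comap (conjInto K g)
      · exact extOne_pow _ hτ k
      · rw [extOne_of_notMem _ hτ, one_pow]
        rcases Nat.even_or_odd' k with ⟨m, rfl | rfl⟩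
        · rw [pow_mul, pow_two, h2, one_pow, extOne_one]
        · rw [pow_succ, pow_mul, pow_two, h2, one_pow, one_mul] at hx
          exact absurd hx hτ

def sM (i : Fin 4) (v : V) : V := fun j => if j = i then -v j else v j
def oM (s : ℤˣ) (i : Fin 4) (v : V) : V := if s = 1 then v else sM i v

theorem hc_dec : (∀ v, tM v = ext (-1) m1 v ∧ τM v = ext 1 mτ v ∧ tM v = sM 0 v ∧
      xM ![-v 2, v 0, -v 1, v 3] = v ∧ qM (qM (qM v)) = v ∧ ![-(tM (xM v)) 2, tM (xM v) 0, -(tM (xM v)) 1, tM (xM v) 3] = sM 1 v ∧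
      qM (sM 1 (qM (qM v))) = sM 2 v ∧ qM (sM 2 (qM (qM v))) = sM 3 v) ∧
    (∀ η (s : Fin 3 → ℤˣ) v, oM η 0 (oM (s 0) 1 (oM (s 1) 2 (oM (s 2) 3 v))) = ext η (1, s) v) ∧
    (∀ s : Fin 3 → ℤˣ, mm (1, s) (1, s) = m1) ∧ (∀ u, av mι u = -u) ∧
    (∀ a : Mo, Perm.sign a.1 = 1 → a.1 = 1 ∨ (mm a mr).1 = 1 ∨ (mm (mm a mr) mr).1 = 1) ∧
    up (Pi.single 0 1) = e4 1 := by
  refine ⟨?_, ?_, ?_, ?_, ?_, ?_⟩ <;> decide +kernel

theorem hc_units {u : ℤˣ} (h : u ^ 3 = 1) : u = 1 := by rwa [pow_three', Int.units_mul_self, one_mul] at h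

section

variable {ι : V → G} {J S P : Subgroup G} {t q n : G} (F : GF ι J S P t q n)
include F

theorem GF.eps_diag (ε : G →* ℤˣ) (ht : ε t = 1) {g : G} {η : ℤˣ} {s : Fin 3 → ℤˣ} (hg : Lin ι g (ext η (1, s))) :
    ε g = 1 := by
  obtain ⟨x, hx⟩ := F.lx
  have hq : Lin ι q⁻¹ fun v => qM (qM v) := F.lq.inv fun v => (hc_dec.1 v).2.2.2.2.1
  have h0 : Lin ι t (sM 0) := F.lt.congr fun v => (hc_dec.1 v).2.2.1
  have h1 : Lin ι (x⁻¹ * t * x) (sM 1) :=
    (((hx.inv (γ' := fun v => ![-v 2, v 0, -v 1, v 3]) fun v => (hc_dec.1 v).2.2.2.1).mul F.lt).mul hx).congr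
      fun v => (hc_dec.1 v).2.2.2.2.2.1
  have h2 : Lin ι (q * (x⁻¹ * t * x) * q⁻¹) (sM 2) := ((F.lq.mul h1).mul hq).congr fun v => (hc_dec.1 v).2.2.2.2.2.2.1
  have h3 : Lin ι (q * (q * (x⁻¹ * t * x) * q⁻¹) * q⁻¹) (sM 3) :=
    ((F.lq.mul h2).mul hq).congr fun v => (hc_dec.1 v).2.2.2.2.2.2.2
  have k : ∀ (s : ℤˣ) i y, ε y = 1 → Lin ι y (sM i) → ∃ y, ε y = 1 ∧ Lin ι y (oM s i) := fun s i y e h => by
    by_cases hs : s = 1
    · exact ⟨1, map_one _, (Lin.one ι).congr fun v => by simp [oM, hs]⟩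
    · exact ⟨y, e, h.congr fun v => by simp [oM, hs]⟩
  obtain ⟨y0, e0, l0⟩ := k η 0 _ ht h0
  obtain ⟨y1, e1, l1⟩ := k (s 0) 1 _ (by simp [ht]) h1
  obtain ⟨y2, e2, l2⟩ := k (s 1) 2 _ (by simp [ht]) h2
  obtain ⟨y3, e3, l3⟩ := k (s 2) 3 _ (by simp [ht]) h3
  have l := (l0.mul (l1.mul (l2.mul l3))).congr (hc_dec.2.1 η s)
  obtain ⟨v, hv⟩ := (F.mem _).1 (F.cJ ((y0 * (y1 * (y2 * y3)))⁻¹ * g) fun v => by
    calc _ = (y0 * (y1 * (y2 * y3)))⁻¹ * (g * ι v * g⁻¹) * (y0 * (y1 * (y2 * y3))) := by group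
      _ = _ := by rw [hg, ← l]; simp only [id]; group)
  have := hc_units (u := ε (ι v)) (by rw [← map_pow, F.toEmb.cube, map_one])
  rw [hv] at this
  simpa [e0, e1, e2, e3] using this

theorem GF.not_N0 [Finite G] {g : G} {η : ℤˣ} {a : Mo} (hg : Lin ι g (ext η a)) (ha : Perm.sign a.1 ≠ 1) :
    g ∉ N0 J t := fun h => by
  obtain ⟨ψ, h1, h2⟩ := F.psi
  have one : ψ 1 = 1 := by
    have := h1 1 (one_mem _) 1 (one_mem _)
    rwa [one_mul, left_eq_mul] at this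
  have key : ∀ x ∈ N0 J t, x ∈ normalizer (J : Set G) ∧ Perm.sign (ψ x) = 1 := fun x hx => by
    induction hx using closure_induction with
    | mem y hy =>
      rcases hy with ⟨hy, h3⟩ | rfl
      · refine ⟨hy, hc_units ?_⟩
        rw [← map_pow, pow_three', ← h1 _ hy _ hy, ← h1 _ (mul_mem hy hy) _ hy, ← pow_three', h3, one, map_one]
      · exact ⟨F.toEmb.norm F.lt, by rw [h2 _ _ _ (F.lt.congr fun v => (hc_dec.1 v).1)]; exact map_one _⟩
    | one => exact ⟨one_mem _, by rw [one, map_one]⟩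
    | mul x y _ _ hx hy => exact ⟨mul_mem hx.1 hy.1, by rw [h1 _ hx.1 _ hy.1, map_mul, hx.2, hy.2, one_mul]⟩
    | inv x _ hx =>
      refine ⟨inv_mem hx.1, ?_⟩
      have := congrArg Perm.sign (h1 _ hx.1 _ (inv_mem hx.1))
      rwa [mul_inv_cancel, one, map_one, map_mul, hx.2, one_mul, eq_comm] at this
  exact ha (h2 _ _ _ hg ▸ (key g h).2)

end

section

variable [Finite G] {t : G} {X : Subgroup G} {e : Fin 3 → G} {q : G} {R T D : Subgroup G} {μ : G → Mo}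
  {r : G → CL.O8.X}

theorem HX.gen (E : HX t X e q R T D μ r) (B : HB t X e q) (K : Subgroup G)
    (hK : ∀ d ∈ D, (∃ k : ℕ, d ^ 2 ^ k = 1) → d ∈ K) : D ≤ K := fun d hd => by
  have M := B.toMn
  obtain ⟨i, i2, hi⟩ := B.ex_inv (a := mι) (B.diag _) (by decide +kernel)
  have iD : i ∈ D := (E.memD _).2 (by rw [E.μact _ _ hi]; rfl)
  have hX : X ≤ K := fun x hx => by
    have xD : x ∈ D := (E.memD _).2 (by rw [E.μact _ _ (M.actJ hx)]; rfl)
    have h1 := mul_mem (hK _ (mul_mem (mul_mem xD iD) (inv_mem xD)) ⟨1, by rw [pow_one, pow_two, conj_mul, i2]; group⟩)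
      (inv_mem (hK i iD ⟨1, by rw [pow_one, pow_two, i2]⟩))
    obtain ⟨u, rfl⟩ := M.exm hx
    rw [← M.neg, mul_assoc, mul_assoc, ← mul_assoc i, M.app hi, hc_dec.2.2.2.1, neg_neg] at h1
    have := mul_mem h1 h1
    rwa [← pow_two, ← pow_two, ← pow_mul, show 2 * 2 = 3 + 1 from rfl, pow_succ, B.cube _ hx, one_mul] at this
  obtain ⟨v, hv, n, -, e1, ha⟩ := E.dec d
  have h1 := (E.memD _).1 hd
  have h2 : mm (μ d) (μ d) = m1 := by
    rw [show μ d = (1, (μ d).2) from Prod.ext h1 rfl]; exact hc_dec.2.2.1 _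
  have nD : n ∈ D := (E.memD _).2 (by rw [E.μact _ _ ha, h1])
  have h3 := hK _ (pow_mem nD 3) ⟨1, by rw [pow_one, pow_two, (B.cube_inv ha h2).1]⟩
  have h4 : n * n * (n * n) ∈ X := by
    obtain ⟨x, hx, k | k⟩ := B.C_cases ((M.C_iff (ha.mul ha)).2 h2) <;> rw [k]
    · exact mul_mem hx hx
    · rw [mul_assoc, ← mul_assoc t, ← B.cen x, mul_assoc x, B.t2, mul_one]; exact mul_mem hx hx
  rw [e1]
  refine mul_mem (hK v ((E.memD _).2 (by rw [E.μR v hv]; rfl)) ⟨9, ?_⟩) ?_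
  · have := pow_card_eq_one' (x := (⟨v, hv⟩ : R))
    rw [E.cardR] at this
    exact congrArg Subtype.val this
  · have := mul_mem (hX h4) (inv_mem h3)
    rwa [show n * n * (n * n) * (n ^ 3)⁻¹ = n by rw [pow_three]; group] at this

end

theorem hcThm : HCThm.{u} := fun {G} _ _ {ι J S P t q n t' X e q' P' R T D μ r} F I E => by
  classical
  have B := I.toHB
  have M := B.toMn
  have mH : ∀ {g : G}, g ∈ centralizer ({t} : Set G) ↔ g * t = t * g := mem_centralizer_singleton_iff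
  have RD : R ≤ D := fun v hv => (E.memD _).2 (by rw [E.μR v hv]; rfl)
  have tR : t ∈ R.map (centralizer {t}).subtype := ⟨t', E.tR, I.ht⟩
  have hr : ∀ d : centralizer ({t} : Set G),
      (if h : (d : G) ∈ centralizer ({t} : Set G) then r ⟨d, h⟩ else 1) = r d := fun d => dif_pos d.2
  refine ⟨R.map (centralizer {t}).subtype, D.map (centralizer {t}).subtype,
    fun g => if h : g ∈ centralizer ({t} : Set G) then r ⟨g, h⟩ else 1,
    extra_of_mulEquiv E.extra (equivMapOfInjective R _ (subtype_injective _)),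
    (card_map_of_injective (subtype_injective _)).trans E.cardR, tR, ?_, fun g hg => mem_normalizer_fintype ?_,
    fun g hg => ?_, ?_, map_mono RD, ?_, ?_, fun w => ?_, ?_, fun ε => ?_, fun K hK => ?_, fun s => ?_,
    fun g hg => ?_, fun τ h2 hτ hl => ?_⟩
  · rintro _ ⟨v, -, rfl⟩; exact mH.1 v.2
  · rintro _ ⟨v, hv, rfl⟩
    exact ⟨_, (mem_normalizer_iff.1 (E.nR ⟨g, mH.2 hg⟩) v).1 hv, rfl⟩
  · exact ⟨⟨g, mH.2 (hg t tR).symm⟩, E.cR fun v hv => Subtype.ext (hg v ⟨v, hv, rfl⟩), rfl⟩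
  · obtain ⟨p, hp, k⟩ := E.ncp
    refine ⟨p, ⟨p, hp, rfl⟩, fun c => k (Subtype.ext ?_)⟩
    rwa [← hc_dec.2.2.2.2.2, ← I.he, mon_single] at c
  · rintro _ ⟨v, -, rfl⟩; exact mH.1 v.2
  · rintro _ ⟨g, hg, rfl⟩ _ ⟨h, hh, rfl⟩
    exact (hr (g * h)).trans ((E.rmul g hg h hh).trans (congrArg₂ _ (hr g).symm (hr h).symm))
  · obtain ⟨g, hg, k⟩ := E.rsurj w
    exact ⟨g, ⟨g, hg, rfl⟩, (hr g).trans k⟩
  · rintro _ ⟨g, hg, rfl⟩
    exact ((iff_of_eq (congrArg (· = 1) (hr g))).trans (E.rker g hg)).trans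
      (mem_map_iff_mem (subtype_injective _)).symm
  · rintro _ ⟨d, hd, rfl⟩
    have hR : R ≤ (ε.comp (centralizer {t}).subtype).ker := E.Rgen _ fun x _ p _ => by
      rw [MonoidHom.mem_ker, map_mul, map_mul, map_mul, map_inv, map_inv, mul_inv_cancel_comm, mul_inv_cancel]
    obtain ⟨v, hv, m, hm, e1, ha⟩ := E.dec d
    obtain ⟨η, a, hl, ha'⟩ := I.toJ m hm
    rw [M.uniq ha' ha, show μ d = (1, (μ d).2) from Prod.ext ((E.memD _).1 hd) rfl] at hl
    have := F.eps_diag ε (I.ht ▸ hR E.tR) hl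
    rw [e1, map_mul, map_mul, show ε _ = 1 from hR hv, one_mul]
    exact this
  · refine map_le_iff_le_comap.2 (E.gen B _ fun d hd ⟨k, hk⟩ => hK d ⟨d, hd, rfl⟩ ⟨k, congrArg Subtype.val hk⟩)
  · obtain ⟨g, hg⟩ := F.diag 1 s
    obtain ⟨m, hm⟩ := I.lift g _ _ hg
    exact ⟨m, ⟨m, (E.memD _).2 (by rw [E.μact _ _ (I.ofJ m _ _ hm)]), rfl⟩, hm⟩
  · obtain ⟨g, rfl⟩ : ∃ g' : centralizer ({t} : Set G), g' = g := ⟨⟨g, mH.2 hg⟩, rfl⟩
    by_cases hs : Perm.sign (μ g).1 = 1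
    · have hq : μ q' = mr := E.μact _ _ I.ar
      left
      rw [← I.hq]
      rcases hc_dec.2.2.2.2.1 _ hs with k | k | k
      · exact ⟨g, ⟨g, (E.memD _).2 k, rfl⟩, 0, by simp⟩
      · refine ⟨_, ⟨g * q', (E.memD _).2 (by rw [E.μmul, hq, k]), rfl⟩, 2, ?_⟩
        rw [coe_subtype, ← coe_pow, ← coe_mul, mul_assoc, ← pow_succ', I.q3, mul_one]
      · refine ⟨_, ⟨g * q' * q', (E.memD _).2 (by rw [E.μmul, E.μmul, hq, k]), rfl⟩, 1, ?_⟩
        rw [coe_subtype, pow_one, ← coe_mul, mul_assoc, mul_assoc, ← pow_three, I.q3, mul_one]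
    · obtain ⟨v, hv, m, hm, e1, ha⟩ := E.dec g
      obtain ⟨η, a, hl, ha'⟩ := I.toJ m hm
      exact .inr ⟨v, ⟨v, RD hv, rfl⟩, m, F.toEmb.norm hl, congrArg Subtype.val e1,
        F.not_N0 hl (M.uniq ha' ha ▸ hs)⟩
  · obtain ⟨τ, rfl⟩ : ∃ τ' : centralizer ({t} : Set G), τ' = τ := ⟨⟨τ, mH.2 hτ⟩, rfl⟩
    have h2' : τ * τ = 1 := Subtype.ext h2
    have ha := I.ofJ τ _ _ (hl.congr fun v => (hc_dec.1 v).2.1)
    let χ : centralizer ({t} : Set G) →* ℤˣ := MonoidHom.mk' (fun g => Perm.sign (μ g).1) fun g h => by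
      rw [E.μmul, ← map_mul]; rfl
    have hT : T ≤ centralizer {τ} := fun p hp => mem_centralizer_singleton_iff.2 (E.Tτ τ h2' ha p hp).symm
    have hK : IsPGroup 2 (T ⊔ zpowers τ : Subgroup _) := E.T2.to_sup_of_normal_right'
      (fun x => ⟨1, Subtype.ext (by
        rw [pow_one, pow_two]
        rcases (mem_zp2 h2').1 x.2 with k | k <;> simp [k, h2'])⟩)
      fun p hp => centralizer_le_normalizer _ fun y hy => (cm_of_mem hy (E.Tτ τ h2' ha p hp).symm).symm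
    have hc : T ⊔ zpowers τ ≤ centralizer {τ} := sup_le hT (zpowers_le.2 (mem_centralizer_singleton_iff.2 rfl))
    refine ⟨MonoidHom.transfer χ, hc_transfer (hK.map (centralizer {t}).subtype) χ
      ⟨τ, τ, mem_sup_right (mem_zpowers _), rfl⟩ ?_ (Subtype.ext h2) (map_subtype_le _) ?_ fun g hg => ?_⟩
    · rintro ⟨_, k, hk, rfl⟩
      have := congrArg Subtype.val (mem_centralizer_singleton_iff.1 (hc hk))
      exact Subtype.ext this
    · refine (extOne_coe χ τ).trans ?_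
      show Perm.sign (μ τ).1 = -1
      rw [E.μact _ _ ha]; decide
    · have c1 : ∀ p ∈ T, g * t * g⁻¹ * p = p * (g * t * g⁻¹) := fun p hp => by
        have := mH.1 (hg p ⟨p, mem_sup_left hp, rfl⟩)
        calc _ = g * (t * (g⁻¹ * p * g)) * g⁻¹ := by group
          _ = _ := by rw [← this]; group
      have c0 := c1 t' E.tT
      rw [I.ht] at c0
      have c2 := congrArg Subtype.val (E.Tc ⟨g * t * g⁻¹, mH.2 c0⟩ fun p hp => Subtype.ext (c1 p hp))
      obtain ⟨y, hy⟩ : ∃ y, y = mon e ![1, 1, 0] := ⟨_, rfl⟩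
      have yJ : (y : G) ∈ J := by rw [hy, I.he]; exact F.toEmb.memJ _
      obtain ⟨p, hp, hp2⟩ := E.Tp
      rw [← hy] at c2 hp2
      have c3 : g⁻¹ * y * g ∈ centralizer ({t} : Set G) := mH.2 (by
        calc _ = g⁻¹ * (y * (g * t * g⁻¹)) * g := by group
          _ = g⁻¹ * (g * t * g⁻¹ * y) * g := by rw [show g * t * g⁻¹ * y = y * (g * t * g⁻¹) from c2]
          _ = _ := by group)
      have y3 : (y : G) ^ 3 = 1 := congrArg Subtype.val (B.cube y (hy ▸ M.mJ _))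
      rcases E.x3 ⟨_, c3⟩ (Subtype.ext (by
        show (g⁻¹ * y * g) ^ 3 = 1
        rw [show g⁻¹ * y * g = g⁻¹ * y * g⁻¹⁻¹ by group, conj_pow, y3]; group)) with ⟨k, hk⟩ | k | k
      · have hp3 : ((y : G) * p * (y : G)⁻¹ * (p : G)⁻¹) ^ 2 = t := (congrArg Subtype.val hp2).trans I.ht
        have e1 : ((k⁻¹ * (k * ⟨_, c3⟩ * k⁻¹) * k⁻¹⁻¹ * ⟨_, hg p ⟨p, mem_sup_left hp, rfl⟩⟩ *
            (k⁻¹ * (k * ⟨_, c3⟩ * k⁻¹) * k⁻¹⁻¹)⁻¹ * (⟨_, hg p ⟨p, mem_sup_left hp, rfl⟩⟩ : centralizer {t})⁻¹ :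
              centralizer {t}) : G) ^ 2 = g⁻¹ * t * g⁻¹⁻¹ := by
          refine Eq.trans ?_ (congrArg (g⁻¹ * · * g⁻¹⁻¹) hp3)
          simp only [← conj_pow, coe_mul, coe_inv]
          congr 1
          group
        have t2 : t * t = 1 := I.ht ▸ congrArg Subtype.val B.t2
        rcases (mem_zp2 B.t2).1 (E.x2 _ hk k⁻¹ ⟨_, hg p ⟨p, mem_sup_left hp, rfl⟩⟩ (Subtype.ext (by
          rw [coe_pow, show 4 = 2 * 2 from rfl, pow_mul, e1, conj_pow, pow_two, t2]; simp))) with l | l <;>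
          have l := e1.symm.trans (congrArg Subtype.val l)
        · exact absurd (Subtype.ext (I.ht.trans (conj_eq_one_iff.1 l))) B.t1
        · rw [I.ht] at l
          refine mH.2 ?_
          calc _ = g * (g⁻¹ * t * g⁻¹⁻¹) := by rw [l]
            _ = _ := by group
      · obtain ⟨c, hc⟩ := isConj_iff.1 k
        refine absurd ?_ (F.nq (g * c))
        have : (c : G) * q * (c : G)⁻¹ = g⁻¹ * y * g := I.hq ▸ congrArg Subtype.val hc
        rwa [show g * c * q * (g * c)⁻¹ = g * (c * q * (c : G)⁻¹) * g⁻¹ by group, this,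
          show g * (g⁻¹ * y * g) * g⁻¹ = y by group]
      · obtain ⟨c, hc⟩ := isConj_iff.1 k
        refine absurd ?_ (F.nq (g * c))
        have : (c : G) * q⁻¹ * (c : G)⁻¹ = g⁻¹ * y * g := I.hq ▸ congrArg Subtype.val hc
        rw [show g * c * q * (g * c)⁻¹ = (g * (c * q⁻¹ * (c : G)⁻¹) * g⁻¹)⁻¹ by group, this,
          show g * (g⁻¹ * y * g) * g⁻¹ = y by group]
        exact inv_mem yJ

end CL.Ast
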