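/-
Astill's theorem (helper35): the centralizers of the long vectors lie in `N(J)`.
-/
import Cfsg.Agent.Ast.H4

set_option autoImplicit false
set_option synthInstance.maxSize 4096

namespace CL.Ast

open Subgroup Cfsg CL.Grp CL.Rec CL.Perm CL.G23 CL.McL3 CL.McL3.C27 CL.S9R Equiv
open scoped Pointwise

universe u

namespace LongJ

theorem d1 : (∀ v : V3, up v = (v 0).1 • e4 (Fin.succ 0) + (v 1).1 • e4 (Fin.succ 1) + (v 2).1 • e4 (Fin.succ 2)) ∧
    (∀ ε a i, ext ε a (e4 (Fin.succ i)) = if a.2 i = 1 then e4 (a.1 i).succ else -e4 (a.1 i).succ) ∧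
    (∀ v, v = up (tl v) + (v 0).val • e4 0) ∧
    (∀ ε a, ext ε a (e4 0) = e4 0 → (∀ v, ext ε a v - v = 0 ∨ ext ε a v - v = e4 0 ∨ ext ε a v - v = -e4 0) →
      ∀ v, ext ε a v = v) ∧ (∀ v, qM v = ext 1 mr v) ∧ (∀ a, ext 1 a (e4 0) = e4 0) ∧ up 1 = zv ∧
    (∀ w, w = 0 ∨ w = e4 0 ∨ w = -e4 0 → qf zv = qf (w + zv) → w = 0) ∧ (∀ a b : ZMod 3, e4 0 ≠ a • zv + b • mv) ∧
    e4 0 ≠ 0 := by
  refine ⟨?_, ?_, ?_, ?_, ?_, ?_, ?_, ?_, ?_, ?_⟩ <;> decide +kernel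

variable {G Q : Type*} [Group G] [Group Q] {ι : V → G} {J S P : Subgroup G} {t q n g : G} {ε : ℤˣ} {a : Mo}

theorem mon_up (h : Emb ι J) (v : V3) : mon (fun i : Fin 3 => ι (e4 i.succ)) v = ι (up v) := by
  rw [d1.1, h.add, h.add, h.nsmul, h.nsmul, h.nsmul]; rfl

theorem act_of (h : Emb ι J) (k : Lin ι g (ext ε a)) : Act (fun i : Fin 3 => ι (e4 i.succ)) g a := fun i => by
  rw [k, d1.2.1]
  rcases Int.units_eq_one_or (a.2 i) with e | e <;> simp [e, h.neg]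

theorem cube (h : Emb ι J) (k : g ∈ J) : g ^ 3 = 1 := by
  obtain ⟨v, rfl⟩ := (h.mem g).1 k
  exact h.cube v

theorem comm (h : Emb ι J) (k : g ∈ J) {b : G} (l : b ∈ J) : Commute g b := by
  obtain ⟨v, rfl⟩ := (h.mem b).1 l
  exact (h.lin_id k).commute rfl

/-- The hypotheses of the normality lemma hold in `C(y) / ⟨y⟩`. -/
theorem sy [Finite G] (F : GF ι J S P t q n) {C : Subgroup G} (hC : ∀ g, g ∈ C ↔ g * ι (e4 0) = ι (e4 0) * g)
    (JC : J ≤ C) (qC : q ∈ C) (π : C →* Q) (hs : Function.Surjective π) (hk : π.ker = (zpowers (ι (e4 0))).subgroupOf C) :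
    Sy ((J.subgroupOf C).map π) (fun i => π ⟨ι (e4 i.succ), JC (F.memJ _)⟩) (π ⟨q, qC⟩) ∧
      ∀ g : C, π g ∈ normalizer ((J.subgroupOf C).map π : Set Q) → (g : G) ∈ normalizer (J : Set G) := by
  have := Fact.mk Nat.prime_three
  have E := F.toEmb
  obtain ⟨-, -, c3, c4, c5, c6, c7, c8, c9, c10⟩ := d1
  have yJ : zpowers (ι (e4 0)) ≤ J := zpowers_le.2 (E.memJ _)
  have kX : π.ker ≤ J.subgroupOf C := hk.le.trans (subgroupOf_mono _ yJ)
  have cm := comap_map_eq_self kX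
  have one : ∀ g : C, π g = 1 ↔ (g : G) ∈ zpowers (ι (e4 0)) := fun g => by
    rw [← MonoidHom.mem_ker, hk, mem_subgroupOf]
  have mem : ∀ g : C, π g ∈ (J.subgroupOf C).map π → (g : G) ∈ J := fun g hg => cm.le hg
  have nrm : ∀ g : C, π g ∈ normalizer ((J.subgroupOf C).map π : Set Q) → (g : G) ∈ normalizer (J : Set G) :=
    fun g hg => by rwa [← mem_comap, comap_normalizer_eq_of_surjective _ hs, cm, ← subgroupOf_normalizer_eq JC] at hg
  have nrm' : ∀ g : C, (g : G) ∈ normalizer (J : Set G) → π g ∈ normalizer ((J.subgroupOf C).map π : Set Q) :=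
    fun g hg => le_normalizer_map π ⟨g, le_normalizer_comap C.subtype hg, rfl⟩
  have EC : Emb (fun v => (⟨ι v, JC (E.memJ v)⟩ : C)) (J.subgroupOf C) := ⟨fun v w => Subtype.ext (E.add v w),
    fun v w e => E.inj (congrArg Subtype.val e), fun g => (E.mem g).trans (exists_congr fun v =>
      ⟨fun k => Subtype.ext k, congrArg Subtype.val⟩)⟩
  have act : ∀ (g : C) ε a, Lin ι g (ext ε a) → Act (fun i : Fin 3 => π ⟨ι (e4 i.succ), JC (E.memJ _)⟩) (π g) a :=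
    fun g ε a h => H4J.act_map π (act_of EC (ε := ε) fun v => Subtype.ext (h v))
  have mn : ∀ v, mon (fun i : Fin 3 => π ⟨ι (e4 i.succ), JC (E.memJ _)⟩) v = π ⟨ι (up v), JC (E.memJ _)⟩ := fun v =>
    (H4J.mon_map π _ v).trans (congrArg π (mon_up EC v))
  have lin : ∀ g : C, (g : G) ∈ normalizer (J : Set G) → ∃ ε a, Lin ι g (ext ε a) := fun g hg =>
    F.mon4 g hg (by rw [(hC g).1 g.2, mul_inv_cancel_right]; exact mem_zpowers _)
  have cmt : ∀ (g : C) v, π g * π ⟨ι v, JC (E.memJ v)⟩ = π ⟨ι v, JC (E.memJ v)⟩ * π g →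
      g * ι v * (g : G)⁻¹ * (ι v)⁻¹ ∈ zpowers (ι (e4 0)) := fun g v h =>
    (one (g * ⟨ι v, JC (E.memJ v)⟩ * g⁻¹ * (⟨ι v, JC (E.memJ v)⟩ : C)⁻¹)).1 (by simp [h])
  have cent : centralizer (((J.subgroupOf C).map π : Subgroup Q) : Set Q) ≤ (J.subgroupOf C).map π := fun g hg => by
    obtain ⟨g, rfl⟩ := hs g
    obtain ⟨ε, a, h⟩ := lin g (nrm g (centralizer_le_normalizer _ hg))
    refine ⟨g, F.cJ g (h.congr (c4 ε a (E.fix h ((hC g).1 g.2)) fun v => E.mem_zpowers'.1 ?_)), rfl⟩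
    rw [E.sub, ← h]
    exact cmt g v (hg _ ⟨_, E.memJ v, rfl⟩).symm
  refine ⟨⟨⟨?_, le_antisymm ?_ ?_, ?_, ?_, fun g hg _ _ => cent hg, fun g hg => ?_⟩, cent, fun s => ?_,
    act _ 1 _ (F.lq.congr c5), ?_, fun g hg => ?_, fun g hg => ?_, fun K h1 h2 => ?_⟩, nrm⟩
  · have := card_eq_card_inf_ker_mul_card_map π (J.subgroupOf C)
    rw [EC.card, inf_eq_left.2 kX, hk, Nat.card_congr (subgroupOfEquivOfLe (yJ.trans JC)).toEquiv, Nat.card_zpowers,
      E.ord c10] at this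
    omega
  · rintro _ ⟨x, hx, rfl⟩
    obtain ⟨v, rfl⟩ := (EC.mem x).1 hx
    rw [c3 v, EC.add, EC.nsmul, map_mul, map_pow, (one ⟨ι (e4 0), _⟩).2 (mem_zpowers _), one_pow, mul_one, ← mn]
    exact mon_mem (fun i => subset_closure (Set.mem_range_self i)) _
  · rw [closure_le]
    rintro _ ⟨i, rfl⟩
    exact ⟨_, E.memJ _, rfl⟩
  · rintro _ ⟨a, ha, rfl⟩
    rw [← map_pow, cube EC ha, map_one]
  · rintro _ ⟨a, ha, rfl⟩ _ ⟨b, hb, rfl⟩
    exact (comm EC ha hb).map π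
  · obtain ⟨g, rfl⟩ := hs g
    obtain ⟨ε, a, h⟩ := lin g (nrm g hg)
    exact ⟨a, act g ε a h⟩
  · obtain ⟨g, hg⟩ := F.diag 1 s
    exact ⟨_, act ⟨g, (hC g).2 (hg.commute (c6 _))⟩ 1 _ hg⟩
  · rw [← map_pow, show (⟨q, qC⟩ : C) ^ 3 = 1 from Subtype.ext F.q3, map_one]
  · obtain ⟨g, rfl⟩ := hs g
    rw [← map_inv, ← map_mul, ← map_mul] at hg
    exact F.nq g (mem _ hg)
  · obtain ⟨g, rfl⟩ := hs g
    rw [mn, c7] at hg
    have k := cmt g zv (mc.1 hg)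
    obtain ⟨w, hw⟩ := (E.mem _).1 (yJ k)
    have l : g * ι zv * (g : G)⁻¹ = ι (w + zv) := by rw [E.add, hw, inv_mul_cancel_right]
    rw [c8 w (E.mem_zpowers'.1 (hw ▸ k)) (F.fus _ _ (isConj_iff.2 ⟨_, l⟩)), zero_add] at l
    exact nrm' g (F.cz1 g _ (mul_inv_eq_iff_eq_mul.1 l) ((hC g).1 g.2) c9)
  · have DC : (K.comap π).map C.subtype ≤ centralizer (zpowers (ι (e4 0)) : Set G) := by
      rintro _ ⟨g, -, rfl⟩ x hx
      exact (cm_of_mem hx ((hC g).1 g.2)).symm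
    obtain ⟨R, RD, co, -, hR, dec⟩ := exists_compl (p := 3) (D := (K.comap π).map C.subtype) (V := zpowers (ι (e4 0)))
      (fun x hx => ⟨⟨x, JC (yJ hx)⟩, by simp [(one ⟨x, _⟩).2 hx], rfl⟩) (E.isPGroup.to_le yJ) (fun n hn _ => DC hn) (by
        rintro _ ⟨g, hg, rfl⟩ - k l
        exact (one g).1 (orderOf_eq_one_iff.1 (Nat.eq_one_of_dvd_coprimes (h1.pow_right k) (K.orderOf_dvd_natCard hg)
          (orderOf_dvd_of_pow_eq_one (by rw [← map_pow, show g ^ 3 ^ k = 1 from Subtype.ext l, map_one])))))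
    have R1 := F.sig R co fun j hj => mem_normalizer_fintype fun r hr => hR _ ((mem_normalizer_iff.1
      (le_normalizer_map C.subtype ⟨⟨j, JC hj⟩, le_normalizer_comap π (h2 ⟨_, hj, rfl⟩), rfl⟩) r).1 (RD hr)) (by
        rw [show orderOf (j * r * j⁻¹) = _ from (MulAut.conj j).orderOf_eq r]
        exact co.coprime_dvd_left (R.orderOf_dvd_natCard hr))
    refine eq_bot_iff.2 fun k hk => ?_
    obtain ⟨k, rfl⟩ := hs k
    obtain ⟨r, hr, v, hv, e⟩ := dec k ⟨k, hk, rfl⟩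
    rw [R1, mem_bot] at hr
    exact (one k).2 (by rwa [e, hr, one_mul])

end LongJ

theorem longThm (m : M27Thm.{u}) : LongThm.{u} := by
  intro G _ _ ι J S P t q n F
  have E := F.toEmb
  have h0 : centralizer {ι (e4 0)} ≤ normalizer (J : Set G) := fun g hg => by
    have := Sx.nzp (ι (e4 0))
    obtain ⟨k, l⟩ := LongJ.sy F (C := centralizer {ι (e4 0)}) (fun _ => mc) (fun j hj => mc.2 (LongJ.comm E hj (E.memJ _)))
      (mc.2 (F.lq.commute (by decide))) (QuotientGroup.mk' _) (QuotientGroup.mk'_surjective _) (QuotientGroup.ker_mk' _)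
    have := m k
    exact l ⟨g, hg⟩ ((normalizer_eq_top _).ge (mem_top _))
  obtain ⟨x, hx⟩ := F.lx
  have h1 : centralizer {ι (e4 1)} ≤ normalizer (J : Set G) := by
    have := A9R.cent_conj h0 (inv_mem (E.norm hx))
    rwa [← show xM (e4 1) = e4 0 by decide, ← hx, show x⁻¹ * (x * ι (e4 1) * x⁻¹) * x⁻¹⁻¹ = ι (e4 1) by group] at this
  have h2 := A9R.cent_conj h1 (E.norm F.lq)
  rw [F.lq, show qM (e4 1) = e4 2 by decide] at h2
  have h3 := A9R.cent_conj h2 (E.norm F.lq)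
  rw [F.lq, show qM (e4 2) = e4 3 by decide] at h3
  refine ⟨F, fun i => ?_⟩
  fin_cases i
  exacts [h0, h1, h2, h3]

end CL.Ast
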