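/-
Astill's theorem (helper35): the passage from `G` to `H = C(t)`.
-/
import Cfsg.Agent.Ast.Long

set_option autoImplicit false
set_option synthInstance.maxSize 4096

namespace CL.Ast

open Subgroup Cfsg CL.Grp CL.Rec CL.Perm CL.G23 CL.McL3 CL.McL3.C27 CL.S9R Equiv
open scoped Pointwise

universe u

namespace HIJ

def fs (s : ℤˣ) : V := (s : ℤ) • e4 0

theorem d2 : (∀ v, tM (up v) = up v) ∧ (∀ i : Fin 3, tM (e4 i.succ) = e4 i.succ) ∧ (∀ v, tM v = v → v = up (tl v)) ∧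
    (∀ v, tl (up v) = v) ∧ (∀ v, qf (e4 (Fin.succ 0)) = qf (up v) → ∃ j, up v = e4 j ∨ up v = -e4 j) ∧
    (∀ v, tM v = -v → v = 0 ∨ v = e4 0 ∨ v = -e4 0) ∧
    ((∀ w (c : ZMod 3), tM (up w + c • e4 0) = up w + -c • e4 0) ∧ ∀ v, tl (tM v) = tl v) ∧
    (∀ ε a, (∀ v, ext ε a (up v) = up v) → (∀ v, ext ε a v = v) ∨ ∀ v, ext ε a (tM v) = v) ∧
    (∀ ε a s, ext ε a (fs s) = fs (ε * s)) ∧ (∀ s, tM (fs s) = fs (-s)) ∧ (∀ ε : ℤˣ, fs (ε * (ε * 1)) ≠ fs (-1)) ∧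
    (∀ ε δ : ℤˣ, fs (ε * (δ * 1)) ≠ fs (δ * -(ε * 1))) ∧
    (∀ v, dot v 1 = 0 → ∃ a b : Fin 3, up v = a.1 • zv + b.1 • mv) ∧ tM (e4 0) = -e4 0 := by
  refine ⟨?_, ?_, ?_, ?_, ?_, ?_, ?_, ?_, ?_, ?_, ?_, ?_, ?_, ?_⟩ <;> decide +kernel

theorem tM_ext (ε : ℤˣ) (a : Mo) (v : V) : tM (ext ε a v) = ext ε a (tM v) := by
  rw [ext, ext, d2.2.2.2.2.2.2.1.1, d2.2.2.2.2.2.2.1.2, ← smul_neg]; rfl

variable {G : Type*} [Group G] {ι : V → G} {J S P : Subgroup G} {t q n : G}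

/-- commuting lifts -/
theorem lift (F : Cz ι J S P t q n) {g : G} {γ : V → V} (h : Lin ι g γ) (c : ∀ v, tM (γ v) = γ (tM v)) :
    ∃ n, n * t = t * n ∧ Lin ι n γ := by
  have k : (g * t)⁻¹ * (t * g) ∈ J := F.cJ _ fun v => by
    have := (F.lt.mul h v).trans ((congrArg ι (c v)).trans (h.mul F.lt v).symm)
    calc _ = (g * t)⁻¹ * (t * g * ι v * (t * g)⁻¹) * (g * t) := by group
      _ = _ := by rw [this]; simp [mul_assoc]
  refine ⟨_, ?_, h.mul (F.lin_id k)⟩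
  calc _ = g * ((g * t)⁻¹ * (t * g)) ^ 3 * g⁻¹ * (t⁻¹ * g * t * g⁻¹ * t⁻¹ * g * (t * t)) := by rw [pow_three]; group
    _ = _ := by rw [LongJ.cube F.toEmb k, F.q8.t2]; simp [F.q8.tinv, mul_assoc]

end HIJ

open HIJ LongJ in
theorem hiThm : HIThm.{u} := by
  intro G _ _ ι J S P t q n F
  have E := F.toEmb
  have Q := F.q8
  obtain ⟨c1, c2, c3, c4, c5, c6, -, c8, c9, c10, c11, c12, c13, c14⟩ := d2
  obtain ⟨e, he0⟩ : ∃ e : Fin 3 → centralizer ({t} : Set G), ∀ i, (e i : G) = ι (e4 i.succ) :=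
    ⟨fun i => ⟨_, mc.2 (F.lt.commute (c2 i)).symm⟩, fun _ => rfl⟩
  have he : ∀ v, ((mon e v : centralizer ({t} : Set G)) : G) = ι (up v) := fun v => by
    rw [← mon_up E, ← funext he0]; exact (H4J.mon_map (centralizer ({t} : Set G)).subtype e v).symm
  have mX : ∀ v, mon e v ∈ J.subgroupOf (centralizer {t}) := fun v => by rw [mem_subgroupOf, he]; exact E.memJ _
  have exm : ∀ g ∈ J.subgroupOf (centralizer {t}), ∃ v, mon e v = g := fun g hg => by
    obtain ⟨w, hw⟩ := (E.mem _).1 hg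
    exact ⟨tl w, Subtype.ext (by rw [he, ← c3 w (E.fix F.lt (hw ▸ (mc.1 g.2).symm)), hw]; rfl)⟩
  have ofN : ∀ g : centralizer ({t} : Set G), (g : G) ∈ normalizer (J : Set G) →
      g ∈ normalizer (J.subgroupOf (centralizer {t}) : Set (centralizer ({t} : Set G))) :=
    fun g hg => le_normalizer_comap (centralizer ({t} : Set G)).subtype hg
  have ofJ : ∀ (g : centralizer ({t} : Set G)) ε a, Lin ι g (ext ε a) → Act e g a := fun g ε a h i =>
    Subtype.ext (by simpa [he0] using act_of E h i)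
  have lift : ∀ g ε a, Lin ι g (ext ε a) → ∃ n : centralizer ({t} : Set G), Lin ι n (ext ε a) := fun g ε a h =>
    let ⟨n, k, l⟩ := HIJ.lift F.toCz h (tM_ext ε a); ⟨⟨n, mc.2 k⟩, l⟩
  have toJ : ∀ g ∈ normalizer (J.subgroupOf (centralizer {t}) : Set (centralizer ({t} : Set G))),
      ∃ ε a, Lin ι g (ext ε a) ∧ Act e g a := fun g hg => by
    obtain ⟨v, hv⟩ := exm _ ((mem_normalizer_iff.1 hg _).1 (mon_single (x := e) 0 ▸ mX _))
    have k : ι (up v) = g * ι (e4 (Fin.succ 0)) * (g : G)⁻¹ := by rw [← he, hv, ← he0]; rfl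
    have l : centralizer {ι (up v)} ≤ normalizer (J : Set G) := by
      obtain ⟨j, l | l⟩ := c5 v (F.fus _ _ (isConj_iff.2 ⟨_, k.symm⟩))
      · exact l ▸ F.long j
      · exact fun x hx => F.long j (mc.2 (by
          simpa [l, E.neg] using (show Commute x (ι (up v)) from mc.1 hx).inv_right.eq))
    have gN : (g : G) ∈ normalizer (J : Set G) := F.wc g fun j hj => l (mc.2 (by
      rw [k, conj_mul, conj_mul, (comm E hj (E.memJ _)).eq]))
    obtain ⟨w, hw⟩ := (E.mem _).1 ((mem_normalizer_iff.1 gN _).1 (E.memJ (e4 0)))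
    obtain ⟨ε, a, h⟩ := F.mon4 g gN (hw ▸ E.mem_zpowers'.2 (c6 w (E.inj (by
      rw [← F.lt, E.neg, hw]
      calc _ = t * g * ι (e4 0) * (t * g)⁻¹ := by group
        _ = g * (t * ι (e4 0) * t⁻¹) * (g : G)⁻¹ := by rw [← mc.1 g.2]; group
        _ = _ := by rw [F.lt, c14, E.neg]; group))))
    exact ⟨ε, a, h, ofJ g ε a h⟩
  obtain ⟨t', ht⟩ : ∃ t' : centralizer ({t} : Set G), (t' : G) = t := ⟨⟨t, mc.2 rfl⟩, rfl⟩
  obtain ⟨q', hq⟩ : ∃ q' : centralizer ({t} : Set G), (q' : G) = q := ⟨⟨q, mc.2 F.tq.symm⟩, rfl⟩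
  have cen : ∀ g, g * t' = t' * g := fun g => Subtype.ext (by simpa [ht] using mc.1 g.2)
  have t2 : t' * t' = 1 := Subtype.ext (by simpa [ht] using Q.t2)
  have t1 : t' ≠ 1 := fun k => Q.t1 (by rw [← ht, k]; rfl)
  have lt : Lin ι t' tM := by rw [ht]; exact F.lt
  have PH : P ≤ centralizer {t} := fun p hp => mc.2 (Q.ct hp)
  have cent : ∀ g ∈ centralizer (J.subgroupOf (centralizer {t}) : Set (centralizer ({t} : Set G))),
      g ∈ J.subgroupOf (centralizer {t}) ∨ g * t' ∈ J.subgroupOf (centralizer {t}) := fun g hg => by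
    obtain ⟨ε, a, h, -⟩ := toJ g (centralizer_le_normalizer _ hg)
    exact (c8 ε a fun v => E.fix h (he v ▸ congrArg Subtype.val (hg _ (mX v)).symm)).imp (fun k => F.cJ _ (h.congr k))
      fun k => F.cJ _ ((h.mul lt).congr k)
  refine ⟨t', J.subgroupOf _, e, q', P.subgroupOf _, ⟨⟨⟨?_, le_antisymm (fun g hg => ?_) ?_,
    fun a ha => Subtype.ext (cube E ha), fun a ha b hb => Subtype.ext (comm E ha hb).eq, fun g hg k h => ?_,
    fun g hg => ?_⟩, t2, t1, cen, cent, fun s => ?_, ofJ _ 1 _ (hq ▸ F.lq.congr d1.2.2.2.2.1),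
    Subtype.ext (by simpa [hq] using F.q3), fun g hg => F.nq g (hq ▸ hg), fun g hg k => ?_, fun g hg x hx k => ?_,
    fun i g hg => ofN g (F.long i.succ (mc.2 (he0 i ▸ congrArg Subtype.val (mc.1 hg))))⟩,
    ⟨by rw [Nat.card_congr (subgroupOfEquivOfLe PH).toEquiv, Q.card], t2, t1, mem_subgroupOf.2 (by rw [ht]; exact Q.mem),
    fun p hp => ?_⟩, fun g hg => ?_, fun g hg => ?_, fun v hv p hp => ?_, ?_⟩, ht, hq, he, toJ, ofJ, lift⟩
  · rw [← Nat.card_congr (Equiv.ofBijective (fun v => (⟨mon e v, mX v⟩ : J.subgroupOf (centralizer {t})))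
      ⟨fun v w k => by rw [← c4 v, E.inj ((he v).symm.trans ((congrArg (fun x => (x.1 : G)) k).trans (he w))), c4],
        fun j => (exm _ j.2).imp fun _ k => Subtype.ext k⟩)]
    simp
  · obtain ⟨v, rfl⟩ := exm g hg
    exact mon_mem (fun i => subset_closure (Set.mem_range_self i)) _
  · rw [closure_le]
    rintro _ ⟨i, rfl⟩
    exact mon_single (x := e) i ▸ mX _
  · refine (cent g hg).elim id fun l => mem_of_four ?_ (h ▸ one_mem _)
    have l2 := mul_mem l l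
    rw [mul_assoc, ← mul_assoc t', ← cen, mul_assoc g, t2, mul_one] at l2
    simpa [pow_succ, mul_assoc] using mul_mem l2 l2
  · obtain ⟨-, a, -, h⟩ := toJ g hg
    exact ⟨a, h⟩
  · obtain ⟨g, hg⟩ := F.diag 1 s
    obtain ⟨n, hn⟩ := lift g _ _ hg
    exact ⟨n, ofJ n _ _ hn⟩
  · obtain ⟨ε, a, h, -⟩ := toJ g hg
    have := E.lin_ext (h.mul h) (by rw [← coe_mul, k]; exact lt) (fs 1)
    rw [c9, c9, c10] at this
    exact c11 ε this
  · obtain ⟨ε, a, h, -⟩ := toJ g hg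
    obtain ⟨δ, b, l, -⟩ := toJ x hx
    have := E.lin_ext (h.mul l) (by
      rw [← coe_mul, mul_inv_eq_iff_eq_mul.1 k, mul_assoc]; exact l.mul (lt.mul h)) (fs 1)
    simp only [c9, c10] at this
    exact c12 ε δ this
  · exact (Q.sq p hp).imp Subtype.ext (.imp (fun k => Subtype.ext (k.trans ht.symm)) fun k => Subtype.ext (k.trans ht.symm))
  · refine le_normalizer_comap (centralizer ({t} : Set G)).subtype (F.nP g (mc.1 g.2) ?_)
    obtain ⟨k, hk⟩ := hg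
    exact ⟨k, by simpa [he, d1.2.2.2.2.2.2.1] using congrArg Subtype.val hk⟩
  · obtain ⟨p, hp, k, hk, l⟩ := F.czP g (mc.1 g.2) (by simpa [he, d1.2.2.2.2.2.2.1] using congrArg Subtype.val hg)
    exact ⟨⟨p, PH hp⟩, hp, ⟨k, (mul_mem_cancel_left (PH hp)).1 (l ▸ g.2)⟩, ofN _ hk, Subtype.ext l⟩
  · obtain ⟨a, b, k⟩ := c13 v hv
    refine Subtype.ext ?_
    rw [coe_mul, coe_mul, he, k, E.add, E.nsmul, E.nsmul]
    exact (((show Commute _ _ from F.Pz p hp).pow_right _).mul_right ((show Commute _ _ from F.Pm p hp).pow_right _)).symm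
  · obtain ⟨p, hp, k⟩ := F.ncP
    exact ⟨⟨p, PH hp⟩, hp, fun l => k (by simpa [he0] using congrArg Subtype.val l)⟩

end CL.Ast
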