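/-
Astill's theorem (job AST-HX, helper62): exports from `H = R N(X)`.
-/
import Cfsg.Agent.Ast.Base

set_option autoImplicit false
set_option synthInstance.maxSize 4096

namespace CL.Ast

open Subgroup Cfsg CL.Grp CL.Rec CL.Perm CL.G23 CL.McL3 CL.McL3.C27 CL.S9R Equiv
open scoped Pointwise

universe u

variable {G : Type*} [Group G] {t : G} {X : Subgroup G} {e : Fin 3 → G} {q : G} {g h n : G} {a b : Mo} {v w : V3}

/-- the affine group of `F₃` -/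
def aff (c : Fin 3) (ε : ℤˣ) : Perm (Fin 3) := finRotate 3 ^ c.1 * (if ε = 1 then 1 else swap 1 2)
def rho (u : V3) (s : Fin 3 → ℤˣ) : CL.O8.X := (aff (u 0) (s 0), aff (u 1) (s 1), aff (u 2) (s 2))

theorem hx_aff : (∀ c c' ε ε', aff (c + if ε = 1 then c' else -c') (ε * ε') = aff c ε * aff c' ε') ∧
    (∀ p, ∃ c ε, aff c ε = p) ∧ (∀ c ε, aff c ε = 1 → c = 0 ∧ ε = 1) ∧ aff 0 1 = 1 ∧
    ∀ (s : Fin 3 → ℤˣ) (u : V3) (j : Fin 3), av (1, s) u j = if s j = 1 then u j else -u j := by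
  refine ⟨?_, ?_, ?_, ?_, ?_⟩ <;> decide +kernel

theorem hx_dec : (∀ v : V3, dot v w1 = 0 → dot v w2 = 0 → dot v w3 = 0 → dot v w4 = 0 → v = 0) ∧
    (∀ a : Mo, (∀ u, dot (u + -av a u) w1 = 0) → (∀ u, dot (u + -av a u) w2 = 0) → a = m1 ∨ a = mτ) ∧
    (∀ u : V3, av mι u = u → u = 0) ∧ (∀ s : Fin 3 → ℤˣ, mm mι (1, s) = mm (1, s) mι ∧ mm (1, s) (mi (1, s)) = m1) ∧
    (∀ a : Mo, mm (mm a m1) (mi a) = m1 ∧ mm (mm (mm m1 a) (mi m1)) (mi a) = m1) ∧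
    (∀ w, Sg w → dot (Pi.single 0 1) w ≠ 0 ∧ dot (Pi.single 2 1) w ≠ 0) := by
  refine ⟨?_, ?_, ?_, ?_, ?_, ?_⟩ <;> decide +kernel

theorem rho_mul (u u' : V3) (s s' : Fin 3 → ℤˣ) : rho (u + av (1, s) u') (s * s') = rho u s * rho u' s' := by
  simp only [rho, Pi.add_apply, Pi.mul_apply, hx_aff.2.2.2.2, hx_aff.1, Prod.mk_mul_mk]

/-- the elements that act trivially on `A` modulo `t` -/
def HB.TS (F : HB t X e q) (A : Subgroup G) : Subgroup G where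
  carrier := {g | ∀ p ∈ A, g * p * g⁻¹ * p⁻¹ ∈ zpowers t}
  one_mem' := fun p _ => by simp
  mul_mem' := fun {g h} hg hh p hp => by
    have := mul_mem ((F.conj_z_iff (h := g)).2 (hh p hp)) (hg p hp)
    rwa [show g * (h * p * h⁻¹ * p⁻¹) * g⁻¹ * (g * p * g⁻¹ * p⁻¹) = g * h * p * (g * h)⁻¹ * p⁻¹ by group] at this
  inv_mem' := fun {g} hg p hp => by
    have := (F.conj_z_iff (h := g⁻¹)).2 (inv_mem (hg p hp))
    rwa [show g⁻¹ * (g * p * g⁻¹ * p⁻¹)⁻¹ * g⁻¹⁻¹ = g⁻¹ * p * g⁻¹⁻¹ * p⁻¹ by group] at this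

theorem HB.TS_conj (F : HB t X e q) {A : Subgroup G} (hh : h ∈ normalizer (A : Set G)) (hg : g ∈ F.TS A) :
    h * g * h⁻¹ ∈ F.TS A := fun p hp => by
  have := (F.conj_z_iff (h := h)).2 (hg _ ((mem_normalizer_iff.1 (inv_mem hh) p).1 hp))
  rwa [show h * (g * (h⁻¹ * p * h⁻¹⁻¹) * g⁻¹ * (h⁻¹ * p * h⁻¹⁻¹)⁻¹) * h⁻¹ =
    h * g * h⁻¹ * p * (h * g * h⁻¹)⁻¹ * p⁻¹ by group] at this

theorem HB.TS_of_comm (F : HB t X e q) {A : Subgroup G} (hg : ∀ p ∈ A, g * p = p * g) : g ∈ F.TS A := fun p hp => by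
  rw [hg p hp]; simp

namespace HS3

variable {P : V3 → Subgroup G} (F : HS3 t X e q P)
include F

theorem XN (hw : Sg w) {x : G} (hx : x ∈ X) : x ∈ normalizer (P w : Set G) := F.nz w x hw (by
  rw [(F.comm x hx _ (F.toMn.mJ w)).eq, mul_inv_cancel_right]; exact mem_zpowers _)

theorem XR {x : G} (hx : x ∈ X) (hR : x ∈ RR P) : x = 1 := F.toHB.X_z hx (F.RN x hR (le_normalizer hx))

theorem R_TS {A : Subgroup G} (hA : A ≤ RR P) (hg : g ∈ RR P) : g ∈ F.toHB.TS A := fun p hp => F.cmR g hg p (hA hp)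

theorem dot_of_TS (hw : Sg w) (hv : mon e v ∈ F.toHB.TS (P w)) : dot v w = 0 := by
  by_contra h
  obtain ⟨p, hp, hp'⟩ := (F.q8 w hw).ex_out
  exact hp' (F.fp v w hw h p hp (hv p hp))

theorem zero_of_TS (hv : mon e v ∈ F.toHB.TS (RR P)) : v = 0 := by
  have k : ∀ w, Sg w → dot v w = 0 := fun w hw => F.dot_of_TS hw fun p hp => hv p (F.PR w hw hp)
  exact hx_dec.1 v (k _ (by decide)) (k _ (by decide)) (k _ (by decide)) (k _ (by decide))

theorem comm_TS {A : Subgroup G} (hA : X ≤ normalizer (A : Set G)) (hn : Act e n a) (h : n ∈ F.toHB.TS A) (u : V3) :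
    mon e (u + -av a u) ∈ F.toHB.TS A := by
  have := mul_mem (F.toHB.TS_conj (hA (F.toMn.mJ u)) h) (inv_mem h)
  rwa [F.toMn.add, F.toMn.neg, ← F.toMn.app hn, show mon e u * (n * mon e u * n⁻¹)⁻¹ =
    mon e u * n * (mon e u)⁻¹ * n⁻¹ by group]

theorem hx_tau [Finite G] {τ : G} (h2 : τ * τ = 1) (h : Act e τ mτ) {p : G} (hp : p ∈ P w1 ⊔ P w2) : τ * p = p * τ := by
  have k : ∀ w, Sg w → av mτ w = w → P w ≤ centralizer {τ} := fun w hw hf p hp =>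
    mem_centralizer_singleton_iff.2 ((F.q8 w hw).cent_of_comm
      (F.nz w τ hw (by rw [F.toMn.app h, hf]; exact mem_zpowers _)) (fun p _ => by rw [h2, one_mul, mul_one])
      (F.XN hw (F.toMn.mJ (Pi.single 2 1))) ((F.toMn.fix h).2 (by decide +kernel))
      (F.fp _ w hw (hx_dec.2.2.2.2.2 w hw).2) p hp).symm
  exact (mem_centralizer_singleton_iff.1
    (sup_le (k w1 (by decide) (by decide +kernel)) (k w2 (by decide) (by decide +kernel)) hp)).symm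

theorem z_of_comm (hw : Sg w) {p : G} (hp : p ∈ P w) (h : ∀ b ∈ P w, Commute b p) : p ∈ zpowers t := by
  by_contra h1
  obtain ⟨b, hb, k⟩ := (F.q8 w hw).ex_anti hp h1
  rw [(h b hb).eq, mul_inv_cancel_right, left_eq_mul] at k
  exact F.t1 k

theorem hx_Rc (hg : g ∈ RR P) (h : ∀ p ∈ P w1 ⊔ P w2, Commute p g) : Commute g (mon e ![1, 1, 0]) := by
  obtain ⟨p1, h1, p2, h2, p3, h3, p4, h4, e1⟩ := F.dec c_sg.2.2.2.2.1 g hg
  have c : ∀ A B, Sg A ∧ Sg B ∧ Nq A B → ∀ a ∈ P A, ∀ b ∈ P B, Commute a b := fun A B k =>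
    F.cm A B k.1 k.2.1 k.2.2
  have k1 : p1 ∈ zpowers t := F.z_of_comm (by decide) h1 fun b hb => by
    rw [show p1 = g * p4⁻¹ * p3⁻¹ * p2⁻¹ by rw [e1]; group]
    exact (((h b (mem_sup_left hb)).mul_right (c w1 w4 (by decide) b hb _ h4).inv_right).mul_right
      (c w1 w3 (by decide) b hb _ h3).inv_right).mul_right (c w1 w2 (by decide) b hb _ h2).inv_right
  have k2 : p2 ∈ zpowers t := F.z_of_comm (by decide) h2 fun b hb => by
    rw [show p2 = p1⁻¹ * g * p4⁻¹ * p3⁻¹ by rw [e1]; group]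
    exact (((c w2 w1 (by decide) b hb _ h1).inv_right.mul_right (h b (mem_sup_right hb))).mul_right
      (c w2 w4 (by decide) b hb _ h4).inv_right).mul_right (c w2 w3 (by decide) b hb _ h3).inv_right
  rw [e1]
  exact Commute.mul_left (Commute.mul_left (Commute.mul_left (F.toHB.cz k1 _) (F.toHB.cz k2 _))
    (F.cP _ w3 (by decide) (by decide) p3 h3).symm) (F.cP _ w4 (by decide) (by decide) p4 h4).symm

theorem hx_Tc [Finite G] (h1 : Mu X e P g a) (h : ∀ p ∈ P w1 ⊔ P w2, g * p = p * g) :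
    g * mon e ![1, 1, 0] = mon e ![1, 1, 0] * g := by
  obtain ⟨v, hv, n, hn, ha, e1⟩ := h1
  have k : ∀ w, Sg w → P w ≤ P w1 ⊔ P w2 → ∀ u, dot (u + -av a u) w = 0 := fun w hw hle u =>
    F.dot_of_TS hw (F.comm_TS (fun _ => F.XN hw) ha (by
      rw [show n = v⁻¹ * g by rw [e1]; group]
      exact mul_mem (inv_mem (F.R_TS (F.PR w hw) hv)) (F.toHB.TS_of_comm fun p hp => h p (hle hp))) u)
  obtain ⟨n0, h0, c0, y0⟩ : ∃ n0, Act e n0 a ∧ (∀ p ∈ P w1 ⊔ P w2, Commute p n0) ∧ Commute n0 (mon e ![1, 1, 0]) := by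
    rcases hx_dec.2.1 a (k w1 (by decide) le_sup_left) (k w2 (by decide) le_sup_right) with rfl | rfl
    · exact ⟨1, F.toMn.actJ (one_mem _), fun p _ => Commute.one_right p, Commute.one_left _⟩
    · obtain ⟨c1, c2⟩ := F.toHB.cube_inv ha (by decide +kernel)
      exact ⟨_, c2, fun p hp => (F.hx_tau c1 c2 hp).symm, (F.toMn.fix c2).2 (by decide +kernel)⟩
  have hv' := (mem_normalizer_iff.1 (F.nR (inv_mem (F.toMn.memH h0))) v).1 hv
  obtain ⟨v', hv', x, hx, e2⟩ : ∃ v' ∈ RR P, ∃ x ∈ X, g = n0 * (v' * x) := by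
    obtain ⟨x, hx, k | k⟩ := F.toHB.C_cases (F.toMn.memC ha h0)
    · exact ⟨_, hv', x, hx, by rw [← k, e1]; group⟩
    · exact ⟨_, mul_mem hv' F.tR, x, hx, by rw [mul_assoc _ t, ← F.cen x, ← k, e1]; group⟩
  obtain ⟨u, rfl⟩ := F.toMn.exm hx
  have c1 : ∀ p ∈ P w1 ⊔ P w2, Commute p (v' * mon e u) := fun p hp => by
    rw [show v' * mon e u = n0⁻¹ * g by rw [e2]; group]
    exact (c0 p hp).inv_right.mul_right (h p hp).symm
  have k2 : ∀ w, Sg w → P w ≤ P w1 ⊔ P w2 → P w ≤ centralizer {mon e u} := fun w hw hle p hp =>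
    mem_centralizer_singleton_iff.2 (F.cP u w hw (F.dot_of_TS hw (by
      rw [show mon e u = v'⁻¹ * (v' * mon e u) by group]
      exact mul_mem (inv_mem (F.R_TS (F.PR w hw) hv')) (F.toHB.TS_of_comm fun p hp => (c1 p (hle hp)).symm))) p hp).symm
  have c2 := F.hx_Rc hv' fun p hp => by
    rw [show v' = v' * mon e u * (mon e u)⁻¹ by group]
    exact (c1 p hp).mul_right (Commute.inv_right (mem_centralizer_singleton_iff.1
      (sup_le (k2 w1 (by decide) le_sup_left) (k2 w2 (by decide) le_sup_right) hp)))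
  rw [e2]
  exact (y0.mul_left (c2.mul_left (F.comm _ hx _ (F.toMn.mJ _)))).eq

theorem hx_cR (h1 : Mu X e P g a) (h : g ∈ centralizer (RR P : Set G)) : g ∈ RR P := by
  obtain ⟨v, hv, n, hn, ha, e1⟩ := h1
  have k : n ∈ F.toHB.TS (RR P) := by
    rw [show n = v⁻¹ * g by rw [e1]; group]
    exact mul_mem (inv_mem (F.R_TS le_rfl hv)) (F.toHB.TS_of_comm fun p hp => (h p hp).symm)
  have hc : n ∈ centralizer (X : Set G) := fun x hx => by
    obtain ⟨u, rfl⟩ := F.toMn.exm hx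
    exact ((F.toMn.fix ha).2 (add_neg_eq_zero.1
      (F.zero_of_TS (F.comm_TS (le_normalizer.trans F.nR) ha k u))).symm).symm
  rw [e1]
  refine mul_mem hv ?_
  obtain ⟨x, hx, k' | k'⟩ := F.toHB.C_cases hc <;> obtain ⟨u, rfl⟩ := F.toMn.exm hx <;> rw [k'] at k ⊢
  · rw [F.zero_of_TS k, mon_zero]; exact one_mem _
  · rw [F.zero_of_TS ((mul_mem_cancel_right (F.R_TS le_rfl F.tR)).1 k), mon_zero, one_mul]; exact F.tR

theorem hx_r [Finite G] : ∃ r : G → CL.O8.X, ∃ Rel : G → V3 → (Fin 3 → ℤˣ) → Prop,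
    (∀ g u s, Rel g u s → r g = rho u s ∧ Mu X e P g (1, s)) ∧ (∀ g s, Mu X e P g (1, s) → ∃ u, Rel g u s) ∧
    (∀ u s, ∃ g, Rel g u s) ∧ (∀ g, Rel g 0 1 ↔ g ∈ RR P) ∧
    ∀ g u s h u' s', Rel g u s → Rel h u' s' → Rel (g * h) (u + av (1, s) u') (s * s') := by
  obtain ⟨i, i2, hi⟩ := F.toHB.ex_inv (a := mι) (F.diag _) (by decide +kernel)
  choose l hl li _ using fun s => F.toHB.lift hi i2 (F.diag s) (hx_dec.2.2.2.1 s).1
  have hA : ∀ c ∈ centralizer (X : Set G), Commute c i → c ∈ zpowers t := fun c hc h => by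
    have k : ∀ x ∈ X, Commute x i → x = 1 := fun x hx h => by
      obtain ⟨u, rfl⟩ := F.toMn.exm hx
      rw [hx_dec.2.2.1 u ((F.toMn.fix hi).1 h.symm.eq), mon_zero]
    obtain ⟨x, hx, rfl | rfl⟩ := F.toHB.C_cases hc
    · rw [k _ hx h]; exact one_mem _
    · rw [k x hx (by simpa using h.mul_left (Commute.inv_left (F.cen i).symm)), one_mul]; exact mem_zpowers _
  have zR : zpowers t ≤ RR P := zpowers_le.2 F.tR
  have l1 : l 1 ∈ RR P := zR (hA _ ((F.toMn.C_iff (hl 1)).2 (by decide +kernel)) (li 1))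
  obtain ⟨Rel, hRel⟩ : ∃ Rel : G → V3 → (Fin 3 → ℤˣ) → Prop,
      ∀ g u s, Rel g u s ↔ ∃ v ∈ RR P, g = v * (mon e u * l s) := ⟨_, fun _ _ _ => Iff.rfl⟩
  have hM : ∀ g u s, Rel g u s → Mu X e P g (1, s) := fun g u s h => by
    obtain ⟨v, hv, rfl⟩ := (hRel _ _ _).1 h
    have := F.toMn.actL (F.toMn.leC (F.toMn.mJ u)) (hl s)
    exact ⟨v, hv, _, F.toMn.memH this, this, rfl⟩
  have hU : ∀ g, ∃ y, ∀ u s, Rel g u s → y = rho u s := fun g => by
    by_cases h : ∃ u s, Rel g u s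
    · obtain ⟨u, s, h⟩ := h
      refine ⟨rho u s, fun u' s' h' => ?_⟩
      obtain rfl : s = s' := congrArg Prod.snd (F.mu_uniq (hM _ _ _ h) (hM _ _ _ h'))
      obtain ⟨v, hv, e1⟩ := (hRel _ _ _).1 h
      obtain ⟨v', hv', e2⟩ := (hRel _ _ _).1 h'
      have e3 : mon e u * (mon e u')⁻¹ = v⁻¹ * v' := by
        calc _ = v⁻¹ * (v * (mon e u * l s)) * (mon e u' * l s)⁻¹ := by group
          _ = _ := by rw [← e1, e2]; group
      have := F.XR (mul_mem (F.toMn.mJ u) (inv_mem (F.toMn.mJ u'))) (e3 ▸ mul_mem (inv_mem hv) hv')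
      rw [F.toMn.inj (mul_inv_eq_one.1 this)]
    · exact ⟨1, fun u s h' => absurd ⟨u, s, h'⟩ h⟩
  choose r hr using hU
  refine ⟨r, Rel, fun g u s h => ⟨hr g u s h, hM g u s h⟩, fun g s h => ?_,
    fun u s => ⟨_, (hRel _ _ _).2 ⟨1, one_mem _, rfl⟩⟩, fun g => ?_, fun g u s h u' s' h1 h2 => ?_⟩
  · obtain ⟨v, hv, n, -, ha, rfl⟩ := h
    obtain ⟨x, hx, k | k⟩ := F.toHB.C_cases ((F.toMn.C_iff (ha.mul (hl s).inv)).2 (hx_dec.2.2.2.1 s).2) <;>
      obtain ⟨u, rfl⟩ := F.toMn.exm hx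
    · exact ⟨u, (hRel _ _ _).2 ⟨v, hv, by rw [← k]; group⟩⟩
    · exact ⟨u, (hRel _ _ _).2 ⟨_, mul_mem hv F.tR, by
        rw [mul_assoc v, ← mul_assoc t, ← F.cen, ← k]; group⟩⟩
  · rw [hRel, mon_zero, one_mul]
    exact ⟨fun ⟨v, hv, k⟩ => k ▸ mul_mem hv l1, fun hg => ⟨_, mul_mem hg (inv_mem l1), by group⟩⟩
  · obtain ⟨v, hv, rfl⟩ := (hRel _ _ _).1 h1
    obtain ⟨v', hv', rfl⟩ := (hRel _ _ _).1 h2
    have k1 : Act e (l s * l s') (1, s * s') := by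
      have := (hl s).mul (hl s')
      rwa [show mm (1, s) (1, s') = (1, s * s') from Prod.ext (one_mul _) (funext fun i => mul_comm _ _)] at this
    have k2 := hA _ (F.toMn.memC k1 (hl _)) ((Commute.inv_left (li _)).mul_left (Commute.mul_left (li s) (li s')))
    have k3 := (mem_normalizer_iff.1 (F.nR (mul_mem (le_normalizer (F.toMn.mJ u)) (F.toMn.memH (hl s)))) v').1 hv'
    refine (hRel _ _ _).2 ⟨_, mul_mem (mul_mem hv k3) (zR k2), ?_⟩
    rw [mul_assoc _ (_⁻¹ * _), F.toHB.cz k2, F.toMn.add, ← F.toMn.app (hl s)]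
    group

end HS3

theorem hxThm : HXThm.{u} := fun {G} _ _ {t X e q P} F => by
  choose μ hμ using F.all
  have F3 := F.toHS3
  have μe : ∀ {g a}, Mu X e P g a → μ g = a := fun h => F3.mu_uniq (hμ _) h
  obtain ⟨r, Rel, r1, r2, r3, r4, r5⟩ := F3.hx_r
  have hN : (RR P).Normal := normalizer_eq_top_iff.1 (top_le_iff.1 fun g _ => F3.mu_nrm (hμ g))
  let D : Subgroup G :=
    { carrier := {g | (μ g).1 = 1}
      one_mem' := congrArg Prod.fst (μe (F3.muR (one_mem _)))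
      mul_mem' := fun {g h} hg hh => by
        show (μ (g * h)).1 = 1
        rw [μe (F3.mu_mul (hμ g) (hμ h))]
        show (μ g).1 * (μ h).1 = 1
        rw [hg, hh, one_mul]
      inv_mem' := fun {g} hg => by
        show (μ g⁻¹).1 = 1
        rw [μe (F3.mu_inv (hμ g))]
        exact inv_eq_one.2 hg }
  have hD : ∀ g ∈ D, ∃ u, Rel g u (μ g).2 := fun g hg => r2 g _ (by
    rw [← show (μ g).1 = 1 from hg]; exact hμ g)
  have TR : P w1 ⊔ P w2 ≤ RR P := sup_le (F.PR _ (by decide)) (F.PR _ (by decide))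
  obtain ⟨p, hp, hp'⟩ := (F.q8 w1 (by decide)).ex_out
  refine ⟨RR P, P w1 ⊔ P w2, D, μ, r, F.extra, F.cardR, F3.tR, fun g => F3.mu_nrm (hμ g),
    fun g hg => F3.hx_cR (hμ g) hg, ⟨p, F.PR _ (by decide) hp, fun k => hp' ?_⟩,
    fun g h => μe (F3.mu_mul (hμ g) (hμ h)), fun g a h => μe (F3.muN h), fun v hv => μe (F3.muR hv),
    fun g => let ⟨v, hv, n, hn, ha, k⟩ := hμ g; ⟨v, hv, n, hn, k, ha⟩, fun g => Iff.rfl, fun g hg h hh => ?_,
    fun w => ?_, fun g hg => ?_, fun K hK => ?_, (IsPGroup.of_card (n := 9) F.cardR).to_le TR,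
    mem_sup_left (F.q8 w1 (by decide)).mem, fun τ h2 h p hp => F3.hx_tau h2 h hp, fun g h => F3.hx_Tc (hμ g) h,
    ⟨p, mem_sup_left hp, ?_⟩, fun x hx g h h4 => ?_, F.x3⟩
  · exact F.fp (Pi.single 0 1) w1 (by decide) (by decide) p hp (by rw [mon_single, k]; simp)
  · obtain ⟨u, h1⟩ := hD g hg
    obtain ⟨u', h2⟩ := hD h hh
    rw [(r1 _ _ _ (r5 _ _ _ _ _ _ h1 h2)).1, (r1 _ _ _ h1).1, (r1 _ _ _ h2).1, rho_mul]
  · obtain ⟨c0, s0, e0⟩ := hx_aff.2.1 w.1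
    obtain ⟨c1, s1, e1⟩ := hx_aff.2.1 w.2.1
    obtain ⟨c2, s2, e2⟩ := hx_aff.2.1 w.2.2
    obtain ⟨g, hg⟩ := r3 ![c0, c1, c2] ![s0, s1, s2]
    exact ⟨g, congrArg Prod.fst (μe (r1 _ _ _ hg).2), (r1 _ _ _ hg).1.trans (Prod.ext e0 (Prod.ext e1 e2))⟩
  · refine ⟨fun k => ?_, fun k => ((r1 _ _ _ ((r4 g).2 k)).1).trans
      (Prod.ext hx_aff.2.2.2.1 (Prod.ext hx_aff.2.2.2.1 hx_aff.2.2.2.1))⟩
    obtain ⟨u, h1⟩ := hD g hg
    rw [(r1 _ _ _ h1).1] at k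
    have k0 := hx_aff.2.2.1 _ _ (congrArg Prod.fst k)
    have k1 := hx_aff.2.2.1 _ _ (congrArg (fun y => y.2.1) k)
    have k2 := hx_aff.2.2.1 _ _ (congrArg (fun y => y.2.2) k)
    rw [show u = 0 from funext fun i => by fin_cases i; exacts [k0.1, k1.1, k2.1],
      show (μ g).2 = 1 from funext fun i => by fin_cases i; exacts [k0.2, k1.2, k2.2]] at h1
    exact (r4 g).1 h1
  · have k : ∀ w, Sg w → P w ≤ K := fun w hw =>
      (F.q8 w hw).le_of_fp (F3.XN hw (F.toMn.mJ (Pi.single 0 1))) (F.fp _ w hw (hx_dec.2.2.2.2.2 w hw).1)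
        fun p hp => hK _ (F.toMn.mJ _) p (F.PR w hw hp)
    exact sup_le (sup_le (sup_le (k _ (by decide)) (k _ (by decide))) (k _ (by decide))) (k _ (by decide))
  · rw [pow_two]
    exact (F.q8 w1 (by decide)).sq' (mul_mem ((mem_normalizer_iff.1 (F3.XN (by decide) (F.toMn.mJ _)) p).1 hp)
      (inv_mem hp)) fun k => hp' (F.fp _ w1 (by decide) (by decide) p hp k)
  · have m1' := F3.mu_mul (F3.mu_mul (hμ g) (F3.muN (F.toMn.actJ hx))) (F3.mu_inv (hμ g))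
    rw [(hx_dec.2.2.2.2.1 _).1] at m1'
    have m2 := F3.mu_mul (F3.mu_mul (F3.mu_mul m1' (hμ h)) (F3.mu_inv m1')) (F3.mu_inv (hμ h))
    rw [(hx_dec.2.2.2.2.1 _).2] at m2
    obtain ⟨v, hv, y, hy, k⟩ := F3.mu_one m2
    rw [k] at h4 ⊢
    have h5 : y ∈ RR P := by
      have := congrArg (QuotientGroup.mk' (RR P)) h4
      rw [map_pow, map_mul, map_one, QuotientGroup.mk'_apply, (QuotientGroup.eq_one_iff v).2 hv, one_mul, ← map_pow,
        pow_succ, F.cube y hy, one_mul] at this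
      exact (QuotientGroup.eq_one_iff y).1 this
    rw [F3.XR hy h5, mul_one, pow_two]
    exact F.sqR v hv

end CL.Ast
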