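/-
Astill's theorem (helper35): a group `3 ^ 3` with monomial automizer is normal.
-/
import Cfsg.Agent.Ast.Base
import Cfsg.Agent.Rec.A9B
import Cfsg.Agent.S4215
import Cfsg.Agent.Inv.ZStar
import Cfsg.Agent.S0205

set_option autoImplicit false
set_option synthInstance.maxSize 4096

namespace CL.Ast

open Subgroup Cfsg CL.Grp CL.Rec CL.Perm CL.G23 CL.McL3 CL.McL3.C27 CL.S9R Equiv
open scoped Pointwise

universe u

def d1 : Mo := (1, ![-1, 1, 1])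

theorem c_m27 : (∀ a : Mo, Perm.sign a.1 ≠ 1 → ∃ s, ∃ p ∈ [m1, mr, mm mr mr], mτ = mm (1, s) (mm a p)) ∧
    (∀ (a : Mo) v, av a v = v → v ≠ 0 → a.1 * a.1 ≠ 1 → Sg v) ∧
    (∀ a : Mo, Perm.sign a.1 = 1 → (a.1 * a.1 = 1 → a.1 = 1) ∧ (mm a d1 = mm d1 a → a.1 = 1) ∧
      (mm a (mm a a)).1 = 1) ∧
    (∀ a : Mo, a.1 = 1 → mm a a = m1 ∧ mm (mm a d1) (mi a) = d1 ∧ (a = mι ∨ ∃ v, v ≠ 0 ∧ av a v = v)) ∧
    (∀ a : Mo, av a (Pi.single 1 1) = Pi.single 1 1 → av a (Pi.single 2 1) = Pi.single 2 1 → a = m1 ∨ a = d1) ∧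
    (∀ v, av d1 v = v → v 0 = 0) ∧ (∀ v, av mι v = -v) ∧ mm (mm mr mι) (mi mr) = mι ∧
    mm (mm mr d1) (mi mr) ≠ d1 ∧ ∃ v, v ≠ 0 ∧ av (mm (mm mr d1) (mi mr)) v = v := by
  refine ⟨?_, ?_, ?_, ?_, ?_, ?_, ?_, ?_, ?_, ?_⟩ <;> decide +kernel

theorem isConj_of_cube {g h : Perm (Fin 9)} (hg : g ^ 3 = 1) (hh : h ^ 3 = 1) (hc : g.support.card = h.support.card) :
    IsConj g h := by
  have := Fact.mk Nat.prime_three
  have h1 := Perm.cycleType_of_pow_prime_eq_one hg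
  have h2 := Perm.cycleType_of_pow_prime_eq_one hh
  have k1 := Perm.sum_cycleType g
  have k2 := Perm.sum_cycleType h
  rw [h1, Multiset.sum_replicate, smul_eq_mul] at k1
  rw [h2, Multiset.sum_replicate, smul_eq_mul] at k2
  rw [Perm.isConj_iff_cycleType_eq, h1, h2]
  congr 1
  omega

theorem conj_c9 {g : Perm (Fin 9)} (hg : g ^ 3 = 1) : ∃ v, IsConj g (mon c9 v) := by
  have := Fact.mk Nat.prime_three
  have k1 := Perm.sum_cycleType g
  rw [Perm.cycleType_of_pow_prime_eq_one hg, Multiset.sum_replicate, smul_eq_mul] at k1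
  have k2 : g.support.card ≤ 9 := by simpa using Finset.card_le_univ g.support
  obtain ⟨v, h1, h2⟩ := (by decide +kernel : ∀ n : Fin 4, ∃ v, mon c9 v ^ 3 = 1 ∧ (mon c9 v).support.card = n * 3)
    ⟨g.cycleType.card, by omega⟩
  exact ⟨v, isConj_of_cube hg h1 (by rw [h2, ← k1])⟩

variable {G : Type u} [Group G]

namespace Sy

variable {X : Subgroup G} {e : Fin 3 → G} {q : G} (F : Sy X e q) {g h : G} {a b : Mo} {v w : V3}
include F

theorem J_iff (h1 : Act e g a) : g ∈ X ↔ a = m1 :=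
  ⟨fun k => F.toMn.uniq h1 (F.toMn.actJ k), fun k => F.cent ((F.toMn.C_iff h1).2 k)⟩

theorem sqX (h1 : Act e g a) (h2 : mm a a = m1) : g * g ∈ X := (F.J_iff (h1.mul h1)).2 h2

theorem ex_inv (h1 : Re e a) (h2 : mm a a = m1) : ∃ n, n * n = 1 ∧ Act e n a := by
  obtain ⟨n, hn⟩ := h1
  have k := F.sqX hn h2
  refine ⟨n ^ 3, ?_, by rw [pow_three']; exact F.toMn.actL (F.toMn.leC k) hn⟩
  rw [← F.cube _ k, ← pow_two, ← pow_two, ← pow_mul, ← pow_mul]

variable [Finite G]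

theorem not_sym (φ : G ≃* Perm (Fin 9)) : False := by
  have := Fact.mk Nat.prime_three
  have M := F.toMn
  obtain ⟨k1, -, -, -, -, k6⟩ := c_x9
  have e3 : ∀ i, c9 i ^ 3 = 1 := fun i => (k1 i).2.1
  have ec : ∀ i j, Commute (c9 i) (c9 j) := fun i j => (k1 i).2.2.1 j
  obtain ⟨v, hv⟩ := conj_c9 (g := φ q) (by rw [← map_pow, F.q3, map_one])
  obtain ⟨c, hc⟩ := isConj_iff.1 hv
  let B : Subgroup G := (closure (Set.range c9)).comap φ.toMonoidHom
  have mB : ∀ b ∈ B, ∃ v, φ b = mon c9 v := fun b hb => (ex_mon e3 ec hb).imp fun _ h => h.symm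
  have Bm : ∀ v, φ.symm (mon c9 v) ∈ B := fun v => by
    simpa [B] using mon_mem (x := c9) (fun i => subset_closure (Set.mem_range_self i)) v
  have B3 : ∀ b ∈ B, b ^ 3 = 1 := fun b hb => φ.injective (by
    obtain ⟨v, hv⟩ := mB b hb
    rw [map_pow, hv, map_one, pow_three, ← mon_add e3 ec, ← mon_add e3 ec, (by decide : ∀ v : V3, v + (v + v) = 0),
      mon_zero])
  have Bc : ∀ a ∈ B, ∀ b ∈ B, a * b = b * a := fun a ha b hb => φ.injective (by
    obtain ⟨v, hv⟩ := mB a ha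
    obtain ⟨w, hw⟩ := mB b hb
    rw [map_mul, map_mul, hv, hw, ← mon_add e3 ec, ← mon_add e3 ec, add_comm])
  obtain ⟨P, hP, hJP⟩ := exists_isSylowIn_ge M.three (le_top (a := X))
  obtain ⟨d, -, hd⟩ := hP.exists_conj_le (U := B) (fun b => ⟨1, Subtype.ext (by simpa using B3 b b.2)⟩) le_top
  have m : ∀ b ∈ MulAut.conj d • B, ∃ j ∈ B, b = d * j * d⁻¹ := fun b hb =>
    ⟨_, (mem_conj_smul_iff _ _ _).1 hb, by group⟩
  rcases M.le_or_card (B := MulAut.conj d • B) (fun b hb => F.mono _ (M.le_H hP.isPGroup hJP (hd hb))) (fun b hb => by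
      obtain ⟨j, hj, rfl⟩ := m b hb; rw [conj_pow, B3 j hj]; group) (fun a ha b hb => by
      obtain ⟨j, hj, rfl⟩ := m b hb
      obtain ⟨i, hi, rfl⟩ := m a ha
      rw [conj_mul, conj_mul, Bc i hi j hj]) with k | k
  · refine F.nq (d * φ.symm c) ?_
    have := k (conj_mem_conj_smul d (Bm v))
    rw [← hc, map_mul, map_mul, map_inv, φ.symm_apply_apply] at this
    simpa only [mul_inv_rev, mul_assoc] using this
  · have := Nat.card_le_card_of_injective (fun v : V3 => (⟨_, Bm v⟩ : B)) fun v w h => by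
      have e1 := mon_add e3 ec (v - w) w
      rw [sub_add_cancel, φ.symm.injective (Subtype.mk_eq_mk.1 h), right_eq_mul] at e1
      exact sub_eq_zero.1 ((k6 _).1 e1)
    rw [card_conj_smul] at k
    simp at this
    omega

theorem caseA (h1 : Re e a) (h2 : Perm.sign a.1 ≠ 1) : X.Normal := by
  obtain ⟨s, p, hp, k⟩ := c_m27.1 a h2
  have hp' : Re e p := by
    simp only [List.mem_cons, List.not_mem_nil, or_false] at hp
    rcases hp with rfl | rfl | rfl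
    exacts [⟨1, F.toMn.actJ (one_mem _)⟩, ⟨q, F.ar⟩, ⟨_, F.ar.mul F.ar⟩]
  obtain ⟨τ, t2, ht⟩ := F.ex_inv (a := mτ) (k ▸ (F.diag s).mul (h1.mul hp')) (by decide)
  exact (Sx.main ⟨⟨F.card, F.gen, F.cube, F.comm, F.cent, F.ar, ht, t2, fun g hg => F.mono g (F.cx (mc.2 hg))⟩,
    F.mono, F.sig⟩ fun h => CL.A9R.Hy.main h).resolve_right fun ⟨φ⟩ => F.not_sym φ

omit [Finite G] in
theorem sup_eq {A : Subgroup G} (hA : A ≤ X) (h9 : Nat.card A = 9) {u : G} (hu : u ∈ X) (uA : u ∉ A) :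
    A ⊔ zpowers u = X := by
  have : Finite X := Nat.finite_of_card_ne_zero (by rw [F.card]; decide)
  have h1 : A ⊔ zpowers u ≤ X := sup_le hA (zpowers_le.2 hu)
  have : Finite ↥(A ⊔ zpowers u) := .of_injective _ (inclusion_injective h1)
  obtain ⟨i, hi, e⟩ := (Nat.dvd_prime_pow (m := 3) Nat.prime_three).1 (F.card ▸ card_dvd_of_le h1)
  refine eq_of_le_of_card_ge h1 (by_contra fun k => uA (eq_of_le_of_card_ge (le_sup_left (a := A) (b := zpowers u)) ?_ ▸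
    mem_sup_right (mem_zpowers u)))
  rw [F.card, e] at k
  rw [h9, e]
  interval_cases i <;> omega

/-- centralisers of subgroups of order 9 -/
theorem cent2 {x y : G} (hx : x ∈ X) (hy : y ∈ X) (hp : Pr x y) :
    centralizer {x} ⊓ centralizer {y} ≤ normalizer (X : Set G) := by
  have := Fact.mk Nat.prime_three
  have M := F.toMn
  have JC := le_inf (M.Jc hx) (M.Jc hy)
  have hS : ∀ n ∈ centralizer {x} ⊓ centralizer {y}, n ∈ normalizer (X : Set G) → ∀ k : ℕ, n ^ 3 ^ k = 1 → n ∈ X :=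
    fun n hn h k hk => by
      obtain ⟨a, ha⟩ := F.mono n h
      obtain ⟨v, rfl⟩ := M.exm hx
      obtain ⟨w, rfl⟩ := M.exm hy
      have v0 := mt M.one_iff.2 hp.x1
      exact M.mem3 ha (by_contra fun e => hp.ne ((M.mzp v0).2 (((c_fix a v ((M.fix ha).1 (mc.1 hn.1)) v0).1 e).2.2 w
        ((M.fix ha).1 (mc.1 hn.2))))) (hk ▸ one_mem _)
  obtain ⟨L, k1, k2, -, -, k5, k6⟩ := exists_ker JC F.cube F.comm hS
  have AL : ∀ p ∈ zpowers x ⊔ zpowers y, p ∈ L → p = 1 := fun p h1 h2 =>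
    k5 p (sup_le (zpowers_le.2 hx) (zpowers_le.2 hy) h1) h2 fun n hn _ => hp.fix (mc.1 hn.1) (mc.1 hn.2) h1
  suffices h : L ≤ normalizer (X : Set G) from fun d hd => by
    obtain ⟨l, hl, v, hv, rfl⟩ := k6 d hd
    exact mul_mem (h hl) (le_normalizer hv)
  by_cases h3 : 3 ∣ Nat.card L
  swap
  · rw [F.sig L ((Nat.Prime.coprime_iff_not_dvd Nat.prime_three).2 h3).symm (JC.trans k2)]
    exact bot_le
  obtain ⟨u, uL, uJ, ou⟩ : ∃ u ∈ L, u ∈ X ∧ orderOf u = 3 := by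
    obtain ⟨u, ou⟩ := exists_prime_orderOf_dvd_card' 3 h3
    rw [← orderOf_coe] at ou
    obtain ⟨c, hc, e⟩ := (isSylowIn_of_loc JC M.three hS).exists_conj_le (U := zpowers (u : G))
      (pg_zp (k := 1) (by simpa using cube_of_ord ou)) (zpowers_le.2 (k1 u.2))
    exact ⟨_, (mem_normalizer_iff.1 (k2 hc) _).1 u.2, e (conj_mem_conj_smul c (mem_zpowers _)),
      ((MulAut.conj c).orderOf_eq _).trans ou⟩
  have e := F.sup_eq (sup_le (zpowers_le.2 hx) (zpowers_le.2 hy)) hp.card uJ fun k => ne_one_of_ord3 ou (AL u k uL)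
  have dec : ∀ j ∈ X, ∃ p ∈ zpowers x ⊔ zpowers y, ∃ q ∈ zpowers u, j = p * q := fun j hj =>
    (CL.Odd.mem_sup_norm (zpowers_le.2 (centralizer_le_normalizer _ fun p h =>
      F.comm p (e.le (mem_sup_left h)) u uJ))).1 (e.ge hj)
  have cA : ∀ l ∈ L, ∀ p ∈ zpowers x ⊔ zpowers y, l * p = p * l := fun l hl p h =>
    hp.fix (mc.1 (k1 hl).1) (mc.1 (k1 hl).2) h
  rcases sig3 uL ou (fun c hc h => by
      obtain ⟨p, h1, q, h2, rfl⟩ := dec c (F.cent fun j hj => by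
        obtain ⟨p, h1, q, h2, rfl⟩ := dec j hj
        exact ((show Commute c p from cA c hc p h1).mul_right (cm_of_mem h2 h)).symm)
      rwa [AL p h1 ((mul_mem_cancel_right (zpowers_le.2 uL h2)).1 hc), one_mul]) with h | ⟨K, h1, h2, h4, h5⟩
  · exact fun l hl => mem_normalizer_fintype fun j hj => by
      obtain ⟨p, h1, q, h2, rfl⟩ := dec j hj
      rw [← conj_mul, cA l hl p h1, mul_inv_cancel_right]
      exact e.le (mul_mem (mem_sup_left h1) (mem_sup_right ((mem_normalizer_iff.1 (h hl) q).1 h2)))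
  · exact absurd (F.sig K h4 (e ▸ sup_le (fun p h => centralizer_le_normalizer _ fun k hk => cA k (h1 hk) p h)
      (zpowers_le.2 h5))) h2

theorem mem2 {x y : G} (hx : x ∈ X) (hy : y ∈ X) (hp : Pr x y) (h1 : g * x * g⁻¹ ∈ X) (h2 : g * y * g⁻¹ ∈ X) :
    g ∈ normalizer (X : Set G) := by
  have k : ∀ {j z : G}, j ∈ X → g * z * g⁻¹ ∈ X → g⁻¹ * j * g⁻¹⁻¹ ∈ centralizer {z} := fun {j z} hj h => mc.2 (by
    calc _ = g⁻¹ * (j * (g * z * g⁻¹)) * g := by group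
      _ = _ := by rw [F.comm _ hj _ h]; group)
  exact inv_mem_iff.1 (F.toMn.wc fun j hj => F.cent2 hx hy hp ⟨k hj h1, k hj h2⟩)

theorem qJ (hv : v ≠ 0) (hs : ∀ a, Re e a → av a v = v → a.1 * a.1 = 1) : Nat.card X = 9 * Nat.card (zpowers (mon e v)) ∧
    (∀ a ∈ X, a ^ 3 ∈ zpowers (mon e v)) ∧ (∀ n ∈ centralizer {mon e v}, n ∈ normalizer (X : Set G) → ∀ k,
      n ^ 3 ^ k ∈ zpowers (mon e v) → n ∈ X) ∧ (∀ g ∈ centralizer {mon e v},
      (∀ a ∈ X, g * a * g⁻¹ * a⁻¹ ∈ zpowers (mon e v)) → g ∈ X) ∧ ∀ a ∈ X, a ∉ zpowers (mon e v) →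
      ∀ g ∈ centralizer {mon e v}, g * a * g⁻¹ * a⁻¹ ∈ zpowers (mon e v) → g ∈ normalizer (X : Set G) := by
  have M := F.toMn
  have ZJ := zpowers_le.2 (M.mJ v)
  have k : ∀ {g a : G}, a ∈ X → g * a * g⁻¹ * a⁻¹ ∈ zpowers (mon e v) → g * a * g⁻¹ ∈ X := fun ha h =>
    (mul_mem_cancel_right (inv_mem ha)).1 (ZJ h)
  refine ⟨by rw [Nat.card_zpowers, M.ord hv, F.card], fun a ha => F.cube a ha ▸ one_mem _, fun n hn h k hk => ?_,
    fun g hg h => ?_, fun a ha h1 g hg h => F.mem2 (M.mJ v) ha ⟨F.cube _ (M.mJ v), F.cube a ha, mt M.one_iff.1 hv,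
      F.comm _ (M.mJ v) a ha, h1⟩ (by rw [mc.1 hg, mul_inv_cancel_right]; exact M.mJ v) (k ha h)⟩
  · obtain ⟨a, ha⟩ := F.mono n h
    exact M.mem3 ha (hs a ⟨n, ha⟩ ((M.fix ha).1 (mc.1 hn))) (ZJ hk)
  · obtain ⟨a, ha⟩ := F.mono g (mem_normalizer_fintype fun a ha => k ha (h a ha))
    refine (F.J_iff ha).2 ((c_fix a v ((M.fix ha).1 (mc.1 hg)) hv).2.1 fun w => ?_)
    have := h _ (M.mJ w)
    rw [M.app ha, ← M.neg, ← M.add, M.mzp hv] at this
    simpa only [← sub_eq_add_neg, sub_eq_iff_eq_add, zero_add] using this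

section
variable (ev : ∀ a, Re e a → Perm.sign a.1 = 1)
include ev

theorem cent1 (hv : v ≠ 0) : centralizer {mon e v} ≤ normalizer (X : Set G) := by
  have M := F.toMn
  by_cases hs : ∀ a, Re e a → av a v = v → a.1 * a.1 = 1
  swap
  · push Not at hs
    obtain ⟨a, -, h2, h3⟩ := hs
    exact (c_sg.1 v (c_m27.2.1 a v h2 hv h3)).1 ▸ M.cent_av (F.diag _) F.cx
  obtain ⟨k1, k2, k3, k4, k5⟩ := F.qJ hv hs
  have := Sx.nzp (mon e v)
  refine qle (zpowers_le.2 (M.mJ v)) (M.Jc (M.mJ v)) k1 k2 k3 k4 k5 fun n hn hN => ?_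
  obtain ⟨a, ha⟩ := F.mono n hN
  exact F.sqX ha (c_m27.2.2.2.1 a ((c_m27.2.2.1 a (ev a ⟨n, ha⟩)).1 (hs a ⟨n, ha⟩ ((M.fix ha).1 (mc.1 hn))))).1

theorem ti {x : G} (hx : x ∈ X) (h1 : x ≠ 1) (hg : g * x * g⁻¹ ∈ X) : g ∈ normalizer (X : Set G) := by
  obtain ⟨w, hw⟩ := F.toMn.exm hg
  refine F.toMn.mem_of_conj hx (hw ▸ F.cent1 ev fun k => h1 ?_)
  rw [k, mon_zero, eq_comm, conj_eq_one_iff] at hw
  exact hw

theorem diagC {t : G} (ht : Act e t d1) (h1 : Act e g a) (hc : g * t = t * g) : a.1 = 1 :=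
  (c_m27.2.2.1 a (ev a ⟨g, h1⟩)).2.1 (F.toMn.uniq (h1.mul ht) (hc ▸ ht.mul h1))

/-- the centraliser of the involution `diag(-1, 1, 1)` -/
theorem centT {t : G} (t2 : t * t = 1) (ht : Act e t d1) : centralizer {t} ≤ normalizer (X : Set G) := by
  have M := F.toMn
  have tX : t ∉ X := mt (F.J_iff ht).1 (by decide)
  have zX : ∀ z ∈ zpowers t, z ∈ X → z = 1 := fun z hz h => ((mem_zp2 t2).1 hz).resolve_right fun k => tX (k ▸ h)
  have z2 : ∀ z ∈ zpowers t, z * z = 1 := fun z hz => by rcases (mem_zp2 t2).1 hz with rfl | rfl; exacts [one_mul 1, t2]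
  have z4 : ∀ z ∈ zpowers t, z ^ 4 = 1 := fun z hz => by
    rw [show z ^ 4 = z * z * (z * z) by simp only [pow_succ, pow_zero, one_mul, mul_assoc], z2 z hz, one_mul]
  have x4 : ∀ x ∈ X, x ^ 4 = x := fun x hx => by rw [pow_succ, F.cube x hx, one_mul]
  obtain ⟨Y, hY⟩ : ∃ Y, Y = X ⊓ centralizer {t} := ⟨_, rfl⟩
  have mY : ∀ {y}, y ∈ Y ↔ y ∈ X ∧ y * t = t * y := fun {y} => by rw [hY, mem_inf, mc]
  have eY : ∀ i, i ≠ 0 → e i ∈ Y := fun i hi => mY.2 ⟨M.xm i, by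
    rw [← mon_single (x := e) i]
    exact ((M.fix ht).2 ((by decide : ∀ i : Fin 3, i ≠ 0 → av d1 (Pi.single i 1) = Pi.single i 1) i hi)).symm⟩
  have e1 : e 1 ≠ 1 := by rw [← mon_single (x := e) 1, Ne, M.one_iff]; decide
  have cY : Nat.card Y = 9 := by
    have hp := M.pr2 (v := Pi.single 1 1) (w := Pi.single 2 1) (by decide) (by decide)
    rw [mon_single, mon_single] at hp
    rw [← hp.card]
    congr 2
    refine le_antisymm (fun y hy => ?_) (sup_le (zpowers_le.2 (eY 1 (by decide))) (zpowers_le.2 (eY 2 (by decide))))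
    obtain ⟨v, rfl⟩ := M.exm (mY.1 hy).1
    rw [mon, c_m27.2.2.2.2.2.1 v ((M.fix ht).1 (mY.1 hy).2.symm), Fin.val_zero, pow_zero, one_mul]
    exact mul_mem (mem_sup_left (pow_mem (mem_zpowers _) _)) (mem_sup_right (pow_mem (mem_zpowers _) _))
  have zY : ∀ z ∈ zpowers t, ∀ y ∈ Y, y * z = z * y := fun z hz y hy => cm_of_mem hz (mY.1 hy).2
  have nY : zpowers t ≤ normalizer (Y : Set G) := fun z hz => centralizer_le_normalizer _ fun y hy => zY z hz y hy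
  have dec : ∀ a ∈ Y ⊔ zpowers t, ∃ y ∈ Y, ∃ z ∈ zpowers t, a = y * z ∧ a ^ 4 = y := fun a ha => by
    obtain ⟨y, hy, z, hz, rfl⟩ := (CL.Odd.mem_sup_norm nY).1 ha
    exact ⟨y, hy, z, hz, rfl, by rw [(show Commute y z from zY z hz y hy).mul_pow, z4 z hz, x4 y (mY.1 hy).1, mul_one]⟩
  have AM : Y ⊔ zpowers t ≤ centralizer {t} := sup_le (fun y hy => mc.2 (mY.1 hy).2) (zpowers_le.2 (mc.2 rfl))
  have nA : ∀ n ∈ normalizer ((Y ⊔ zpowers t : Subgroup G) : Set G), n ∈ normalizer (X : Set G) := fun n hn => by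
    obtain ⟨y, hy, -, -, -, k⟩ := dec _ ((mem_normalizer_iff.1 hn _).1 (mem_sup_left (eY 1 (by decide))))
    rw [conj_pow, x4 _ (M.xm 1)] at k
    exact F.ti ev (M.xm 1) e1 (k ▸ (mY.1 hy).1)
  have hn : ∀ n ∈ centralizer {t}, n ∈ normalizer ((Y ⊔ zpowers t : Subgroup G) : Set G) → n * n ∈ Y ⊔ zpowers t :=
    fun n h1 h2 => by
      obtain ⟨a, ha⟩ := F.mono n (nA n h2)
      exact mem_sup_left (mY.2 ⟨F.sqX ha (c_m27.2.2.2.1 a (F.diagC ev ht ha (mc.1 h1))).1, mc.1 (mul_mem h1 h1)⟩)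
  have k4 : ∀ a ∈ Y ⊔ zpowers t, ∀ g, g * a * g⁻¹ * a⁻¹ ∈ zpowers t → g * a ^ 4 * g⁻¹ = a ^ 4 := fun a ha g h => by
    have c : Commute (g * a * g⁻¹ * a⁻¹) a := (cm_of_mem h (mc.1 (AM ha))).symm
    rw [← conj_pow, show g * a * g⁻¹ = g * a * g⁻¹ * a⁻¹ * a by group, c.mul_pow, z4 _ h, one_mul]
  have := Sx.nzp t
  refine fun g hg => nA g (qle (Z := zpowers t) le_sup_right AM ?_ (fun a ha => ?_) (fun n h1 h2 k hk => ?_)
    (fun g hg h => ?_) (fun a ha h1 g hg h => ?_) hn hg)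
  · rw [sup_comm, card_sup_of_inf_eq_bot nY (eq_bot_iff.2 fun z hz => zX z hz.1 (mY.1 hz.2).1), cY, mul_comm]
  · obtain ⟨y, hy, z, hz, rfl, -⟩ := dec a ha
    rw [(show Commute y z from zY z hz y hy).mul_pow, F.cube y (mY.1 hy).1, one_mul]
    exact pow_mem hz 3
  · obtain ⟨m, hm⟩ := (show Odd 3 by decide).pow (n := k)
    rw [hm, pow_succ, pow_mul, pow_two] at hk
    exact (mul_mem_cancel_left (pow_mem (hn n h1 h2) m)).1 (mem_sup_right hk)
  · have c : ∀ i, i ≠ 0 → g * e i * g⁻¹ = e i := fun i hi => by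
      have := k4 _ (mem_sup_left (eY i hi)) g (h _ (mem_sup_left (eY i hi)))
      rwa [x4 _ (M.xm i)] at this
    obtain ⟨a, ha⟩ := F.mono g (F.ti ev (M.xm 1) e1 ((c 1 (by decide)).symm ▸ M.xm 1))
    have c' : ∀ i, i ≠ 0 → av a (Pi.single i 1) = Pi.single i 1 := fun i hi => M.inj (by
      rw [← M.app ha, mon_single, c i hi])
    rcases c_m27.2.2.2.2.1 a (c' 1 (by decide)) (c' 2 (by decide)) with rfl | rfl
    · exact mem_sup_left (mY.2 ⟨(F.J_iff ha).2 rfl, mc.1 hg⟩)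
    · have tm : t ∈ Y ⊔ zpowers t := mem_sup_right (mem_zpowers t)
      exact (mul_mem_cancel_left (inv_mem tm)).1 (mem_sup_left (mY.2 ⟨F.cent (M.memC ha ht),
        mc.1 (mul_mem (inv_mem (AM tm)) hg)⟩))
  · obtain ⟨y, hy, z, hz, e2, e3⟩ := dec a ha
    have := k4 a ha g h
    rw [e3] at this
    have gN := F.ti ev (mY.1 hy).1 (fun k => h1 (by rw [e2, k, one_mul]; exact hz)) (this.symm ▸ (mY.1 hy).1)
    refine mem_normalizer_fintype fun b hb => ?_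
    obtain ⟨y, hy, z, hz, rfl, -⟩ := dec b hb
    rw [← conj_mul, cm_of_mem hz (mc.1 hg), mul_inv_cancel_right]
    exact mul_mem (mem_sup_left (mY.2 ⟨(mem_normalizer_iff.1 gN y).1 (mY.1 hy).1,
      mc.1 (mul_mem (mul_mem hg (mc.2 (mY.1 hy).2)) (inv_mem hg))⟩)) (mem_sup_right hz)

/-- transfer: the elements of `O³(G) ∩ N(X)` act diagonally -/
theorem diagD (hg : g ∈ pResidual 3 G) (h1 : Act e g a) : a.1 = 1 := by
  have := Fact.mk Nat.prime_three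
  have M := F.toMn
  obtain ⟨P, hP, hJP⟩ := exists_isSylowIn_ge M.three (le_top (a := X))
  have PN := M.le_H hP.isPGroup hJP
  obtain ⟨P, rfl⟩ := isSylowIn_top_iff.1 hP
  have h := Cfsg.Agent.S4215.result P X ⟨hJP, fun g hg => (conj_smul_eq_self_iff g X).2
    (M.wc fun j hj => PN (hg ⟨j, hj, rfl⟩))⟩ fun u hu z hz => by
      have k : u⁻¹ * z⁻¹ * u * z ∈ X := mul_mem (by
        simpa using (mem_normalizer_iff.1 (inv_mem (PN hu)) _).1 (inv_mem hz)) hz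
      show (u⁻¹ * z⁻¹ * u * z)⁻¹ * z⁻¹ * (u⁻¹ * z⁻¹ * u * z) * z = 1
      generalize u⁻¹ * z⁻¹ * u * z = c at k
      rw [mul_assoc, mul_assoc, F.comm c k z hz]; group
  let D : Subgroup G :=
    { carrier := {g | ∃ a, Act e g a ∧ a.1 = 1}
      mul_mem' := fun ⟨a, h1, h2⟩ ⟨b, k1, k2⟩ => ⟨_, h1.mul k1, by rw [mm, h2, k2, mul_one]⟩
      one_mem' := ⟨_, M.actJ (one_mem _), rfl⟩
      inv_mem' := fun ⟨a, h1, h2⟩ => ⟨_, h1.inv, by rw [C27.mi, h2, inv_one]⟩ }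
  have k : pResidualOf 3 (normalizer (X : Set G)) ≤ D := map_le_iff_le_comap.2 ((closure_le _).2 fun n hn => by
    obtain ⟨a, ha⟩ := F.mono n n.2
    obtain ⟨m, hm⟩ := exists_pow_eq_self_of_coprime (x := n) (Nat.Coprime.symm hn)
    rw [← hm]
    exact pow_mem (show n ^ 3 ∈ D.comap _ from ⟨_, by rw [pow_three]; exact ha.mul (ha.mul ha),
      (c_m27.2.2.1 a (ev a ⟨_, ha⟩)).2.2⟩) m)
  obtain ⟨b, hb, k⟩ := k (h.ge ⟨hg, M.memH h1⟩)
  exact M.uniq hb h1 ▸ k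

theorem lemL {t : G} (t2 : t * t = 1) (ht : Act e t d1) (hg : g ∈ pResidual 3 G) (h1 : Act e (g * t * g⁻¹) a)
    (hv : v ≠ 0) (h2 : av a v = v) : a = d1 := by
  have M := F.toMn
  have c : g⁻¹ * mon e v * g⁻¹⁻¹ * t = t * (g⁻¹ * mon e v * g⁻¹⁻¹) := by
    calc _ = g⁻¹ * (mon e v * (g * t * g⁻¹)) * g := by group
      _ = _ := by rw [← (M.fix h1).2 h2]; group
  obtain ⟨b, hb⟩ := F.mono _ (F.centT ev t2 ht (mc.2 c))
  have k := F.ti ev (M.mJ v) (mt M.one_iff.1 hv) (M.mem3 hb (by rw [F.diagC ev ht hb c, mul_one]) (k := 1) (by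
    rw [pow_one, conj_pow, F.cube _ (M.mJ v), mul_one, mul_inv_cancel]; exact one_mem _))
  obtain ⟨d, hd⟩ := F.mono g (inv_mem_iff.1 k)
  exact (M.uniq h1 ((hd.mul ht).mul hd.inv)).trans (c_m27.2.2.2.1 d (F.diagD ev hg hd)).2.1

omit ev in
theorem le_res : X ≤ pResidual 3 G := fun x hx => by
  have M := F.toMn
  obtain ⟨i, i2, hi⟩ := F.ex_inv (F.diag ![-1, -1, -1]) (by decide)
  obtain ⟨v, rfl⟩ := M.exm hx
  have iD : i ∈ pResidual 3 G := mem_pResidual_of_coprime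
    (Nat.Coprime.coprime_dvd_left (orderOf_dvd_of_pow_eq_one (n := 2) (by rwa [pow_two])) (by decide))
  have k := mul_mem iD ((pResidual_normal 3 G).conj_mem _ (inv_mem iD) (mon e v))
  rw [← mul_assoc, ← mul_assoc, M.app hi, show av (1, ![-1, -1, -1]) v = -v from c_m27.2.2.2.2.2.2.1 v, ← M.neg,
    ← M.add, (by decide : ∀ v : V3, -v + -v = v)] at k
  exact k

theorem iso {t : G} (t2 : t * t = 1) (ht : Act e t d1) (hg : g ∈ pResidual 3 G)
    (hc : t * (g * t * g⁻¹) = g * t * g⁻¹ * t) : g * t * g⁻¹ = t := by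
  have M := F.toMn
  have hD := pResidual_normal 3 G
  obtain ⟨a, ha⟩ := F.mono _ (F.centT ev t2 ht (mc.2 hc.symm))
  have s2 : g * t * g⁻¹ * (g * t * g⁻¹) = 1 := by rw [conj_mul, t2]; group
  obtain ⟨-, -, -, -, -, -, -, c1, c2, v, c3, c4⟩ := c_m27
  rcases (c_m27.2.2.2.1 a (F.diagC ev ht ha hc.symm)).2.2 with rfl | ⟨w, hw, k⟩
  · obtain ⟨s, hs⟩ : ∃ s, s = g * t * g⁻¹ := ⟨_, rfl⟩
    rw [← hs] at ha s2
    have s2' : q * s * q⁻¹ * (q * s * q⁻¹) = 1 := by rw [conj_mul, s2]; group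
    have k1 := F.cent (M.memC ha (c1 ▸ (F.ar.mul ha).mul F.ar.inv))
    rw [inv_eq_of_mul_eq_one_right s2'] at k1
    have k2 : (q * s * q⁻¹ * s)⁻¹ * s * (q * s * q⁻¹ * s) = q * s * q⁻¹ := by
      generalize q * s * q⁻¹ = s' at s2' k1
      have e1 := inv_eq_of_mul_eq_one_right s2
      have e2 := inv_eq_of_mul_eq_one_right s2'
      calc _ = s'⁻¹ * (s' * s) ^ 3 := by
            rw [mul_inv_rev, e1, pow_three, mul_assoc s', inv_mul_cancel_left, e2]; simp only [mul_assoc]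
        _ = _ := by rw [F.cube _ k1, e2, mul_one]
    refine absurd (F.lemL ev t2 ht (g := (q * g * q⁻¹)⁻¹ * (q * s * q⁻¹ * s)⁻¹ * g) (mul_mem (mul_mem
      (inv_mem (hD.conj_mem g hg q)) (inv_mem (F.le_res k1))) hg) ?_ c3 c4) c2
    convert (F.ar.mul ht).mul F.ar.inv using 1
    calc _ = (q * g * q⁻¹)⁻¹ * ((q * s * q⁻¹ * s)⁻¹ * (g * t * g⁻¹) * (q * s * q⁻¹ * s)) * (q * g * q⁻¹) := by group
      _ = _ := by rw [← hs, k2, hs]; group
  · obtain rfl := F.lemL ev t2 ht hg ha hw k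
    have k1 := F.cent (M.memC ha ht)
    rw [inv_eq_of_mul_eq_one_right t2] at k1
    have k2 := eq_one_of_two_three (by
      rw [mul_assoc, ← mul_assoc (g * t * g⁻¹), ← hc, mul_assoc t, s2, mul_one, t2]) (F.cube _ k1)
    rw [← inv_eq_of_mul_eq_one_right k2, inv_eq_of_mul_eq_one_right t2]

theorem caseB : X.Normal := by
  have := Fact.mk Nat.prime_three
  have M := F.toMn
  obtain ⟨t, t2, ht⟩ := F.ex_inv (a := d1) (F.diag _) (by decide)
  have tX : t ∉ X := mt (F.J_iff ht).1 (by decide)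
  have tD : t ∈ pResidual 3 G := mem_pResidual_of_coprime
    (Nat.Coprime.coprime_dvd_left (orderOf_dvd_of_pow_eq_one (n := 2) (by rwa [pow_two])) (by decide))
  have hz : IsIsolatedInvolution (⟨t, tD⟩ : pResidual 3 G) := ⟨(orderOf_coe _).symm.trans
    (ord2 t2 fun k : t = 1 => tX (k ▸ one_mem _)), fun g h => Subtype.ext (F.iso ev t2 ht g.2 (congrArg Subtype.val h.eq))⟩
  let O := (oddCore (pResidual 3 G)).map (pResidual 3 G).subtype
  have : O.Normal := ConjAct.normal_of_characteristic_of_normal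
  have := Cfsg.Agent.S0205.result (G := O) (by
    rw [card_map_subtype]; exact Nat.coprime_two_right.1 (pPrimeCore_coprime 2 _))
  obtain ⟨p, K, hp, hM, -, M1, hc, h3⟩ := exists_abelian_normal_pgroup_le_of_isSolvable O fun k =>
    tX (F.cent fun j hj => (mul_inv_eq_iff_eq_mul.1 (mul_inv_eq_one.1 (mem_bot.1 (k ▸ mem_map_of_mem _
      (CL.Inv.zstar_mem_oddCore hz ⟨j, F.le_res hj⟩))))).symm)
  have cm : ∀ x ∈ K, ∀ y ∈ K, x * y = y * x := fun x hx y hy => congrArg Subtype.val (hc.1.1 ⟨x, hx⟩ ⟨y, hy⟩)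
  obtain rfl : p = 3 := by_contra fun k => M1 (F.sig K (by
    have := Fact.mk hp
    obtain ⟨n, hn⟩ := h3.exists_card_eq
    exact hn ▸ ((Nat.coprime_primes hp Nat.prime_three).2 k).pow_left n) le_normalizer_of_normal)
  have cM : ∀ g, ∀ m ∈ K, m * g * m⁻¹ * g⁻¹ ∈ K := fun g m hm => by
    simpa [mul_assoc] using mul_mem hm (hM.conj_mem _ (inv_mem hm) g)
  have MJ : K ≤ X := fun m hm => by
    obtain ⟨b, hb⟩ := F.mono m (M.le_H (M.three.to_sup_of_normal_right h3) le_sup_left (mem_sup_right hm))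
    refine (F.J_iff hb).2 (c_four.2.1 b fun v => (M.fix hb).1 ?_)
    rw [M.add, M.neg, ← M.app hb]
    exact cm _ hm _ (cM _ _ hm)
  obtain ⟨⟨m, hm⟩, m1⟩ := ne_bot_iff_exists_ne_one.1 M1
  exact normalizer_eq_top_iff.1 (eq_top_iff.2 fun g _ =>
    F.ti ev (MJ hm) (fun k => m1 (Subtype.ext k)) (MJ (hM.conj_mem m hm g)))

end

end Sy

theorem m27Thm : M27Thm.{u} := by
  intro G _ _ X e q F
  by_cases h : ∀ a, Re e a → Perm.sign a.1 = 1
  · exact F.caseB h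
  · push Not at h
    obtain ⟨a, h1, h2⟩ := h
    exact F.caseA h1 h2

end CL.Ast
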