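/-
Astill's theorem: reduction of the statement to the hypotheses `HypA`.
-/
import Cfsg.Agent.Ast.Defs2
import Cfsg.Agent.Transfer.SL23
import Cfsg.Agent.Grp.ExtraIndex

set_option autoImplicit false

namespace CL.Ast

open Subgroup Cfsg CL.Grp CL.Rec CL.Transfer
open scoped MatrixGroups

universe u

namespace RedA

abbrev SL3 := SL(2, ZMod 3)
abbrev YY := SL3 × Multiplicative (ZMod 2)

theorem f1 : ∀ y : SL3, y ^ 12 = 1 := by decide +kernel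
theorem f2 : ∀ a b : SL3, a ^ 4 = 1 → b ^ 4 = 1 → (a * b) ^ 4 = 1 := by decide +kernel
theorem f3 : ∀ y : SL3, y ^ 4 = 1 → y = 1 ∨ y = -1 ∨ y * y = -1 := by decide +kernel
theorem f4 : ∀ u y : SL3, u ^ 3 = 1 → u ≠ 1 → y ^ 4 = 1 → u * y = y * u → y = 1 ∨ y = -1 := by decide +kernel
theorem f5 : ∀ u g : SL3, u ^ 3 = 1 → u ≠ 1 → g ^ 4 = 1 ∨ (g * u * u) ^ 4 = 1 ∨ (g * u) ^ 4 = 1 := by decide +kernel
theorem f6 : (Finset.univ.filter fun y : SL3 => y ^ 4 = 1).card = 8 := by decide +kernel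
theorem f7 : ∀ y : SL3, ∃ a : SL3, a ^ 3 = 1 ∧ ((a * y) ^ 3 = 1 ∨ (a * sl23U * y) ^ 3 = 1) := by decide +kernel
theorem f8 : sl23U ^ 3 = 1 ∧ sl23U ≠ 1 ∧ (-1 : SL3) ≠ 1 := by decide +kernel
theorem f9 : ∀ a : Multiplicative (ZMod 2), a * a = 1 ∧ (a = 1 ∨ a = Multiplicative.ofAdd 1) := by decide

theorem n4 (g y : SL3) (h : y ^ 4 = 1) : (g * y * g⁻¹) ^ 4 = 1 := by rw [conj_pow, h]; simp

/-- the normal subgroup `Q₈ × 2` -/
def N2 : Subgroup YY where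
  carrier := {y | y.1 ^ 4 = 1}
  one_mem' := one_pow 4
  mul_mem' := fun {a b} ha hb => f2 a.1 b.1 ha hb
  inv_mem' := fun {a} ha => by
    show a.1⁻¹ ^ 4 = 1
    rw [inv_pow, show a.1 ^ 4 = 1 from ha, inv_one]

instance : N2.Normal := ⟨fun y hy g => n4 g.1 y.1 hy⟩

theorem N2_p : IsPGroup 2 N2 := fun ⟨y, hy⟩ => ⟨2, Subtype.ext (Prod.ext hy (by
  show y.2 ^ 4 = 1
  rw [show 4 = 2 * 2 from rfl, pow_mul, pow_two y.2, (f9 _).1, one_pow]))⟩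

theorem res_snd {y : YY} (hy : y ∈ pResidual 2 YY) : y.2 = 1 :=
  CL.Grp.pResidual_le_ker (p := 2) (MonoidHom.snd SL3 (Multiplicative (ZMod 2)))
    (fun a => ⟨1, by rw [pow_one, pow_two, (f9 a).1]⟩) hy

theorem res_SL : pResidual 2 SL3 = ⊤ := by
  have k : ∀ a : SL3, a ^ 3 = 1 → a ∈ pResidual 2 SL3 := fun a ha =>
    CL.Grp.mem_pResidual_of_coprime (Nat.Coprime.coprime_dvd_left (orderOf_dvd_of_pow_eq_one ha) (by norm_num))
  refine eq_top_iff.2 fun y _ => ?_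
  obtain ⟨a, ha, h | h⟩ := f7 y
  · exact (mul_mem_cancel_left (k a ha)).1 (k _ h)
  · exact (mul_mem_cancel_left (mul_mem (k a ha) (k _ f8.1))).1 (k _ h)

theorem res_YY {y : YY} (hy : y.2 = 1) : y ∈ pResidual 2 YY :=
  CL.Grp.map_pResidual_le (MonoidHom.inl SL3 (Multiplicative (ZMod 2)))
    ⟨y.1, by rw [res_SL]; trivial, Prod.ext rfl hy.symm⟩

variable {G : Type u} [Group G]

/-- The map from `C(z)` to `SL(2,3) × 2`. -/
structure Md (z : G) (C Q : Subgroup G) (φ : C →* YY) : Prop where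
  mC : ∀ g, g ∈ C ↔ g * z = z * g
  ker : ∀ c, φ c = 1 ↔ (c : G) ∈ Q
  Q3 : ∀ a ∈ Q, a ^ 3 = 1
  rng : ∀ y : SL3, ∃ c, φ c = (y, 1)
  two : (∀ c, (φ c).2 = 1) ∨ ∃ c, φ c = (1, Multiplicative.ofAdd 1)

/-- The Sylow 2-subgroup of `C(z)`. -/
structure Mt {C : Subgroup G} (φ : C →* YY) (T : Subgroup C) : Prop where
  lift : ∀ c, (φ c).1 ^ 4 = 1 → ∃ p ∈ T, φ p = φ c
  four : ∀ p ∈ T, (φ p).1 ^ 4 = 1
  inj : ∀ p ∈ T, ∀ q ∈ T, φ p = φ q → p = q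

variable {z : G} {C Q : Subgroup G} {φ : C →* YY}

theorem Md.modQ (h : Md z C Q φ) {a b : C} (e : φ a = φ b) : (a : G) * (b : G)⁻¹ ∈ Q :=
  (h.ker (a * b⁻¹)).1 (by rw [map_mul, map_inv, e, mul_inv_cancel])

theorem Md.of_modQ (h : Md z C Q φ) {a b : C} (e : (a : G) * (b : G)⁻¹ ∈ Q) : φ a = φ b := by
  have := (h.ker (a * b⁻¹)).2 e
  rwa [map_mul, map_inv, mul_inv_eq_one] at this

theorem Md.exT [Finite G] (h : Md z C Q φ) : ∃ T, Mt φ T := by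
  obtain ⟨T⟩ : Nonempty (Sylow 2 C) := inferInstance
  refine ⟨T, fun c hc => ?_, fun p hp => ?_, fun p hp q hq e => ?_⟩
  · have k := (N2_p.comap_subtype (K := φ.range)).le_sylow_of_normal
      (T.mapSurjective φ.rangeRestrict_surjective)
    obtain ⟨p, hp, e⟩ := k (x := φ.rangeRestrict c) hc
    exact ⟨p, hp, congrArg Subtype.val e⟩
  · obtain ⟨k, hk⟩ := T.isPGroup' ⟨p, hp⟩
    have h1 : p ^ 2 ^ k = 1 := congrArg Subtype.val hk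
    have h2 : ((φ p).1 ^ 4) ^ 2 ^ k = 1 := by
      rw [← pow_mul, mul_comm, pow_mul, ← Prod.pow_fst, ← map_pow, h1, map_one]; simp
    have h3 : ((φ p).1 ^ 4) ^ 3 = 1 := by rw [← pow_mul]; exact f1 _
    exact orderOf_eq_one_iff.1 (Nat.eq_one_of_dvd_coprimes (Nat.Coprime.pow_right k (by norm_num))
      (orderOf_dvd_of_pow_eq_one h3) (orderOf_dvd_of_pow_eq_one h2))
  · obtain ⟨k, hk⟩ := T.isPGroup' ⟨p * q⁻¹, T.1.mul_mem hp (T.1.inv_mem hq)⟩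
    have h1 : (p * q⁻¹) ^ 2 ^ k = 1 := congrArg Subtype.val hk
    have h3 : (p * q⁻¹) ^ 3 = 1 := Subtype.ext (h.Q3 _ (h.modQ e))
    exact mul_inv_eq_one.1 (orderOf_eq_one_iff.1 (Nat.eq_one_of_dvd_coprimes
      (Nat.Coprime.pow_right k (by norm_num)) (orderOf_dvd_of_pow_eq_one h3) (orderOf_dvd_of_pow_eq_one h1)))

/-- the quaternion group -/
def PP (φ : C →* YY) (T : Subgroup C) : Subgroup G := (T ⊓ ((MonoidHom.snd _ _).comp φ).ker).map C.subtype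

theorem mem_PP {T : Subgroup C} {g : G} : g ∈ PP φ T ↔ ∃ p ∈ T, (φ p).2 = 1 ∧ (p : G) = g :=
  ⟨fun ⟨p, hp, e⟩ => ⟨p, hp.1, hp.2, e⟩, fun ⟨p, h1, h2, e⟩ => ⟨p, ⟨h1, h2⟩, e⟩⟩

variable {T : Subgroup C} {t : C}

theorem Md.q8 (h : Md z C Q φ) (m : Mt φ T) (ht : t ∈ T) (e : φ t = (-1, 1)) : Q8 (t : G) (PP φ T) := by
  refine ⟨?_, ?_, fun k => ?_, mem_PP.2 ⟨t, ht, by rw [e], rfl⟩, fun g hg => ?_⟩
  · rw [PP, card_map_of_injective C.subtype_injective, ← f6, ← Nat.card_eq_finsetCard]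
    refine Nat.card_congr (Equiv.ofBijective (fun p => ⟨(φ p.1).1, by simpa using m.four _ p.2.1⟩)
      ⟨fun p q k => Subtype.ext (m.inj _ p.2.1 _ q.2.1 (Prod.ext (congrArg Subtype.val k)
        (p.2.2.trans (Eq.symm q.2.2)))), fun ⟨y, hy⟩ => ?_⟩)
    obtain ⟨c, hc⟩ := h.rng y
    obtain ⟨p, hp, k⟩ := m.lift c (by rw [hc]; simpa using hy)
    exact ⟨⟨p, hp, show (φ p).2 = 1 by rw [k, hc]⟩, Subtype.ext (show (φ p).1 = y by rw [k, hc])⟩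
  · exact congrArg Subtype.val (m.inj (t * t) (T.mul_mem ht ht) 1 T.one_mem (by rw [map_mul, e, map_one]; simp))
  · rw [show t = 1 from Subtype.ext k, map_one] at e
    exact f8.2.2 (congrArg Prod.fst e).symm
  · obtain ⟨p, hp, h2, rfl⟩ := mem_PP.1 hg
    rcases f3 _ (m.four p hp) with k | k | k
    · exact Or.inl (congrArg Subtype.val (m.inj p hp 1 T.one_mem (by rw [map_one]; exact Prod.ext k h2)))
    · exact Or.inr (Or.inl (congrArg Subtype.val (m.inj p hp t ht (by rw [e]; exact Prod.ext k h2))))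
    · exact Or.inr (Or.inr (congrArg Subtype.val (m.inj (p * p) (T.mul_mem hp hp) t ht (by
        rw [e, map_mul]; exact Prod.ext k (f9 _).1))))

theorem Md.three (h : Md z C Q φ) {s : C} (h3 : (s : G) ^ 3 ∈ Q) (hs : (s : G) ∉ Q) :
    (φ s).2 = 1 ∧ (φ s).1 ^ 3 = 1 ∧ (φ s).1 ≠ 1 := by
  have k := (h.ker (s ^ 3)).2 h3
  rw [map_pow] at k
  have k2 : (φ s).2 = 1 := by
    have := congrArg Prod.snd k
    rwa [Prod.pow_snd, pow_succ, pow_two, (f9 _).1, one_mul] at this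
  exact ⟨k2, congrArg Prod.fst k, fun e => hs ((h.ker s).1 (Prod.ext e k2))⟩

theorem Md.s3 (h : Md z C Q φ) (m : Mt φ T) (ht : t ∈ T) (e : φ t = (-1, 1)) (s : G) (hz : s * z = z * s)
    (h3 : s ^ 3 ∈ Q) (hs : s ∉ Q) (g : G) (hg : g ∈ PP φ T) (k : s * g * s⁻¹ * g⁻¹ ∈ Q) : g ∈ zpowers (t : G) := by
  obtain ⟨p, hp, h2, rfl⟩ := mem_PP.1 hg
  obtain ⟨-, u3, u1⟩ := h.three (s := ⟨s, (h.mC s).2 hz⟩) h3 hs
  have k1 := h.of_modQ (a := ⟨s, (h.mC s).2 hz⟩ * p * (⟨s, (h.mC s).2 hz⟩ : C)⁻¹) (b := p) k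
  rw [map_mul, map_mul, map_inv, mul_inv_eq_iff_eq_mul] at k1
  rcases f4 _ _ u3 u1 (m.four p hp) (congrArg Prod.fst k1 :) with k | k
  · rw [m.inj p hp 1 T.one_mem (by rw [map_one]; exact Prod.ext k h2)]
    exact one_mem _
  · rw [m.inj p hp t ht (by rw [e]; exact Prod.ext k h2)]
    exact mem_zpowers _

theorem Md.dec (h : Md z C Q φ) (m : Mt φ T) {s : C} (h3 : (s : G) ^ 3 ∈ Q) (hs : (s : G) ∉ Q) (g : C)
    (hg : (φ g).2 = 1) : ∃ a ∈ Q, ∃ p ∈ PP φ T, ∃ i : ℕ, (g : G) = a * p * s ^ i := by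
  obtain ⟨u2, u3, u1⟩ := h.three h3 hs
  obtain ⟨i, hi⟩ : ∃ i : ℕ, ((φ g).1 * ((φ s).1 ^ i)⁻¹) ^ 4 = 1 := by
    rcases f5 _ (φ g).1 u3 u1 with k | k | k
    · exact ⟨0, by simpa using k⟩
    · exact ⟨1, by rwa [pow_one, inv_eq_of_mul_eq_one_right (pow_three (φ s).1 ▸ u3), ← mul_assoc]⟩
    · exact ⟨2, by rwa [inv_eq_of_mul_eq_one_right ((pow_succ (φ s).1 2) ▸ u3)]⟩
  obtain ⟨p, hp, k⟩ := m.lift (g * (s ^ i)⁻¹) (by simpa using hi)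
  refine ⟨_, h.modQ k.symm, p, mem_PP.2 ⟨p, hp, by rw [k]; simp [hg, u2], rfl⟩, i, ?_⟩
  simp

theorem Md.nP (h : Md z C Q φ) (m : Mt φ T) (g : G) (hz : g * z = z * g) (a : G) (ha : a ∈ PP φ T) :
    ∃ p' ∈ PP φ T, g * a * g⁻¹ * p'⁻¹ ∈ Q := by
  obtain ⟨p, hp, h2, rfl⟩ := mem_PP.1 ha
  obtain ⟨p', hp', k⟩ := m.lift (⟨g, (h.mC g).2 hz⟩ * p * (⟨g, (h.mC g).2 hz⟩ : C)⁻¹)
    (by rw [map_mul, map_mul, map_inv]; exact n4 _ _ (m.four p hp))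
  exact ⟨p', mem_PP.2 ⟨p', hp', by rw [k]; simp [h2], rfl⟩, h.modQ k.symm⟩

theorem Md.cen (h : Md z C Q φ) {c : C} (hc : (φ c).1 = 1 ∨ (φ c).1 = -1) (g : G) (hz : g * z = z * g) :
    g * c * g⁻¹ * (c : G)⁻¹ ∈ Q := by
  refine h.modQ (a := ⟨g, (h.mC g).2 hz⟩ * c * (⟨g, (h.mC g).2 hz⟩ : C)⁻¹) ?_
  rw [map_mul, map_mul, map_inv, mul_inv_eq_iff_eq_mul]
  refine Prod.ext ?_ (mul_comm _ _)
  rcases hc with k | k <;> simp [k]

theorem Md.dec2 (h : Md z C Q φ) (m : Mt φ T) (e : φ t = (-1, 1)) :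
    (∀ s, s * z = z * s → s ^ 3 ∈ Q → s ∉ Q → ∀ g, g * z = z * g →
      ∃ a ∈ Q, ∃ p ∈ PP φ T, ∃ i : ℕ, g = a * p * s ^ i) ∨
    ∃ τ, τ * τ = 1 ∧ τ ∉ zpowers (t : G) ∧ τ * z = z * τ ∧ (∀ p ∈ PP φ T, τ * p = p * τ) ∧
      (∀ g, g * z = z * g → g * τ * g⁻¹ * τ⁻¹ ∈ Q) ∧ ∀ s, s * z = z * s → s ^ 3 ∈ Q → s ∉ Q → ∀ g, g * z = z * g →
        ∃ a ∈ Q, ∃ p ∈ PP φ T, ∃ i : ℕ, g = a * p * s ^ i ∨ g = a * p * s ^ i * τ := by
  rcases h.two with k | ⟨c, hc⟩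
  · exact Or.inl fun s hz h3 hs g hg => h.dec m (s := ⟨s, (h.mC s).2 hz⟩) h3 hs ⟨g, (h.mC g).2 hg⟩ (k _)
  obtain ⟨τ, hτ, k⟩ := m.lift c (by rw [hc]; simp)
  rw [hc] at k
  have tt : τ * τ = 1 := m.inj _ (T.mul_mem hτ hτ) 1 T.one_mem (by
    rw [map_mul, k, map_one φ]; exact Prod.ext (mul_one _) (f9 _).1)
  refine Or.inr ⟨τ, congrArg Subtype.val tt, fun ⟨i, hi⟩ => ?_, (h.mC _).1 τ.2, fun a ha => ?_,
    h.cen (Or.inl (by rw [k])), fun s hz h3 hs g hg => ?_⟩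
  · have h1 : t ^ i = τ := Subtype.ext hi
    have h2 := congrArg Prod.snd k
    rw [← h1, map_zpow, e, Prod.pow_snd, one_zpow] at h2
    exact absurd h2 (by decide)
  · obtain ⟨p, hp, -, rfl⟩ := mem_PP.1 ha
    exact congrArg Subtype.val (m.inj (τ * p) (T.mul_mem hτ hp) (p * τ) (T.mul_mem hp hτ) (by
      rw [map_mul, map_mul, k]; exact Prod.ext (by simp) (mul_comm _ _)))
  · rcases (f9 (φ ⟨g, (h.mC g).2 hg⟩).2).2 with k1 | k1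
    · obtain ⟨a, ha, p, hp, i, e⟩ := h.dec m (s := ⟨s, (h.mC s).2 hz⟩) h3 hs _ k1
      exact ⟨a, ha, p, hp, i, Or.inl e⟩
    · obtain ⟨a, ha, p, hp, i, e⟩ := h.dec m (s := ⟨s, (h.mC s).2 hz⟩) h3 hs (⟨g, (h.mC g).2 hg⟩ * τ)
        (by rw [map_mul, Prod.snd_mul, k1, k]; exact (f9 _).1)
      refine ⟨a, ha, p, hp, i, Or.inr ?_⟩
      rw [← show g * τ = a * p * s ^ i from e, mul_assoc, show (τ : G) * τ = 1 from congrArg Subtype.val tt, mul_one]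

theorem Md.c3 [Finite G] (h : Md z C Q φ) (S : Sylow 3 G) (hS : (S : Subgroup G) ≤ C) (hQ : Q ≤ C)
    (cQ : Nat.card Q = 243) : ¬ 3 ^ 7 ∣ Nat.card G := fun k => by
  have k1 : φ.ker = Q.subgroupOf C := Subgroup.ext fun c => h.ker c
  have k2 := φ.ker.card_mul_index
  rw [index_ker, k1, Nat.card_congr (subgroupOfEquivOfLe hQ).toEquiv, cQ] at k2
  have k3 : Nat.card φ.range ∣ 48 := by
    have := φ.range.card_subgroup_dvd_card
    rwa [Nat.card_prod, card_SL23, Nat.card_eq_fintype_card (α := Multiplicative (ZMod 2))] at this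
  have k4 := ((S.pow_dvd_card_of_pow_dvd_card k).trans (card_dvd_of_le hS)).trans
    (k2 ▸ Nat.mul_dvd_mul_left 243 k3)
  exact absurd k4 (by norm_num)

theorem exists_phi {C : Subgroup G} (N : Subgroup C) [N.Normal]
    (e : Nonempty (C ⧸ N ≃* SL3) ∨ Nonempty (C ⧸ N ≃* YY)) : ∃ φ : C →* YY, (∀ c, φ c = 1 ↔ c ∈ N) ∧
    (∀ y : SL3, ∃ c, φ c = (y, 1)) ∧ ((∀ c, (φ c).2 = 1) ∨ ∃ c, φ c = (1, Multiplicative.ofAdd 1)) ∧
    ∀ c, QuotientGroup.mk' N c ∈ pResidual 2 (C ⧸ N) ↔ (φ c).2 = 1 := by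
  rcases e with ⟨⟨e⟩⟩ | ⟨⟨e⟩⟩
  · refine ⟨(MonoidHom.inl _ _).comp (e.toMonoidHom.comp (QuotientGroup.mk' N)), fun c => ?_, fun y => ?_,
      Or.inl fun _ => rfl, fun c => iff_of_true ?_ rfl⟩
    · simp [Prod.ext_iff]
    · obtain ⟨c, hc⟩ := QuotientGroup.mk'_surjective N (e.symm y)
      exact ⟨c, Prod.ext (show e (QuotientGroup.mk' N c) = y by rw [hc, e.apply_symm_apply]) rfl⟩
    · rw [← map_pResidual_equiv e.symm, res_SL]
      exact ⟨e (QuotientGroup.mk' N c), trivial, by simp⟩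
  · have k : ∀ y, ∃ c, e (QuotientGroup.mk' N c) = y := fun y => by
      obtain ⟨c, hc⟩ := QuotientGroup.mk'_surjective N (e.symm y)
      exact ⟨c, by rw [hc, e.apply_symm_apply]⟩
    refine ⟨e.toMonoidHom.comp (QuotientGroup.mk' N), fun c => by simp, fun y => k _, Or.inr (k _),
      fun c => ⟨fun hc => res_snd (CL.Grp.map_pResidual_le e.toMonoidHom ⟨_, hc, rfl⟩), fun hc => ?_⟩⟩
    exact CL.Grp.map_pResidual_le e.symm.toMonoidHom ⟨_, res_YY hc, by simp⟩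

end RedA

open RedA in
theorem redAThm (b : RedBThm.{u}) : RedAThm.{u} := by
  intro G _ _ S Z C Q K hZ hC hQ ex cQ Q3 hCQ ⟨x, hx, hx'⟩ hK r A A0 Ar mono inv max e one
  have hSC : (S : Subgroup G) ≤ C := by
    rw [hC]
    intro s hs w hw
    rw [hZ] at hw
    exact (hw.2 s hs).symm
  have hQC : Q ≤ C := hQ ▸ map_subtype_le _
  have hQS : Q ≤ S := by
    rw [hQ]
    rintro _ ⟨c, hc, rfl⟩
    exact (pCore_isPGroup 3 C).le_sylow_of_normal (S.subtype hSC) hc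
  have hZQ : Z ≤ Q ⊓ centralizer (Q : Set G) := fun w hw => by
    rw [hZ] at hw
    have : w ∈ centralizer (Q : Set G) := fun q hq => hw.2 q (hQS hq)
    exact ⟨hCQ this, this⟩
  have c3 : Nat.card (Q ⊓ centralizer (Q : Set G) : Subgroup G) = 3 := extra_card_inf_centralizer ex
  have Zn : Z ≠ ⊥ := fun k => hx' (by rw [k, Subgroup.map_bot])
  obtain ⟨z, hz, z1⟩ := (bot_or_exists_ne_one Z).resolve_left Zn
  have zQ := (hZQ hz).1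
  have oz : orderOf z = 3 := orderOf_eq_prime (Q3 z zQ) z1
  have zp : zpowers z = Q ⊓ centralizer (Q : Set G) :=
    eq_of_le_of_card_ge ((zpowers_le.2 hz).trans hZQ) (by rw [c3, Nat.card_zpowers, oz])
  have Zz : Z = zpowers z := le_antisymm (zp ▸ hZQ) (zpowers_le.2 hz)
  have mC : ∀ g, g ∈ C ↔ g * z = z * g := fun g => by
    rw [hC, Zz]
    exact ⟨fun k => (k z (mem_zpowers z)).symm, fun k w hw => (Ex.cz hw k).symm⟩
  have mQ : ∀ c : C, c ∈ pCore 3 C ↔ (c : G) ∈ Q := fun c => by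
    rw [hQ]
    exact ⟨fun k => ⟨c, k, rfl⟩, fun ⟨d, k, e⟩ => Subtype.ext e ▸ k⟩
  obtain ⟨φ, ker, rng, two, res⟩ := exists_phi _ e
  have h : Md z C Q φ := ⟨mC, fun c => (ker c).trans (mQ c), Q3, rng, two⟩
  have mK : ∀ g, g ∈ K ↔ ∃ c : C, (φ c).2 = 1 ∧ (c : G) = g := fun g => by
    rw [hK]
    exact ⟨fun ⟨c, k, e⟩ => ⟨c, (res c).1 k, e⟩, fun ⟨c, k, e⟩ => ⟨c, (res c).2 k, e⟩⟩
  obtain ⟨T, m⟩ := h.exT
  obtain ⟨c, hc⟩ := rng (-1)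
  obtain ⟨t, ht, et⟩ := m.lift c (by rw [hc]; exact Even.neg_one_pow (by decide))
  rw [hc] at et
  have q8 := h.q8 m ht et
  have E : Ex z (t : G) Q := by
    refine ⟨oz, cQ, Q3, zQ, fun a ha => (mC a).1 (hQC ha), fun g hg => ?_, fun a ha b hb => ?_, fun g hg => ?_,
      q8.t2, (mC _).1 t.2, h.cen (Or.inr (by rw [et]))⟩
    · rw [hQ]
      refine normalizer_le_normalizer_map_subtype _ ?_
      rw [hC, Zz]
      refine le_normalizer_centralizer' le_rfl (mem_normalizer_fintype fun a ⟨i, hi⟩ => ?_)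
      rw [← hi]
      exact conj_zpow (a := g) (b := z) (i := i) ▸ zpow_mem hg i
    · rw [zp, ← map_subtype_center_eq]
      exact ⟨_, extra_comm_mem_center ex ⟨a, ha⟩ ⟨b, hb⟩, rfl⟩
    · rw [zp]
      have : g ∈ centralizer (Q : Set G) := fun b hb => (hg b hb).symm
      exact ⟨hCQ this, this⟩
  obtain ⟨s, hs⟩ := rng sl23U
  have s3 : (s : G) ^ 3 ∈ Q := (h.ker (s ^ 3)).1 (by rw [map_pow, hs]; exact Prod.ext f8.1 (one_pow _))
  have sQ : (s : G) ∉ Q := fun k => f8.2.1 (by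
    have := congrArg Prod.fst ((h.ker s).2 k)
    rwa [hs] at this)
  have sz := (mC _).1 s.2
  obtain ⟨c2, PQ⟩ := b (K := K) E q8 (fun g hg => by
      obtain ⟨p, -, k, rfl⟩ := mem_PP.1 hg
      exact (mK _).2 ⟨p, k, rfl⟩) (fun g hg => by
      obtain ⟨p, -, rfl⟩ := (mK g).1 hg
      exact (mC _).1 p.2) ((mK _).2 ⟨s, by rw [hs], rfl⟩) s3 (h.nP m s sz) (h.s3 m ht et s sz s3 sQ)
    (fun g hg => by
      obtain ⟨p, k, rfl⟩ := (mK g).1 hg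
      exact h.dec m s3 sQ p k) r A (A0.trans Zz) Ar mono inv max one
  refine ⟨z, t, PP φ T, ⟨oz, h.c3 S hSC hQC cQ, cQ, Q3, zQ, E.Qz, E.nQ, E.cmQ, E.ZQ, q8, fun g hg => ?_, E.tc, c2,
    PQ, h.s3 m ht et, h.dec2 m et, x, hx ⟨z, hz, rfl⟩, fun k => hx' ?_⟩, h.nP m⟩
  · obtain ⟨p, -, -, rfl⟩ := mem_PP.1 hg
    exact (mC _).1 p.2
  · refine eq_of_le_of_card_ge ?_ (by rw [card_map_of_injective (MulAut.conj x).injective])
    rw [Zz, MonoidHom.map_zpowers]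
    exact zpowers_le.2 k

end CL.Ast
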