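/-
Astill's theorem: `|C_Q(t)| = 27` and `P` centralises `C_Q(t)`, from the chief factor hypothesis.
-/
import Cfsg.Agent.Ast.Defs2

set_option autoImplicit false

namespace CL.Ast

open Subgroup Cfsg CL.Grp CL.Rec CL.Perm CL.G23 CL.McL3 CL.McL3.C27 CL.S9R Equiv
open scoped Pointwise

universe u

namespace RedB

theorem lin {W : Type*} [AddCommGroup W] [Module (ZMod 3) W] (hW : Nat.card W = 81)
    {I J K S : Module.End (ZMod 3) W} (hI : I * I = -1) (hJ : J * J = -1) (hIJ : I * J = -(J * I))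
    (hK : I * J * K = 1 ∨ I * J * K = -1) (sI : S * I = J * S) (sJ : S * J = K * S) (sK : S * K = I * S)
    (s3 : S * S * S = 1) : ∃ U : Submodule (ZMod 3) W, U ≠ ⊥ ∧ U ≠ ⊤ ∧ (∀ w ∈ U, I w ∈ U) ∧ (∀ w ∈ U, J w ∈ U) ∧
      ∀ w ∈ U, S w ∈ U := by
  have h3 : (3 : Module.End (ZMod 3) W) = 0 :=
    (map_ofNat (algebraMap (ZMod 3) (Module.End (ZMod 3) W)) 3).symm.trans (map_zero _)
  have hF : Finite W := Nat.finite_of_card_ne_zero (by omega)
  have hn : Nontrivial W := Finite.one_lt_card_iff_nontrivial.1 (by omega)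
  have e0 : K = J * I * (I * J * K) := by
    rw [show J * I * (I * J * K) = J * (I * I) * J * K by noncomm_ring, hI, mul_neg_one, neg_mul J, hJ]; simp
  obtain ⟨ε, h1, h2⟩ : ∃ ε : ℤ, ε * ε = 1 ∧ K = ε • (I * J) := by
    rcases hK with h | h
    · exact ⟨-1, rfl, by rw [e0, h, hIJ]; simp⟩
    · exact ⟨1, rfl, by rw [e0, h, hIJ]; simp⟩
  have hJI : J * I = -(I * J) := by rw [hIJ, neg_neg]
  have a1 : I * K = -(ε • J) := by rw [h2, mul_smul_comm, ← mul_assoc, hI]; simp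
  have a2 : K * I = ε • J := by rw [h2, smul_mul_assoc, mul_assoc, hJI, mul_neg, ← mul_assoc, hI]; simp
  have a3 : J * K = ε • I := by rw [h2, mul_smul_comm, ← mul_assoc, hJI, neg_mul, mul_assoc, hJ]; simp
  have a4 : K * J = -(ε • I) := by rw [h2, smul_mul_assoc, mul_assoc, hJ]; simp
  have a5 : K * K = -1 := by
    nth_rw 2 [h2]
    rw [mul_smul_comm, ← mul_assoc, a2, smul_mul_assoc, hJ, smul_smul, h1, one_smul]
  have hN : (I + J + K) * (I + J + K) = 0 := by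
    rw [show (I + J + K) * (I + J + K) = I * I + J * J + K * K + (I * J + J * I) + (I * K + K * I) + (J * K + K * J) by
      noncomm_ring, hI, hJ, a5, hJI, a1, a2, a3, a4, ← neg_eq_zero, ← h3]
    simp only [add_neg_cancel, neg_add_cancel, add_zero]
    norm_num
  have hS : (I + J + K) * (S - 1) = (S - 1) * (I + J + K) := by
    rw [mul_sub, sub_mul, mul_add S, mul_add S, sI, sJ, sK]; noncomm_ring
  have hD : (S - 1) * (S - 1) * (S - 1) = 0 := by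
    rw [show (S - 1) * (S - 1) * (S - 1) = S * S * S - 1 - 3 * (S * S - S) by noncomm_ring, s3, h3]; simp
  have st : ∀ w, (I + J + K) w = 0 → (I + J + K) ((S - 1) w) = 0 := fun w hw => by
    rw [← Module.End.mul_apply, hS, Module.End.mul_apply, hw, map_zero]
  obtain ⟨w, w0, w1, w2⟩ : ∃ w, w ≠ 0 ∧ (I + J + K) w = 0 ∧ (S - 1) w = 0 := by
    obtain ⟨v, v0, v1⟩ : ∃ v, v ≠ 0 ∧ (I + J + K) v = 0 := by
      obtain ⟨v, hv⟩ := exists_ne (0 : W)
      by_cases h : (I + J + K) v = 0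
      · exact ⟨v, hv, h⟩
      · exact ⟨_, h, by rw [← Module.End.mul_apply, hN]; rfl⟩
    by_cases h : (S - 1) v = 0
    · exact ⟨v, v0, v1, h⟩
    by_cases h' : (S - 1) ((S - 1) v) = 0
    · exact ⟨_, h, st _ v1, h'⟩
    · exact ⟨_, h', st _ (st _ v1), by rw [← Module.End.mul_apply, ← Module.End.mul_apply, hD]; rfl⟩
  have w3 : S w = w := sub_eq_zero.1 w2
  have w4 : J w = ε • w + I w := by
    have b1 : J = ε • 1 + I + (ε • (I * (I + J + K)) - (I + J + K)) + 3 * J := by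
      rw [mul_add I, mul_add I, hI, a1, smul_add, smul_add, ← h2, smul_neg ε (ε • J), smul_smul, h1, one_smul, smul_neg]
      noncomm_ring
    rw [b1, h3]
    simp [w1]
  have mw : w ∈ Submodule.span (ZMod 3) {w, I w} := Submodule.subset_span (by simp)
  have mI : I w ∈ Submodule.span (ZMod 3) {w, I w} := Submodule.subset_span (by simp)
  have mJ : J w ∈ Submodule.span (ZMod 3) {w, I w} := w4 ▸ add_mem (zsmul_mem mw ε) mI
  have iv : ∀ T : Module.End (ZMod 3) W, T w ∈ Submodule.span (ZMod 3) {w, I w} →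
      T (I w) ∈ Submodule.span (ZMod 3) {w, I w} → ∀ v ∈ Submodule.span (ZMod 3) {w, I w},
      T v ∈ Submodule.span (ZMod 3) {w, I w} := fun T h1 h2 v hv => by
    obtain ⟨a, b, rfl⟩ := Submodule.mem_span_pair.1 hv
    rw [map_add, map_smul, map_smul]
    exact add_mem (Submodule.smul_mem _ a h1) (Submodule.smul_mem _ b h2)
  have iI := iv I mI (by rw [← Module.End.mul_apply, hI]; exact neg_mem mw)
  refine ⟨_, fun h => w0 ((Submodule.eq_bot_iff _).1 h w mw), fun h => ?_, iI,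
    iv J mJ (by rw [← Module.End.mul_apply, hJI]; exact neg_mem (iI _ mJ)),
    iv S (w3.symm ▸ mw) (by rw [← Module.End.mul_apply, sI, Module.End.mul_apply, w3]; exact mJ)⟩
  have := Nat.card_le_card_of_surjective (fun x : ZMod 3 × ZMod 3 => x.1 • w + x.2 • I w) fun v => by
    obtain ⟨a, b, e⟩ := Submodule.mem_span_pair.1 (h ▸ Submodule.mem_top : v ∈ Submodule.span (ZMod 3) {w, I w})
    exact ⟨(a, b), e⟩
  rw [hW, Nat.card_prod, Nat.card_zmod] at this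
  omega

variable {G : Type u} [Group G] {z t : G} {Q : Subgroup G}

theorem model (h : Ex z t Q) : ∃ (W : Type u) (_ : AddCommGroup W) (_ : Module (ZMod 3) W) (φ : G → W)
    (ρ : G → Module.End (ZMod 3) W), Nat.card W = 81 ∧ (∀ a ∈ Q, ∀ b ∈ Q, φ (a * b) = φ a + φ b) ∧
    (∀ a ∈ Q, φ a = 0 ↔ a ∈ zpowers z) ∧ (∀ w, ∃ a ∈ Q, φ a = w) ∧
    ∀ g, g * z = z * g → ∀ a ∈ Q, ρ g (φ a) = φ (g * a * g⁻¹) := by
  classical
  let N := (zpowers z).subgroupOf Q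
  have hN : N.Normal := ⟨fun a ha g => show g.1 * a.1 * g.1⁻¹ ∈ zpowers z from (Ex.conj_z ha (h.Qz _ g.2)).symm ▸ ha⟩
  let _ : CommGroup (Q ⧸ N) := { (inferInstance : Group (Q ⧸ N)) with
    mul_comm := fun a b => by
      obtain ⟨a, rfl⟩ := QuotientGroup.mk_surjective a
      obtain ⟨b, rfl⟩ := QuotientGroup.mk_surjective b
      rw [← mul_inv_eq_iff_eq_mul, ← mul_inv_eq_one]
      exact (QuotientGroup.eq_one_iff _).2 (h.cmQ a a.2 b b.2) }
  let _ : Module (ZMod 3) (Additive (Q ⧸ N)) := AddCommGroup.zmodModule fun x => by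
    obtain ⟨a, e⟩ := QuotientGroup.mk_surjective x.toMul
    change x.toMul ^ 3 = 1
    rw [← e, ← QuotientGroup.mk_pow, show a ^ 3 = 1 from Subtype.ext (h.Q3 a a.2)]
    rfl
  refine ⟨Additive (Q ⧸ N), inferInstance, inferInstance,
    fun g => if hg : g ∈ Q then Additive.ofMul (QuotientGroup.mk ⟨g, hg⟩) else 0,
    fun g => if hg : g * z = z * g then (MonoidHom.toAdditive (QuotientGroup.map N N
      (Q.normalizerMonoidHom ⟨g, h.nC hg⟩).toMonoidHom fun a ha =>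
        show g * a.1 * g⁻¹ ∈ zpowers z from (Ex.conj_z ha hg).symm ▸ ha)).toZModLinearMap 3 else 1,
    ?_, fun a ha b hb => ?_, fun a ha => ?_, fun w => ?_, fun g hg a ha => ?_⟩
  · have k := card_eq_card_quotient_mul_card_subgroup N
    rw [h.cQ, Nat.card_congr (subgroupOfEquivOfLe h.ZleQ).toEquiv, Nat.card_zpowers, h.oz] at k
    rw [Nat.card_congr Additive.toMul]
    omega
  · simp only [dif_pos ha, dif_pos hb, dif_pos (mul_mem ha hb)]
    rfl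
  · simp only [dif_pos ha]
    exact QuotientGroup.eq_one_iff (N := N) _
  · obtain ⟨a, e⟩ := QuotientGroup.mk_surjective w.toMul
    exact ⟨a, a.2, by simp only [dif_pos a.2]; exact congrArg Additive.ofMul e⟩
  · simp only [dif_pos ha, dif_pos hg, dif_pos (h.cj hg ha)]
    rfl

theorem ch (h : Ex z t Q) {r : ℕ} {A : Fin (r + 1) → Subgroup G} (A0 : A 0 = zpowers z) (AQ : ∀ i, A i ≤ Q) {v : G}
    (vz : v * z = z * v) (v4 : v ^ 4 = 1) {M : Subgroup G} (hM : ∀ a ∈ M, v * a * v⁻¹ ∈ M)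
    (hc : ∀ i : Fin r, ∀ a ∈ A i.succ, a ∈ M → v * a * v⁻¹ * a⁻¹ ∈ A i.castSucc) (i : Fin (r + 1)) :
    ∀ a ∈ A i, a ∈ M → v * a = a * v := by
  induction i using Fin.induction with
  | zero => exact fun a ha _ => Ex.cz (A0 ▸ ha) vz
  | succ i ih =>
    intro a ha hm
    have h1 := ih _ (hc i a ha hm) (mul_mem (hM a hm) (inv_mem hm))
    have h2 := h.Q3 _ (AQ _ (hc i a ha hm))
    obtain ⟨c, e⟩ : ∃ c, c = v * a * v⁻¹ * a⁻¹ := ⟨_, rfl⟩
    rw [← e] at h1 h2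
    have k : ∀ n : ℕ, v ^ n * a * (v ^ n)⁻¹ = c ^ n * a := fun n => by
      induction n with
      | zero => simp
      | succ n ih =>
        rw [pow_succ', show v * v ^ n * a * (v * v ^ n)⁻¹ = v * (v ^ n * a * (v ^ n)⁻¹) * v⁻¹ by group, ih, ← mul_assoc,
          (Commute.pow_right h1 n).eq, pow_succ c, mul_assoc _ c, e]
        group
    have h3 := k 4
    rw [v4, pow_succ, h2, e] at h3
    exact mul_inv_eq_iff_eq_mul.1 (by simpa using h3.symm)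

theorem nine [Finite G] (h : Ex z t Q) {A : Subgroup G} (hA : Nat.card A = 9) :
    ∃ c ∈ A, c ∉ zpowers z ∧ ∀ a ∈ A, c * a = a * c := by
  have : Fact (Nat.Prime 3) := ⟨Nat.prime_three⟩
  obtain ⟨c, hc, h1⟩ := SetLike.not_le_iff_exists.1 fun k : A ≤ zpowers z => by
    have := card_le_of_le k
    rw [Nat.card_zpowers, h.oz] at this
    omega
  exact ⟨c, hc, h1, fun a ha => congrArg Subtype.val
    ((IsPGroup.isMulCommutative_of_card_eq_prime_sq (p := 3) hA).is_comm.comm ⟨c, hc⟩ ⟨a, ha⟩)⟩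

/-- the elements of `B'` that `t` centralizes modulo `B` -/
def fx (h : Ex z t Q) {B B' : Subgroup G} (hZ : zpowers z ≤ B) (hB : B ≤ Q) (hB' : B' ≤ Q) : Subgroup G where
  carrier := {b | b ∈ B' ∧ t * b * t⁻¹ * b⁻¹ ∈ B}
  one_mem' := ⟨one_mem _, by simp⟩
  mul_mem' := fun {a b} ha hb => ⟨mul_mem ha.1 hb.1, by
    obtain ⟨w, hw, e⟩ := h.cj_eq (hB' ha.1) (hB hb.2)
    have := mul_mem ha.2 (e ▸ mul_mem hb.2 (hZ hw))
    simpa only [mul_inv_rev, mul_assoc, inv_mul_cancel_left] using this⟩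
  inv_mem' := fun {a} ha => ⟨inv_mem ha.1, by
    obtain ⟨w, hw, e⟩ := h.cj_eq (inv_mem (hB' ha.1)) (inv_mem (hB ha.2))
    have := e ▸ mul_mem (inv_mem ha.2) (hZ hw)
    simpa only [mul_inv_rev, inv_inv, mul_assoc, inv_mul_cancel_left] using this⟩

theorem inv_sub [Finite G] (h : Ex z t Q) {P : Subgroup G} (hP : Q8 t P) (Pz : ∀ p ∈ P, p * z = z * p) {s : G}
    (sz : s * z = z * s) (s3 : s ^ 3 ∈ Q) (h1 : ∀ p ∈ P, ∃ p' ∈ P, s * p * s⁻¹ * p'⁻¹ ∈ Q)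
    (h2 : ∀ p ∈ P, s * p * s⁻¹ * p⁻¹ ∈ Q → p ∈ zpowers t) (hq : ∀ a ∈ Q, t * a * t⁻¹ * a ∈ zpowers z) :
    ∃ U : Subgroup G, zpowers z < U ∧ U < Q ∧ Q ≤ normalizer (U : Set G) ∧ P ≤ normalizer (U : Set G) ∧
      s ∈ normalizer (U : Set G) := by
  have PQ : ∀ a ∈ P, ∀ b ∈ P, a * b⁻¹ ∈ Q → a = b := fun a ha b hb k => by
    have k1 := hP.four (mul_mem ha (inv_mem hb))
    rwa [pow_succ, h.Q3 _ k, one_mul, mul_inv_eq_one] at k1
  have Tm : ∀ a b, b ∈ P → s * a * s⁻¹ * b⁻¹ ∈ Q → s * (a * t) * s⁻¹ * (b * t)⁻¹ ∈ Q := fun a b hb k => by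
    have := mul_mem k (h.cj (Pz b hb) (h.tc s sz))
    simpa only [mul_inv_rev, mul_assoc, inv_mul_cancel_left] using this
  have T3 : ∀ a ∈ P, ∀ b c, ∀ d ∈ P, s * a * s⁻¹ * b⁻¹ ∈ Q → s * b * s⁻¹ * c⁻¹ ∈ Q → s * c * s⁻¹ * d⁻¹ ∈ Q → a = d :=
    fun a ha b c d hd k1 k2 k3 => PQ a ha d hd (by
      simpa only [pow_three, mul_inv_rev, mul_assoc, inv_mul_cancel_left, mul_inv_cancel_left] using
        mul_mem (mul_mem (h.cj (Pz a ha) s3) (inv_mem s3)) (mul_mem (mul_mem (h.cj sz (h.cj sz k1)) (h.cj sz k2)) k3))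
  have T1 : ∀ a ∈ P, a ∉ zpowers t → ∀ b ∈ P, s * a * s⁻¹ * b⁻¹ ∈ Q → b ∉ zpowers t ∧ a * b ∉ zpowers t := by
    intro a ha k1 b hb k2
    refine ⟨fun k => k1 ?_, fun k => ?_⟩
    · have k3 : s * b * s⁻¹ * b⁻¹ ∈ Q := by
        rcases (mem_zp2 hP.t2).1 k with rfl | rfl
        · simp
        · exact h.tc s sz
      rwa [T3 a ha b b b hb k2 k3 k3]
    · rcases (mem_zp2 hP.t2).1 k with e | e
      · rw [eq_inv_of_mul_eq_one_right e, hP.inv_eq ha k1] at k2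
        have k3 := Tm a _ (mul_mem ha hP.mem) k2
        rw [mul_assoc a t t, hP.t2, mul_one] at k3
        exact hP.t1 (left_eq_mul.1 (T3 a ha _ _ _ (mul_mem ha hP.mem) k2 k3 k2))
      · rw [← hP.sq' ha k1, mul_right_inj] at e
        exact k1 (h2 a ha (e ▸ k2))
  obtain ⟨i, hi, i1⟩ := hP.ex_out
  obtain ⟨j, hj, ij⟩ := h1 i hi
  obtain ⟨k, hk, jk⟩ := h1 j hj
  obtain ⟨l, hl, kl⟩ := h1 k hk
  obtain rfl := T3 i hi j k l hl ij jk kl
  obtain ⟨j1, j2⟩ := T1 i hi i1 j hj ij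
  obtain ⟨k1, k2⟩ := T1 j hj j1 k hk jk
  have k3 : i * k ∉ zpowers t := fun e => (T1 k hk k1 i hi kl).2 (by
    rcases (mem_zp2 hP.t2).1 e with e | e
    · rw [mul_eq_one_comm.1 e]; exact one_mem _
    · rw [show k * i = i⁻¹ * (i * k) * i by group, e, mul_assoc, ← hP.ct hi, inv_mul_cancel_left]; exact mem_zpowers t)
  have k4 := (((hP.cover hi hj i1 j1 j2 hk).resolve_left k1).resolve_left k3).resolve_left k2
  obtain ⟨W, _, _, φ, ρ, cW, φm, φ0, φs, hρ⟩ := model h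
  have ρm : ∀ a b, a * z = z * a → b * z = z * b → ρ (a * b) = ρ a * ρ b := fun a b ha hb => LinearMap.ext fun w => by
    obtain ⟨c, hc, rfl⟩ := φs w
    rw [Module.End.mul_apply, hρ b hb c hc, hρ a ha _ (h.cj hb hc), hρ _ (Commute.mul_left ha hb) c hc]
    exact congrArg φ (by group)
  have ρQ : ∀ a ∈ Q, ρ a = 1 := fun a ha => LinearMap.ext fun w => by
    obtain ⟨c, hc, rfl⟩ := φs w
    obtain ⟨v, hv, e⟩ := h.cj_eq ha hc
    rw [hρ a (h.Qz a ha) c hc, e, φm c hc v (h.ZleQ hv), (φ0 v (h.ZleQ hv)).2 hv, add_zero]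
    rfl
  have ρt : ρ t = -1 := LinearMap.ext fun w => by
    obtain ⟨c, hc, rfl⟩ := φs w
    rw [hρ t h.tz c hc]
    exact eq_neg_of_add_eq_zero_left ((φm _ (h.cj h.tz hc) c hc).symm.trans ((φ0 _ (mul_mem (h.cj h.tz hc) hc)).2 (hq c hc)))
  have ρ2 : ∀ a ∈ P, a ∉ zpowers t → ρ a * ρ a = -1 := fun a ha k => by
    rw [← ρm a a (Pz a ha) (Pz a ha), hP.sq' ha k, ρt]
  have ρs : ∀ a ∈ P, ∀ b ∈ P, s * a * s⁻¹ * b⁻¹ ∈ Q → ρ s * ρ a = ρ b * ρ s := fun a ha b hb k => by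
    rw [← ρm s a sz (Pz a ha), show s * a = s * a * s⁻¹ * b⁻¹ * (b * s) by group,
      ρm _ _ (h.Qz _ k) (Commute.mul_left (Pz b hb) sz), ρQ _ k, one_mul, ρm b s (Pz b hb) sz]
  obtain ⟨U, U0, U1, Ui, Uj, Us⟩ := lin cW (ρ2 i hi i1) (ρ2 j hj j1) (K := ρ k) (S := ρ s) (by
      rw [← ρm i j (Pz i hi) (Pz j hj), mul_inv_eq_iff_eq_mul.1 (hP.anti hi hj i1 j1 j2),
        ρm _ _ (Pz _ (mul_mem hj hP.mem)) (Pz i hi), ρm j t (Pz j hj) h.tz, ρt, mul_neg_one, neg_mul])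
    (by
      rw [← ρm i j (Pz i hi) (Pz j hj), ← ρm _ k (Pz _ (mul_mem hi hj)) (Pz k hk)]
      exact ((mem_zp2 hP.t2).1 k4).imp (fun e => by rw [e, ρQ 1 (one_mem _)]) fun e => by rw [e, ρt])
    (ρs i hi j hj ij) (ρs j hj k hk jk) (ρs k hk i hi kl)
    (by rw [← ρm s s sz sz, ← ρm _ s (Commute.mul_left sz sz) sz, ← pow_three', ρQ _ s3])
  let U' : Subgroup G :=
    { carrier := {a | a ∈ Q ∧ φ a ∈ U}
      one_mem' := ⟨one_mem _, (φ0 1 (one_mem _)).2 (one_mem _) ▸ zero_mem _⟩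
      mul_mem' := fun {a b} ha hb => ⟨mul_mem ha.1 hb.1, φm a ha.1 b hb.1 ▸ add_mem ha.2 hb.2⟩
      inv_mem' := fun {a} ha => ⟨inv_mem ha.1, by
        have e := φm _ (inv_mem ha.1) a ha.1
        rw [inv_mul_cancel, (φ0 1 (one_mem _)).2 (one_mem _)] at e
        rw [eq_neg_of_add_eq_zero_left e.symm]
        exact neg_mem ha.2⟩ }
  have nU : ∀ g, g * z = z * g → (∀ w ∈ U, ρ g w ∈ U) → g ∈ normalizer (U' : Set G) := fun g hg k =>
    mem_normalizer_fintype fun a ha => ⟨h.cj hg ha.1, hρ g hg a ha.1 ▸ k _ ha.2⟩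
  have nt : zpowers t ≤ normalizer (U' : Set G) := zpowers_le.2 (nU t h.tz fun w hw => ρt ▸ neg_mem hw)
  have ni := nU i (Pz i hi) Ui
  have nj := nU j (Pz j hj) Uj
  refine ⟨U', lt_of_le_of_ne (fun a ha => ⟨h.ZleQ ha, (φ0 a (h.ZleQ ha)).2 ha ▸ zero_mem _⟩) fun e => U0 ?_,
    lt_of_le_of_ne (fun a ha => ha.1) fun e => U1 ?_, fun a ha => nU a (h.Qz a ha) fun w hw => ρQ a ha ▸ hw,
    fun p hp => ?_, nU s sz Us⟩
  · refine (Submodule.eq_bot_iff _).2 fun w hw => ?_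
    obtain ⟨a, ha, rfl⟩ := φs w
    exact (φ0 a ha).2 (e ▸ (⟨ha, hw⟩ : a ∈ U'))
  · refine Submodule.eq_top_iff'.2 fun w => ?_
    obtain ⟨a, ha, rfl⟩ := φs w
    exact (e ▸ ha : a ∈ U').2
  · rcases hP.cover hi hj i1 j1 j2 hp with e | e | e | e
    · exact nt e
    · exact (mul_mem_cancel_left ni).1 (nt e)
    · exact (mul_mem_cancel_left nj).1 (nt e)
    · exact (mul_mem_cancel_left (mul_mem ni nj)).1 (nt e)

end RedB

theorem redBThm : RedBThm.{u} := by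
  intro G _ _ z t s Q P K h hP PK Kz sK s3 h1 h2 hK r A A0 Al Alt Ai Am ⟨i0, _, hu⟩
  have mono : Monotone A := (Fin.strictMono_iff_lt_succ.2 Alt).monotone
  have ZA : ∀ i, zpowers z ≤ A i := fun i => A0 ▸ mono (Fin.zero_le i)
  have AQ : ∀ i, A i ≤ Q := fun i => Al ▸ mono (Fin.le_last i)
  have hne : ∀ i, i ≠ i0 → ∀ k ∈ K, ∀ a ∈ A i.succ, k * a * k⁻¹ * a⁻¹ ∈ A i.castSucc := fun i hi k hk a ha =>
    by_contra fun e => hi (hu i ⟨k, hk, a, ha, e⟩)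
  have tK := PK hP.mem
  have nt : ¬ ∀ a ∈ Q, t * a = a * t := fun k => hP.t1 (h.one_of_sq (h.ZleQ (h.ZQ t k)) hP.t2)
  have mx : ∀ B, A i0.castSucc < B → B < A i0.succ → ¬ ∀ k ∈ K, ∀ b ∈ B, k * b * k⁻¹ ∈ B := fun B k1 k2 k3 => by
    obtain ⟨k, hk, b, hb, e⟩ := Am i0 B k1 k2
    exact e (k3 k hk b hb)
  have e1 : ∀ b ∈ A i0.succ, t * b * t⁻¹ * b⁻¹ ∈ A i0.castSucc → b ∈ A i0.castSucc := fun b hb k => by_contra fun e =>
    mx (RedB.fx h (ZA _) (AQ _) (AQ i0.succ)) (SetLike.lt_iff_le_and_exists.2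
      ⟨fun a ha => ⟨(Alt i0).le ha, mul_mem (Ai _ t tK a ha) (inv_mem ha)⟩, b, And.intro hb k, e⟩)
      (lt_of_le_of_ne (fun a ha => ha.1) fun e' => nt fun a ha => RedB.ch h A0 AQ h.tz (hP.four hP.mem) (M := ⊤)
        (fun _ _ => trivial) (fun i a ha _ => if hi : i = i0 then by
          subst hi; exact (e'.ge ha).2 else hne i hi t tK a ha)
        (Fin.last r) a (Al ▸ ha) trivial)
      fun g hg a ha => ⟨Ai _ g hg a ha.1, by
        obtain ⟨w, hw, e⟩ := h.tcj (Kz g hg) (AQ _ ha.1)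
        rw [e, mul_assoc _ w, ← Ex.cz hw (h.Qz _ (inv_mem (AQ _ (Ai _ g hg a ha.1)))), ← mul_assoc]
        refine mul_mem ?_ (ZA _ hw)
        simpa only [mul_inv_rev, inv_inv, mul_assoc, inv_mul_cancel_left] using Ai _ g hg _ ha.2⟩
  refine ⟨?_, fun p hp a ha ta => RedB.ch h A0 AQ (Kz p (PK hp)) (hP.four hp) (M := centralizer {t})
    (fun a ha => mul_mem (mul_mem (mc.2 (hP.ct hp)) ha) (inv_mem (mc.2 (hP.ct hp)))) (fun i a ha hm => if hi : i = i0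
      then by
        subst hi
        have := e1 a ha (by rw [← mc.1 hm]; simp)
        exact mul_mem (Ai _ p (PK hp) a this) (inv_mem this)
      else hne i hi p (PK hp) a ha) (Fin.last r) a (Al ▸ ha) (mc.2 ta)⟩
  have c0 := h.card01
  have c1 : Nat.card h.Q1 ≤ 243 := h.cQ ▸ card_le_of_le fun _ k => k.1
  obtain ⟨j, hj, c2⟩ := (Nat.dvd_prime_pow Nat.prime_three).1
    (show Nat.card (Q ⊓ centralizer {t} : Subgroup G) ∣ 3 ^ 5 from (card_dvd_of_le inf_le_left).trans h.cQ.dvd)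
  rw [c2] at c0
  interval_cases j
  · omega
  · have e2 : h.Q1 = Q := eq_of_le_of_card_ge (fun _ k => k.1) (by rw [h.cQ]; omega)
    have hq : ∀ a ∈ Q, t * a * t⁻¹ * a ∈ zpowers z := fun a ha => (e2.ge ha).2
    have e3 : ∀ i, i = i0 := fun i => by_contra fun hi => (Alt i).not_ge fun a ha => by
      have := mul_mem (inv_mem (hne i hi t tK a ha)) (ZA _ (hq a (AQ _ ha)))
      rw [← inv_mem_iff, inv_eq_of_mul_eq_one_left (show a * a * a = 1 from pow_three' a ▸ h.Q3 a (AQ _ ha))]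
      simpa only [mul_inv_rev, inv_inv, mul_assoc, inv_mul_cancel_left, mul_inv_cancel_left] using this
    obtain ⟨U, U1, U2, n1, n2, n3⟩ := RedB.inv_sub h hP (fun p hp => Kz p (PK hp)) (Kz s sK) s3 h1 h2 hq
    have e4 := congrArg Fin.val (e3 ⟨0, i0.pos⟩)
    have e5 := congrArg Fin.val (e3 ⟨r - 1, Nat.sub_one_lt i0.pos.ne'⟩)
    refine absurd (fun k hk b hb => ?_) (mx U (by rwa [show i0.castSucc = 0 from Fin.ext e4.symm, A0])
      (by rwa [show i0.succ = Fin.last r from Fin.ext (by have := i0.pos; simp at e5 ⊢; omega), Al]))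
    obtain ⟨a, ha, p, hp, n, rfl⟩ := hK k hk
    exact (mem_normalizer_iff.1 (mul_mem (mul_mem (n1 ha) (n2 hp)) (pow_mem n3 n)) b).1 hb
  · obtain ⟨c, hc, k1, k2⟩ := RedB.nine h c2
    refine absurd (h.ZQ c fun a ha => ?_) k1
    obtain ⟨d, hd, i, hi, dt, ti, rfl⟩ := h.split ha
    exact Commute.mul_right (k2 d ⟨hd, mc.2 dt⟩) (h.orth hc.1 (mc.1 hc.2) (h.Q1_of_inv hi ti))
  · exact c2
  · obtain ⟨c, hc, k1, k2⟩ := RedB.nine h (A := h.Q1) (by omega)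
    refine absurd (h.ZQ c fun a ha => ?_) k1
    obtain ⟨d, hd, i, hi, dt, ti, rfl⟩ := h.split ha
    exact Commute.mul_right (h.orth hd dt hc).symm (k2 i (h.Q1_of_inv hi ti))
  · refine absurd (fun a ha => ?_) nt
    exact (mc.1 ((eq_of_le_of_card_ge (inf_le_left (b := centralizer {t})) (by rw [h.cQ, c2]; rfl)).ge ha).2).symm

end CL.Ast
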